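import Groth.Agent.L22.Bundle.UPBridge
import Groth.Agent.L19.ProjBdl.Basis
import Groth.Agent.L18.AmplePull

/-!
Projective bundles are stable under base change.
-/

set_option autoImplicit false
set_option linter.style.haveILetI false
set_option backward.isDefEq.respectTransparency.types false
set_option backward.isDefEq.respectTransparency false

universe u

open CategoryTheory CategoryTheory.Limits AlgebraicGeometry TopologicalSpace Opposite
open Groth.L18.Frame (rs rs_self rs_rs pull)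
open Groth.L19.ProjBdl (pull_comp pull_congr pull_app app_rs)

noncomputable section

namespace Groth.L22.Bundle

variable {X Y Z P P' T : Scheme.{u}}

/-- The comparison of pullbacks along a composite. -/
def cH (f : X ⟶ Y) (g : Y ⟶ Z) (M : Z.Modules) :
    (Scheme.Modules.pullback f).obj ((Scheme.Modules.pullback g).obj M) ⟶ (Scheme.Modules.pullback (f ≫ g)).obj M :=
  (Scheme.Modules.pullbackComp f g).hom.app M

/-- Its inverse. -/
def cI (f : X ⟶ Y) (g : Y ⟶ Z) (M : Z.Modules) :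
    (Scheme.Modules.pullback (f ≫ g)).obj M ⟶ (Scheme.Modules.pullback f).obj ((Scheme.Modules.pullback g).obj M) :=
  (Scheme.Modules.pullbackComp f g).inv.app M

theorem cI_cH (f : X ⟶ Y) (g : Y ⟶ Z) (M : Z.Modules) : cI f g M ≫ cH f g M = 𝟙 _ :=
  (Scheme.Modules.pullbackComp f g).inv_hom_id_app M

theorem cH_cI (f : X ⟶ Y) (g : Y ⟶ Z) (M : Z.Modules) : cH f g M ≫ cI f g M = 𝟙 _ :=
  (Scheme.Modules.pullbackComp f g).hom_inv_id_app M

instance isIso_cH (f : X ⟶ Y) (g : Y ⟶ Z) (M : Z.Modules) : IsIso (cH f g M) := ⟨cI f g M, cH_cI f g M, cI_cH f g M⟩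

instance isIso_cI (f : X ⟶ Y) (g : Y ⟶ Z) (M : Z.Modules) : IsIso (cI f g M) := ⟨cH f g M, cI_cH f g M, cH_cI f g M⟩

theorem pull_cI (f : X ⟶ Y) (g : Y ⟶ Z) (M : Z.Modules) (V : Z.Opens) (m : Γ(M, V)) :
    (cI f g M).app ((f ≫ g) ⁻¹ᵁ V) (pull (f ≫ g) M V m) =
      pull f ((Scheme.Modules.pullback g).obj M) (g ⁻¹ᵁ V) (pull g M V m) :=
  pull_comp f g M V m

theorem pull_cH (f : X ⟶ Y) (g : Y ⟶ Z) (M : Z.Modules) (V : Z.Opens) (m : Γ(M, V)) :
    (cH f g M).app ((f ≫ g) ⁻¹ᵁ V) (pull f ((Scheme.Modules.pullback g).obj M) (g ⁻¹ᵁ V) (pull g M V m)) =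
      pull (f ≫ g) M V m := by
  rw [← pull_cI f g M V m]
  exact congr($(cI_cH f g M).app ((f ≫ g) ⁻¹ᵁ V) (pull (f ≫ g) M V m))

/-- Transport along an equality of morphisms. -/
def gH {g g' : X ⟶ Y} (e : g = g') (M : Y.Modules) :
    (Scheme.Modules.pullback g).obj M ⟶ (Scheme.Modules.pullback g').obj M :=
  (Scheme.Modules.pullbackCongr e).hom.app M

theorem gH_inv {g g' : X ⟶ Y} (e : g = g') (M : Y.Modules) :
    (Scheme.Modules.pullbackCongr e).inv.app M = gH e.symm M := by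
  subst e; simp [gH, Scheme.Modules.pullbackCongr]

theorem gH_refl {g : X ⟶ Y} (e : g = g) (M : Y.Modules) : gH e M = 𝟙 _ := by simp [gH, Scheme.Modules.pullbackCongr]

instance isIso_gH {g g' : X ⟶ Y} (e : g = g') (M : Y.Modules) : IsIso (gH e M) := by
  subst e; rw [gH_refl]; infer_instance

theorem pull_gH {g g' : X ⟶ Y} (e : g = g') (M : Y.Modules) (V : Y.Opens) (m : Γ(M, V))
    (e' : g ⁻¹ᵁ V = g' ⁻¹ᵁ V) :
    (gH e M).app (g ⁻¹ᵁ V) (pull g M V m) =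
      rs ((Scheme.Modules.pullback g').obj M) e'.le (pull g' M V m) := by
  subst e
  rw [gH_refl, rs_self]
  rfl

variable {π : P ⟶ Y} {E : Y.Modules} {O1 : P.Modules} (q : (Scheme.Modules.pullback π).obj E ⟶ O1)
  {f : X ⟶ Y} {π' : P' ⟶ X} {f' : P' ⟶ P} (w : f' ≫ π = π' ≫ f)

/-- The quotient on a base change. -/
def bcQuot : (Scheme.Modules.pullback π').obj ((Scheme.Modules.pullback f).obj E) ⟶
    (Scheme.Modules.pullback f').obj O1 :=
  cH π' f E ≫ gH w.symm E ≫ cI f' π E ≫ (Scheme.Modules.pullback f').map q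

theorem bc_key (r : T ⟶ P') (hk : (r ≫ f') ≫ π = (r ≫ π') ≫ f) :
    cI (r ≫ π') f E ≫ cI r π' ((Scheme.Modules.pullback f).obj E) ≫
        (Scheme.Modules.pullback r).map (bcQuot q w) ≫ cH r f' O1 =
      gH hk.symm E ≫ cI (r ≫ f') π E ≫ (Scheme.Modules.pullback (r ≫ f')).map q := by
  refine Groth.L18.PBundle.hom_ext_pull fun U e => ?_
  have hW : ((π' ≫ f) ⁻¹ᵁ U) = ((f' ≫ π) ⁻¹ᵁ U) := by rw [w]
  have hq : (bcQuot q w).app (π' ⁻¹ᵁ (f ⁻¹ᵁ U)) (pull π' _ (f ⁻¹ᵁ U) (pull f E U e)) =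
      rs _ hW.le (pull f' O1 (π ⁻¹ᵁ U) (q.app (π ⁻¹ᵁ U) (pull π E U e))) := by
    show ((Scheme.Modules.pullback f').map q).app _ ((cI f' π E).app _
      ((gH w.symm E).app _ ((cH π' f E).app ((π' ≫ f) ⁻¹ᵁ U) (pull π' _ (f ⁻¹ᵁ U) (pull f E U e))))) = _
    rw [pull_cH, pull_gH w.symm E U e hW, app_rs, pull_cI, app_rs]
    exact congrArg (rs _ hW.le) (pull_app f' q (π ⁻¹ᵁ U) _)
  have hU : ((r ≫ π') ≫ f) ⁻¹ᵁ U = ((r ≫ f') ≫ π) ⁻¹ᵁ U := by rw [hk]
  show (cH r f' O1).app _ (((Scheme.Modules.pullback r).map (bcQuot q w)).app _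
      ((cI r π' ((Scheme.Modules.pullback f).obj E)).app ((r ≫ π') ⁻¹ᵁ (f ⁻¹ᵁ U))
        ((cI (r ≫ π') f E).app (((r ≫ π') ≫ f) ⁻¹ᵁ U) (pull ((r ≫ π') ≫ f) E U e)))) =
    ((Scheme.Modules.pullback (r ≫ f')).map q).app _ ((cI (r ≫ f') π E).app _
      ((gH hk.symm E).app (((r ≫ π') ≫ f) ⁻¹ᵁ U) (pull ((r ≫ π') ≫ f) E U e)))
  rw [pull_gH hk.symm E U e hU, app_rs, pull_cI (r ≫ f') π, app_rs, pull_cI (r ≫ π') f]
  erw [pull_cI r π' ((Scheme.Modules.pullback f).obj E) (f ⁻¹ᵁ U) (pull f E U e)]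
  erw [pull_app r (bcQuot q w) (π' ⁻¹ᵁ (f ⁻¹ᵁ U)) (pull π' _ (f ⁻¹ᵁ U) (pull f E U e))]
  rw [hq]
  erw [← Groth.L18.Frame.pull_rs, app_rs]
  refine congrArg (rs _ hU.le) ?_
  refine (pull_cH r f' O1 (π ⁻¹ᵁ U) _).trans ?_
  exact (pull_app (r ≫ f') q (π ⁻¹ᵁ U) _).symm

theorem isProjBundle_baseChange (hP : KRR.IsProjBundle π E O1 q) (hsq : IsPullback f' π' π f) :
    KRR.IsProjBundle π' ((Scheme.Modules.pullback f).obj E) ((Scheme.Modules.pullback f').obj O1)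
      (bcQuot q hsq.w) := by
  refine ⟨isFinLocFree_one (Groth.L18.Ample.isInvertible_pullback f' (isInvertible_of_one hP.invertible)), ?_,
    fun T g L hL s hs => ?_⟩
  · haveI := hP.epi
    haveI : (Scheme.Modules.pullback f').PreservesEpimorphisms :=
      Functor.preservesEpimorphisms_of_adjunction (Scheme.Modules.pullbackPushforwardAdjunction f')
    unfold bcQuot
    infer_instance
  haveI := hs
  let s0 := cI g f E ≫ s
  obtain ⟨h0, ⟨hh0, e0, he0⟩, huniq⟩ := hP.univ T (g ≫ f) L hL s0 inferInstance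
  refine ⟨hsq.lift h0 g hh0, ?_, fun r' hr' => ?_⟩
  · have h1 := hsq.lift_fst h0 g hh0
    have h2 := hsq.lift_snd h0 g hh0
    revert h1 h2
    generalize hsq.lift h0 g hh0 = r
    intro h1 h2
    subst h1 h2
    refine ⟨rfl, (asIso (cH r f' O1) : _) ≪≫ e0, ?_⟩
    rw [gH_inv, gH_refl, Category.id_comp, ← cancel_epi (cI (r ≫ π') f E)]
    refine Eq.trans ?_ he0
    show cI (r ≫ π') f E ≫ cI r π' _ ≫ (Scheme.Modules.pullback r).map (bcQuot q hsq.w) ≫ cH r f' O1 ≫ e0.hom = _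
    have hk := bc_key q hsq.w r hh0
    rw [gH_inv]
    show _ = gH hh0.symm E ≫ cI (r ≫ f') π E ≫ (Scheme.Modules.pullback (r ≫ f')).map q ≫ e0.hom
    rw [reassoc_of% hk]
  · obtain ⟨hr', e', he'⟩ := hr'
    subst hr'
    have hk : (r' ≫ f') ≫ π = (r' ≫ π') ≫ f := by rw [Category.assoc, hsq.w, ← Category.assoc]
    have h1 : r' ≫ f' = h0 := huniq _ ⟨hk, (asIso (cH r' f' O1)).symm ≪≫ e', by
      rw [gH_inv, gH_refl, Category.id_comp] at he'
      replace he' : cI r' π' _ ≫ (Scheme.Modules.pullback r').map (bcQuot q hsq.w) ≫ e'.hom = s := he'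
      rw [gH_inv]
      show gH hk.symm E ≫ cI (r' ≫ f') π E ≫ (Scheme.Modules.pullback (r' ≫ f')).map q ≫ inv (cH r' f' O1) ≫ e'.hom = _
      rw [← reassoc_of% (bc_key q hsq.w r' hk), IsIso.hom_inv_id_assoc]
      exact congrArg (cI (r' ≫ π') f E ≫ ·) he'⟩
    exact hsq.hom_ext (h1.trans (hsq.lift_fst _ _ _).symm) (hsq.lift_snd _ _ _).symm

end Groth.L22.Bundle
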