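import Groth.Agent.L22.Bundle.ChartAlg
import Groth.Agent.L19.ProjBdl.Chart

/-!
The primes of the points in a chart of a projective bundle.
-/

set_option autoImplicit false
set_option linter.style.haveILetI false
set_option backward.isDefEq.respectTransparency.types false
set_option backward.isDefEq.respectTransparency false

universe u

open CategoryTheory CategoryTheory.Limits AlgebraicGeometry TopologicalSpace Opposite

noncomputable section

namespace Groth.L22.Bundle

open Groth.L18.Frame (rs ro rs_rs ro_ro rs_smul ro_self rs_self IsFrame)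
open Groth.L19.ProjBdl (IsBasisOn locus crd sec ratio Acrd)

variable {X P : Scheme.{u}} {p : P ⟶ X} {F : X.Modules} {O1 : P.Modules}
  {q : (Scheme.Modules.pullback p).obj F ⟶ O1} {V : X.Opens} {n : ℕ} {b : Fin n → Γ(F, V)}

variable (p q b) in
/-- Coordinates on the functions of a chart. -/
structure CData (l : Fin n) where
  aff : IsAffineOpen (locus p q b l)
  θ : Acrd V l ≃+* Γ(P, locus p q b l)
  θ_C : ∀ a, θ (MvPolynomial.C a) = p.appLE V (locus p q b l) (Groth.L19.ProjBdl.locus_le p q b l) a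
  θ_ratio : ∀ i, θ (ratio V l i) = crd p q b l i

theorem nonempty_cData (hPB : KRR.IsProjBundle p F O1 q) (hb : IsBasisOn F V b) (hV : IsAffineOpen V)
    (l : Fin n) : Nonempty (CData p q b l) := by
  obtain ⟨j, hj, hW, hr, hjp, hjr⟩ := Groth.L19.ProjBdl.exists_chart hPB hb hV l
  let B := CommRingCat.of (Acrd V l)
  let ψ : Γ(P, locus p q b l) ⟶ B := j.appLE (locus p q b l) ⊤ hW ≫ (Scheme.ΓSpecIso B).hom
  haveI : IsIso (j.app (locus p q b l)) := Scheme.Hom.isIso_app j _ hr.ge
  haveI : IsIso (j.appLE (locus p q b l) ⊤ hW) := by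
    have e : j ⁻¹ᵁ locus p q b l = ⊤ := eq_top_iff.2 hW
    rw [Scheme.Hom.appLE, show homOfLE hW = eqToHom e.symm from Subsingleton.elim _ _]
    infer_instance
  haveI : IsIso ψ := inferInstance
  let θ : Acrd V l ≃+* Γ(P, locus p q b l) := (asIso ψ).commRingCatIsoToRingEquiv.symm
  have inv_eq : ∀ (x : Γ(P, locus p q b l)) (f : Acrd V l), ψ x = f → θ f = x := fun x f h => by
    subst h
    exact (asIso ψ).commRingCatIsoToRingEquiv.symm_apply_apply x
  have hle := Groth.L19.ProjBdl.locus_le p q b l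
  refine ⟨⟨Groth.L19.ProjBdl.isAffineOpen_locus hPB hb hV l, θ, fun a => inv_eq _ _ ?_,
    fun i => inv_eq _ _ ?_⟩⟩
  · show (Scheme.ΓSpecIso B).hom (j.appLE (locus p q b l) ⊤ hW (p.appLE V (locus p q b l) hle a)) = _
    rw [← CommRingCat.comp_apply (p.appLE _ _ _), Scheme.Hom.appLE_comp_appLE]
    simp only [hjp]
    rw [← Scheme.Hom.appLE_comp_appLE _ hV.fromSpec V ⊤ ⊤ hV.fromSpec_preimage_self.ge le_top]
    have h4 : hV.fromSpec.appLE V ⊤ hV.fromSpec_preimage_self.ge = (Scheme.ΓSpecIso Γ(X, V)).inv := by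
      rw [Scheme.Hom.appLE, hV.fromSpec_app_self, Category.assoc, ← Functor.map_comp]
      exact (congrArg ((Scheme.ΓSpecIso Γ(X, V)).inv ≫ ·) ((Spec Γ(X, V)).presheaf.map_id _)).trans
        (Category.comp_id _)
    rw [h4, show (Spec.map (CommRingCat.ofHom (MvPolynomial.C : Γ(X, V) →+* Acrd V l))).appLE ⊤ ⊤ le_top =
      (Spec.map (CommRingCat.ofHom (MvPolynomial.C : Γ(X, V) →+* Acrd V l))).appTop from
        (Scheme.Hom.app_eq_appLE _).symm, ← Scheme.ΓSpecIso_inv_naturality]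
    exact congr($((Scheme.ΓSpecIso B).inv_hom_id) (MvPolynomial.C a))
  · show (Scheme.ΓSpecIso B).hom (j.appLE (locus p q b l) ⊤ hW (crd p q b l i)) = _
    rw [hjr]
    exact congr($((Scheme.ΓSpecIso B).inv_hom_id) (ratio V l i))

variable {l : Fin n} (c : CData p q b l)

/-- The functions of a chart in the local ring at a point. -/
def CData.g (z : P) (hz : z ∈ locus p q b l) : Acrd V l →+* P.presheaf.stalk z :=
  (P.presheaf.germ (locus p q b l) z hz).hom.comp c.θ.toRingHom

/-- The prime of a point of the chart. -/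
def CData.pr (z : P) (hz : z ∈ locus p q b l) : Ideal (Acrd V l) :=
  (IsLocalRing.maximalIdeal (P.presheaf.stalk z)).comap (c.g z hz)

instance CData.isPrime_pr (z : P) (hz : z ∈ locus p q b l) : (c.pr z hz).IsPrime :=
  Ideal.IsPrime.comap _

theorem CData.pr_eq (z : P) (hz : z ∈ locus p q b l) :
    c.pr z hz = (c.aff.primeIdealOf ⟨z, hz⟩).asIdeal.comap c.θ.toRingHom := by
  letI := P.presheaf.algebra_section_stalk (⟨z, hz⟩ : locus p q b l)
  haveI : IsLocalization.AtPrime (P.presheaf.stalk z) (c.aff.primeIdealOf ⟨z, hz⟩).asIdeal :=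
    c.aff.isLocalization_stalk ⟨z, hz⟩
  rw [CData.pr, CData.g, ← Ideal.comap_comap]
  congr 1
  exact IsLocalization.AtPrime.under_maximalIdeal (P.presheaf.stalk z) (c.aff.primeIdealOf ⟨z, hz⟩).asIdeal

theorem CData.maximalIdeal_eq (z : P) (hz : z ∈ locus p q b l) :
    IsLocalRing.maximalIdeal (P.presheaf.stalk z) = (c.pr z hz).map (c.g z hz) := by
  letI := P.presheaf.algebra_section_stalk (⟨z, hz⟩ : locus p q b l)
  haveI : IsLocalization.AtPrime (P.presheaf.stalk z) (c.aff.primeIdealOf ⟨z, hz⟩).asIdeal :=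
    c.aff.isLocalization_stalk ⟨z, hz⟩
  rw [CData.g, ← Ideal.map_map, c.pr_eq, Ideal.map_comap_of_surjective c.θ.toRingHom c.θ.surjective]
  exact (IsLocalization.AtPrime.map_eq_maximalIdeal (c.aff.primeIdealOf ⟨z, hz⟩).asIdeal _).symm

theorem CData.exists_pr_eq (R : Ideal (Acrd V l)) [hR : R.IsPrime] :
    ∃ (z : P) (hz : z ∈ locus p q b l), c.pr z hz = R := by
  haveI : (R.comap c.θ.symm.toRingHom).IsPrime := Ideal.IsPrime.comap _
  let y : PrimeSpectrum Γ(P, locus p q b l) := ⟨R.comap c.θ.symm.toRingHom, inferInstance⟩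
  have hy : c.aff.fromSpec y ∈ locus p q b l := c.aff.range_fromSpec.le ⟨y, rfl⟩
  refine ⟨_, hy, ?_⟩
  rw [c.pr_eq, show c.aff.primeIdealOf ⟨c.aff.fromSpec y, hy⟩ = y from
    c.aff.fromSpec.isOpenEmbedding.injective (c.aff.fromSpec_primeIdealOf _)]
  ext f
  simp [y]

theorem CData.specializes_iff (z z' : P) (hz : z ∈ locus p q b l) (hz' : z' ∈ locus p q b l) :
    z ⤳ z' ↔ c.pr z hz ≤ c.pr z' hz' := by
  rw [c.pr_eq, c.pr_eq]
  have h : z ⤳ z' ↔ c.aff.primeIdealOf ⟨z, hz⟩ ⤳ c.aff.primeIdealOf ⟨z', hz'⟩ := by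
    have h0 := c.aff.fromSpec.isOpenEmbedding.isInducing.specializes_iff
      (x := c.aff.primeIdealOf ⟨z, hz⟩) (y := c.aff.primeIdealOf ⟨z', hz'⟩)
    rwa [c.aff.fromSpec_primeIdealOf, c.aff.fromSpec_primeIdealOf] at h0
  rw [h, ← PrimeSpectrum.le_iff_specializes, ← PrimeSpectrum.asIdeal_le_asIdeal]
  refine ⟨fun h => Ideal.comap_mono h, fun h => ?_⟩
  have := Ideal.map_mono (f := c.θ.toRingHom) h
  rwa [Ideal.map_comap_of_surjective c.θ.toRingHom c.θ.surjective, Ideal.map_comap_of_surjective c.θ.toRingHom c.θ.surjective] at this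

theorem CData.g_C (z : P) (hz : z ∈ locus p q b l) (a : Γ(X, V)) :
    c.g z hz (MvPolynomial.C a) =
      p.stalkMap z (X.presheaf.germ V (p z) (Groth.L19.ProjBdl.locus_le p q b l hz) a) := by
  show P.presheaf.germ _ z hz (c.θ (MvPolynomial.C a)) = _
  rw [c.θ_C, Scheme.Hom.germ_stalkMap_apply, Scheme.Hom.appLE]
  exact TopCat.Presheaf.germ_res_apply P.presheaf (homOfLE (Groth.L19.ProjBdl.locus_le p q b l)) z hz
    (p.app V a)

theorem CData.comap_C_pr (hV : IsAffineOpen V) (z : P) (hz : z ∈ locus p q b l) :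
    (c.pr z hz).comap MvPolynomial.C =
      (hV.primeIdealOf ⟨p z, Groth.L19.ProjBdl.locus_le p q b l hz⟩).asIdeal := by
  letI := X.presheaf.algebra_section_stalk (⟨p z, Groth.L19.ProjBdl.locus_le p q b l hz⟩ : V)
  haveI : IsLocalization.AtPrime (X.presheaf.stalk (p z))
      (hV.primeIdealOf ⟨p z, Groth.L19.ProjBdl.locus_le p q b l hz⟩).asIdeal :=
    hV.isLocalization_stalk ⟨p z, Groth.L19.ProjBdl.locus_le p q b l hz⟩
  rw [← IsLocalization.AtPrime.under_maximalIdeal (X.presheaf.stalk (p z))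
    (hV.primeIdealOf ⟨p z, Groth.L19.ProjBdl.locus_le p q b l hz⟩).asIdeal]
  ext a
  show c.g z hz (MvPolynomial.C a) ∈ IsLocalRing.maximalIdeal _ ↔ _
  rw [c.g_C, IsLocalRing.mem_maximalIdeal, mem_nonunits_iff]
  show _ ↔ X.presheaf.germ V (p z) _ a ∈ IsLocalRing.maximalIdeal _
  rw [IsLocalRing.mem_maximalIdeal, mem_nonunits_iff]
  exact not_congr (isUnit_map_iff (p.stalkMap z).hom _)

theorem CData.mem_locus_iff (z : P) (hz : z ∈ locus p q b l) (i : Fin n) :
    z ∈ locus p q b i ↔ ratio V l i ∉ c.pr z hz := by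
  show _ ↔ c.g z hz (ratio V l i) ∉ IsLocalRing.maximalIdeal _
  rw [show c.g z hz (ratio V l i) = P.presheaf.germ _ z hz (crd p q b l i) from
    congrArg _ (c.θ_ratio i), IsLocalRing.notMem_maximalIdeal]
  constructor
  · intro hi
    let W := locus p q b l ⊓ locus p q b i
    have hWl : W ≤ locus p q b l := inf_le_left
    have h1 : IsFrame O1 W (ro hWl (crd p q b l i) •
        rs O1 hWl (rs O1 (Groth.L19.ProjBdl.locus_le p q b l) (sec p q b l))) := by
      rw [← rs_smul, Groth.L19.ProjBdl.crd_smul, rs_rs]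
      have := (Groth.L19.ProjBdl.isFrame_locus p q b i).mono (inf_le_right : W ≤ _)
      rwa [rs_rs] at this
    have h2 := Groth.L18.Frame.isUnit_of_isFrame ((Groth.L19.ProjBdl.isFrame_locus p q b l).mono hWl) h1
    have := h2.map (P.presheaf.germ W z ⟨hz, hi⟩).hom
    rwa [show (P.presheaf.germ W z ⟨hz, hi⟩).hom (ro hWl (crd p q b l i)) =
      P.presheaf.germ _ z hz (crd p q b l i) from TopCat.Presheaf.germ_res_apply _ _ _ _ _] at this
  · intro hu
    have hzb : z ∈ P.basicOpen (crd p q b l i) := (P.mem_basicOpen _ z hz).2 hu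
    have hB := P.basicOpen_le (crd p q b l i)
    refine Groth.L19.ProjBdl.le_locus p q b (hB.trans (Groth.L19.ProjBdl.locus_le p q b l)) ?_ hzb
    have := ((Groth.L19.ProjBdl.isFrame_locus p q b l).mono hB).smul_unit
      (show IsUnit (ro hB (crd p q b l i)) from RingedSpace.isUnit_res_basicOpen P.toRingedSpace (crd p q b l i))
    rwa [← rs_smul, Groth.L19.ProjBdl.crd_smul, rs_rs] at this

end Groth.L22.Bundle
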