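import Groth.Agent.L19.ProjBdl.Loci
import Groth.Agent.L16.CohLinear
import Groth.Agent.L04.KSh.Twist
import Groth.Agent.L19.ProjBdl.Points

/-!
Adapted local bases for an extension of a finite locally free module by the structure sheaf.
-/

set_option autoImplicit false
set_option linter.style.haveILetI false
set_option backward.isDefEq.respectTransparency.types false
set_option backward.isDefEq.respectTransparency false

universe u

open CategoryTheory CategoryTheory.Limits AlgebraicGeometry TopologicalSpace Opposite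
open Groth.L18.Frame (rs ro rs_rs rs_smul rs_self IsFrame)
open Groth.L19.ProjBdl (IsBasisOn lc one1)

noncomputable section

namespace Groth.L22.Bundle

variable {X : Scheme.{u}}

/-- Sections are left exact. -/
theorem app_exact {S : ShortComplex X.Modules} (hS : S.ShortExact) (V : X.Opens) (t : Γ(S.X₂, V))
    (ht : S.g.app V t = 0) : ∃ r : Γ(S.X₁, V), S.f.app V r = t := by
  have h := Groth.L16.CohLinear.abS_shortExact hS
  let Φ := sheafToPresheaf (Opens.grothendieckTopology X) AddCommGrpCat.{u} ⋙ (evaluation _ _).obj (op V)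
  haveI := h.mono_f
  haveI : Φ.PreservesZeroMorphisms := ⟨fun _ _ => rfl⟩
  exact (ShortComplex.ab_exact_iff _).1 (h.exact.map_of_mono_of_preservesKernel Φ inferInstance inferInstance) t ht

theorem exists_basis_cons_of {E F : X.Modules} (a : Coh.structureModule X ⟶ E) (b : E ⟶ F) (hab : a ≫ b = 0)
    (hex : (ShortComplex.mk a b hab).ShortExact) (x : X) {V₁ : X.Opens} {n : ℕ} (f : Fin n → Γ(F, V₁))
    (hxV₁ : x ∈ V₁) (hf : IsBasisOn F V₁ f) :
    ∃ (V : X.Opens) (β : Fin (n + 1) → Γ(E, V)), IsAffineOpen V ∧ x ∈ V ∧ IsBasisOn E V β ∧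
      β 0 = rs E le_top (a.app ⊤ (one1 X ⊤)) := by
  haveI : Epi b := hex.epi_g
  haveI : Mono a := hex.mono_f
  choose U hU hxU e he using fun i => Groth.L19.ProjBdl.exists_local_preimage b (f i) hxV₁
  let O : X.Opens := ⟨⋂ i, (U i : Set X), isOpen_iInter_of_finite fun i => (U i).isOpen⟩
  obtain ⟨V, hV, hxV, hVO⟩ := exists_isAffineOpen_mem_and_subset (x := x) (U := O ⊓ V₁)
    ⟨Set.mem_iInter.2 hxU, hxV₁⟩
  have h1 : V ≤ V₁ := fun y hy => (hVO hy).2
  have h2 : ∀ i, V ≤ U i := fun i y hy => Set.mem_iInter.1 (hVO hy).1 i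
  let β : Fin (n + 1) → Γ(E, V) := Fin.cons (rs E le_top (a.app ⊤ (one1 X ⊤))) fun i => rs E (h2 i) (e i)
  refine ⟨V, β, hV, hxV, fun W hW => ?_, rfl⟩
  have hba : ∀ (W : X.Opens) (r : Γ(Coh.structureModule X, W)), b.app W (a.app W r) = 0 := fun W r =>
    congrArg (fun φ : Coh.structureModule X ⟶ F => φ.app W r) hab
  have ha : ∀ c : Γ(X, W), a.app W (c : Γ(Coh.structureModule X, W)) = c • rs E hW (β 0) := fun c => by
    rw [← Groth.L19.ProjBdl.smul_one1 c, Scheme.Modules.Hom.app_smul]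
    simp only [β, Fin.cons_zero, rs_rs]
    rw [← Groth.L19.ProjBdl.app_rs a le_top, Groth.L19.ProjBdl.rs_one1, Groth.L19.ProjBdl.smul_one1]
  have hbe : ∀ c : Fin (n + 1) → Γ(X, W), b.app W (lc E β hW c) = lc F f (hW.trans h1) fun i => c i.succ := by
    intro c
    rw [Groth.L19.ProjBdl.app_lc, lc, Fin.sum_univ_succ]
    have h0 : rs F hW (b.app V (β 0)) = 0 := by
      simp only [β, Fin.cons_zero]
      rw [← Groth.L19.ProjBdl.app_rs b hW, rs_rs, ← Groth.L19.ProjBdl.app_rs a le_top, hba]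
    rw [h0, smul_zero, zero_add]
    refine Finset.sum_congr rfl fun i _ => ?_
    simp only [β, Fin.cons_succ]
    rw [Groth.L19.ProjBdl.app_rs b, he, rs_rs, rs_rs]
  have hsplit : ∀ c : Fin (n + 1) → Γ(X, W), lc E β hW c =
      a.app W (c 0 : Γ(Coh.structureModule X, W)) + lc E β hW (Fin.cons 0 fun i => c i.succ) := fun c => by
    rw [ha, lc, lc, Fin.sum_univ_succ, Fin.sum_univ_succ]
    simp
  refine ⟨fun c c' hcc => ?_, fun s => ?_⟩
  · have h3 : (fun i : Fin n => c i.succ) = fun i => c' i.succ := (hf W (hW.trans h1)).1 (by rw [← hbe, ← hbe, hcc])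
    have h4 := hcc
    rw [hsplit c, hsplit c', h3, add_left_inj] at h4
    refine funext fun i => Fin.cases ?_ (fun j => congrFun h3 j) i
    exact Groth.L04.KSh.app_injective_of_mono a W h4
  · obtain ⟨d, hd⟩ := (hf W (hW.trans h1)).2 (b.app W s)
    obtain ⟨r, hr⟩ := app_exact hex W (s - lc E β hW (Fin.cons 0 d)) (by
      show b.app W (s - _) = 0
      rw [map_sub, hbe, sub_eq_zero]
      simpa using hd.symm)
    refine ⟨Fin.cons (show Γ(X, W) from r) d, ?_⟩
    rw [hsplit]
    simp only [Fin.cons_zero, Fin.cons_succ]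
    exact (congrArg (· + _) hr).trans (sub_add_cancel _ _)

theorem exists_basis_cons {E F : X.Modules} (a : Coh.structureModule X ⟶ E) (b : E ⟶ F) (hab : a ≫ b = 0)
    (hex : (ShortComplex.mk a b hab).ShortExact) (hF : FlatMod.IsFinLocFree F) (x : X) :
    ∃ (V : X.Opens) (n : ℕ) (β : Fin (n + 1) → Γ(E, V)), IsAffineOpen V ∧ x ∈ V ∧ IsBasisOn E V β ∧
      β 0 = rs E le_top (a.app ⊤ (one1 X ⊤)) := by
  obtain ⟨V₁, n, f, -, hxV₁, -, hf⟩ := Groth.L19.ProjBdl.exists_basisOn hF x ⊤ trivial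
  obtain ⟨V, β, h⟩ := exists_basis_cons_of a b hab hex x f hxV₁ hf
  exact ⟨V, n, β, h⟩

end Groth.L22.Bundle
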