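import Groth.Agent.L22.Bundle.ZeroUP
import Groth.Agent.L22.Bundle.SecBasis
import Groth.Agent.L22.Bundle.Chart
import Groth.Agent.L22.Bundle.BaseChange
import Groth.Agent.L22.C1.GysinRel
import Groth.Agent.L22.C1.Closed
import Groth.Agent.L22.Chern.Ops
import Groth.Agent.L18.Grass.MapEpi
import Groth.Agent.L18.GlobGen

/-!
The sub-bundle `P(F) ⊆ P(E)` of an extension `0 → O → E → F → 0` is the zero scheme of a regular
section of `O(1)`.
-/

set_option autoImplicit false
set_option linter.style.haveILetI false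
set_option backward.isDefEq.respectTransparency.types false
set_option backward.isDefEq.respectTransparency false

universe u

open CategoryTheory CategoryTheory.Limits AlgebraicGeometry TopologicalSpace Opposite
open Groth.L18.Frame (rs ro rs_rs rs_smul rs_self IsFrame pull pull_rs pull_smul)
open Groth.L19.ProjBdl (IsBasisOn one1 isFrame_one1)

noncomputable section

namespace Groth.L22.Bundle

theorem isQCoh_of_rank {X : Scheme.{u}} {r : ℕ} {M : X.Modules} (h : FlatMod.IsFinLocFreeOfRank r M) :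
    Coh.IsQCoh M := by
  have hM : FlatMod.IsFinLocFree M := fun x => ⟨(h x).choose, r, (h x).choose_spec.1, (h x).choose_spec.2⟩
  obtain ⟨d, -⟩ := (Groth.L18.LFP.isFP_of_isFinLocFree _ hM).exists_quasicoherentData
  exact d.isQuasicoherent

/-- A dimension function on the source is determined by the one on the base. -/
theorem delta_unique {X Y : Scheme.{u}} {f : X ⟶ Y} {δ δ' : X → ℤ} {δY : Y → ℤ} (h : Cyc.DeltaCompat f δ δY)
    (h' : Cyc.DeltaCompat f δ' δY) : δ = δ' := funext fun x => by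
  obtain ⟨n, hn, e⟩ := h x
  obtain ⟨n', hn', e'⟩ := h' x
  rw [e, e', show n = n' from Nat.cast_injective (R := Cardinal.{u}) (hn.symm.trans hn')]

/-- Morphisms agreeing at a global frame agree. -/
theorem hom_ext_frame {T : Scheme.{u}} {M N : T.Modules} {e : Γ(M, ⊤)} (he : IsFrame M ⊤ e) (φ ψ : M ⟶ N)
    (h : φ.app ⊤ e = ψ.app ⊤ e) : φ = ψ :=
  Scheme.Modules.hom_ext _ _ fun V => ConcreteCategory.hom_ext _ _ fun s => by
    obtain ⟨a, rfl⟩ := he.exists_coeff le_top s
    rw [Scheme.Modules.Hom.app_smul, Scheme.Modules.Hom.app_smul, Groth.L19.ProjBdl.app_rs,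
      Groth.L19.ProjBdl.app_rs, h]

section main

variable {X P Q : Scheme.{u}} {E F : X.Modules} {p : P ⟶ X} {p' : Q ⟶ X} {O1 : P.Modules} {O1' : Q.Modules}
  {q : (Scheme.Modules.pullback p).obj E ⟶ O1} {q' : (Scheme.Modules.pullback p').obj F ⟶ O1'}
  (hP : KRR.IsProjBundle p E O1 q) (hQ : KRR.IsProjBundle p' F O1' q')
  (a : Coh.structureModule X ⟶ E) (b : E ⟶ F) (hab : a ≫ b = 0) (hex : (ShortComplex.mk a b hab).ShortExact)

variable (p q) in
/-- The section of `O(1)` given by the sub-line. -/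
def secA : Γ(O1, ⊤) := q.app ⊤ (pull p E ⊤ (a.app ⊤ (one1 X ⊤)))

theorem pull_secA_eq_zero_iff {T : Scheme.{u}} (g : T ⟶ P) :
    pull g O1 ⊤ (secA p q a) = 0 ↔
      (Scheme.Modules.pullback g).map ((Scheme.Modules.pullback p).map a ≫ q) = 0 := by
  have key : ((Scheme.Modules.pullback g).map ((Scheme.Modules.pullback p).map a ≫ q)).app ⊤
      (pull g _ ⊤ (pull p _ ⊤ (one1 X ⊤))) = pull g O1 ⊤ (secA p q a) := by
    refine (Groth.L19.ProjBdl.pull_app g _ (p ⁻¹ᵁ ⊤) (pull p _ ⊤ (one1 X ⊤))).trans ?_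
    exact congrArg (fun z => pull g O1 (p ⁻¹ᵁ ⊤) (q.app (p ⁻¹ᵁ ⊤) z))
      (Groth.L19.ProjBdl.pull_app p a ⊤ (one1 X ⊤))
  constructor
  · intro h
    exact hom_ext_frame (((isFrame_one1 (T := X) ⊤).pullback p _).pullback g _) _ _ (key.trans h)
  · intro h
    rw [← key, h]
    rfl

include hP hQ hex in
/-- The classifying map of the sub-bundle. -/
def subMap : Q ⟶ P :=
  haveI : Epi b := hex.epi_g
  (Grass.IsGrass.of_isProjBundle hP).mapOfEpi (Grass.IsGrass.of_isProjBundle hQ) b

theorem subMap_comp : subMap hP hQ a b hab hex ≫ p = p' :=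
  haveI : Epi b := hex.epi_g
  (Grass.IsGrass.of_isProjBundle hP).mapOfEpi_comp (Grass.IsGrass.of_isProjBundle hQ) b

theorem nonempty_subMapIso :
    Nonempty ((Scheme.Modules.pullback (subMap hP hQ a b hab hex)).obj O1 ≅ O1') := by
  haveI : Epi b := hex.epi_g
  haveI := hQ.epi
  haveI := Grass.epi_pullback_map p' b
  obtain ⟨-, e, -⟩ := (Grass.IsGrass.of_isProjBundle hP).lift_spec p' O1' hQ.invertible
    ((Scheme.Modules.pullback p').map b ≫ q') (epi_comp _ _)
  exact ⟨e⟩

theorem subMap_factors {T : Scheme.{u}} (g : T ⟶ P) :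
    (∃ w, w ≫ subMap hP hQ a b hab hex = g) ↔ pull g O1 ⊤ (secA p q a) = 0 := by
  haveI : Epi b := hex.epi_g
  haveI : Mono a := hex.mono_f
  rw [pull_secA_eq_zero_iff]
  constructor
  · rintro ⟨w, rfl⟩
    have h := Groth.L18.MapEpi.pullback_comp_eq_zero (Grass.IsGrass.of_isProjBundle hP)
      (Grass.IsGrass.of_isProjBundle hQ) b w
    have key : (Scheme.Modules.pullback p).map a ≫ q =
        (Scheme.Modules.pullback p).map (kernel.lift b a hab) ≫ ((Scheme.Modules.pullback p).map (kernel.ι b) ≫ q) := by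
      rw [← Category.assoc, ← Functor.map_comp, kernel.lift_ι]
    rw [key, Functor.map_comp]
    exact (congrArg (_ ≫ ·) h).trans comp_zero
  · intro h
    obtain ⟨θ, hθ⟩ := hex.exact.lift' (kernel.ι b) (kernel.condition b)
    refine Groth.L18.MapEpi.exists_factor (Grass.IsGrass.of_isProjBundle hP)
      (Grass.IsGrass.of_isProjBundle hQ) b g ?_
    have key : (Scheme.Modules.pullback p).map (kernel.ι b) ≫ q =
        (Scheme.Modules.pullback p).map θ ≫ ((Scheme.Modules.pullback p).map a ≫ q) := by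
      rw [← Category.assoc, ← Functor.map_comp]
      exact congrArg (fun φ => (Scheme.Modules.pullback p).map φ ≫ q) hθ.symm
    rw [key, Functor.map_comp, h, comp_zero]

theorem isClosedImmersion_subMap {m r : ℕ} (hE : FlatMod.IsFinLocFreeOfRank m E)
    (hF : FlatMod.IsFinLocFreeOfRank r F) : IsClosedImmersion (subMap hP hQ a b hab hex) := by
  haveI : Epi b := hex.epi_g
  haveI := isQCoh_of_rank hE
  haveI := isQCoh_of_rank hF
  exact Groth.L18.MapEpi.isClosedImmersion_mapOfEpi (Grass.IsGrass.of_isProjBundle hP)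
    (Grass.IsGrass.of_isProjBundle hQ) b

theorem isZeroSchemeOf_subMap [IsClosedImmersion (subMap hP hQ a b hab hex)] :
    Cyc.IsZeroSchemeOf (subMap hP hQ a b hab hex) O1 (secA p q a) :=
  isZeroSchemeOf_of_UP _ (isInvertible_of_one hP.invertible) _ (subMap_factors hP hQ a b hab hex)

include hP hex in
theorem secA_regular (hF : FlatMod.IsFinLocFree F) (z : P) :
    Function.Injective (fun r : P.presheaf.stalk z => r • (O1.presheaf.germ ⊤ z trivial) (secA p q a)) := by
  haveI := hP.epi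
  obtain ⟨V, n, β, hV, hzV, hβ, h0⟩ := exists_basis_cons a b hab hex hF (p z)
  obtain ⟨l, hl⟩ := Groth.L19.ProjBdl.exists_mem_locus p q β hP.invertible hβ (show z ∈ p ⁻¹ᵁ V from hzV)
  obtain ⟨c⟩ := nonempty_cData hP hβ hV l
  let W := Groth.L19.ProjBdl.locus p q β l
  have hW := Groth.L19.ProjBdl.locus_le p q β l
  let e := rs O1 hW (Groth.L19.ProjBdl.sec p q β l)
  have he : IsFrame O1 W e := Groth.L19.ProjBdl.isFrame_locus p q β l
  have hs : rs O1 le_top (secA p q a) = Groth.L19.ProjBdl.crd p q β l 0 • e := by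
    rw [Groth.L19.ProjBdl.crd_smul, Groth.L19.ProjBdl.sec, h0, ← pull_rs, Groth.L19.ProjBdl.app_rs, rs_rs]
    rfl
  have hg : O1.presheaf.germ ⊤ z trivial (secA p q a) =
      P.presheaf.germ W z hl (Groth.L19.ProjBdl.crd p q β l 0) • O1.presheaf.germ W z hl e := by
    rw [← Groth.L20.ModStalk.germ_smul, ← hs]
    exact (TopCat.Presheaf.germ_res_apply O1.presheaf (homOfLE le_top) z hl _).symm
  have hreg : P.presheaf.germ W z hl (Groth.L19.ProjBdl.crd p q β l 0) ∈ nonZeroDivisors (P.presheaf.stalk z) := by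
    letI := P.presheaf.algebra_section_stalk (⟨z, hl⟩ : W)
    haveI : IsLocalization.AtPrime (P.presheaf.stalk z) (c.aff.primeIdealOf ⟨z, hl⟩).asIdeal :=
      c.aff.isLocalization_stalk ⟨z, hl⟩
    have h1 : Groth.L19.ProjBdl.crd p q β l 0 ∈ nonZeroDivisors Γ(P, W) := by
      rw [← c.θ_ratio]
      by_cases h : (0 : Fin (n + 1)) = l
      · rw [show Groth.L19.ProjBdl.ratio V l 0 = 1 from dif_pos h, map_one]; exact one_mem _
      · rw [show Groth.L19.ProjBdl.ratio V l 0 = MvPolynomial.X ⟨0, h⟩ from Groth.L19.ProjBdl.ratio_ne V ⟨0, h⟩,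
          mem_nonZeroDivisors_iff_right]
        intro x hx
        obtain ⟨x', rfl⟩ := c.θ.surjective x
        rw [← map_mul, map_eq_zero_iff c.θ c.θ.injective] at hx
        rw [show x' = 0 from MvPolynomial.ext _ _ fun m => by
          rw [← MvPolynomial.coeff_mul_X m ⟨0, h⟩ x', hx]; simp, map_zero]
    exact IsLocalization.map_nonZeroDivisors_le (c.aff.primeIdealOf ⟨z, hl⟩).asIdeal.primeCompl _
      (Submonoid.mem_map_of_mem (algebraMap Γ(P, W) (P.presheaf.stalk z)) h1)
  intro r r' h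
  simp only [hg, smul_smul] at h
  exact mem_nonZeroDivisors_iff_right.1 hreg |> fun h2 =>
    sub_eq_zero.1 (h2 _ (by rw [sub_mul, sub_eq_zero]; exact Groth.L15.SecOrd.smul_germ_injective he hl h))

/-- Push-forward of the pullback to the sub-bundle is the cap with the section. -/
theorem pushC_pullC {n : ℕ} [IsClosedImmersion (subMap hP hQ a b hab hex)] [IsProper p] [Flat p] [Flat p']
    {δ : X → ℤ} {δP : P → ℤ} {δQ : Q → ℤ} (hX : Cyc.IsSetup X δ) (hPs : Cyc.IsSetup P δP)
    [IsLocallyNoetherian P] [IsLocallyNoetherian Q]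
    (hδ : Cyc.DeltaCompat p δP δ) (hδ' : Cyc.DeltaCompat p' δQ δ)
    (hr : Cyc.HasRelDim p (n + 1)) (hr' : Cyc.HasRelDim p' n)
    {c : ℤ} (hc : c = (n : ℤ) + 1) (hp : Groth.L22.Chern.Shift p δP δ c)
    (hp' : Groth.L22.Chern.Shift p' δQ δ (n : ℤ)) (hF : FlatMod.IsFinLocFree F)
    {w : (ξ : P) → Cyc.secFibre O1 ξ} (hw : ∀ ξ, w ξ ≠ 0) {k : ℤ} {α : AlgebraicCycle X ℤ}
    (hα : α ∈ Cyc.Zk X δ k) :
    Groth.L22.Chern.pushC (subMap hP hQ a b hab hex) δQ δP (Groth.L22.Chern.pullC p' hp' α) =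
      Groth.L22.Chern.cap hPs.2.2 (isInvertible_of_one hP.invertible)
        (t := fun _ => Cyc.gysinChoice O1 (secA p q a) w)
        (fun _ => Groth.L22.C1.gysinChoice_ne_zero (secA p q a) w hw) 1
        (Groth.L22.Chern.pullC p hp α) := by
  subst hc
  set i := subMap hP hQ a b hab hex with hi
  have hip : i ≫ p = p' := subMap_comp hP hQ a b hab hex
  have hD := isZeroSchemeOf_subMap hP hQ a b hab hex
  have hL := isInvertible_of_one hP.invertible
  obtain rfl : δQ = fun d => δP (i d) := delta_unique hδ'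
    (Groth.L22.Cyc.deltaCompat_square p i (𝟙 X) p' hδ ((Category.comp_id _).trans hip.symm))
  haveI : Flat (i ≫ p) := hip ▸ inferInstance
  ext x
  rw [Groth.L22.Chern.cap_succ, Groth.L22.Chern.cap_zero, Groth.L22.Chern.pushC_eq, Groth.L22.Chern.pullC_coe]
  by_cases hx : x ∈ Set.range i
  · obtain ⟨d, rfl⟩ := hx
    rw [Groth.L22.C1.map_apply_closedImmersion, Groth.L22.Chern.pullC_coe,
      Groth.L22.C1.gysin_relCartier p i hL (secA p q a) hPs hX n hr hδ (secA_regular hP a b hab hex hF) hD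
        (hip ▸ hr') (k - 1) α (by rwa [sub_add_cancel]) w d]
    simp only [← hi, hip]
  · have h0 : AlgebraicCycle.map i (fun d => δP (i d)) δP (Groth.L22.Chern.pullC p' hp' α) x = 0 :=
      by_contra fun h => hx (Groth.L22.C1.mem_range_of_map_ne_zero i δP _ h)
    rw [h0, Cyc.c1CapFun]
    exact (finsum_eq_zero_of_forall_eq_zero fun ξ => by
      rw [Groth.L22.C1.secDivFun_gysin_eq_zero (secA p q a) i hPs.2.2 hL hD w ξ hx, mul_zero]).symm

end main

end Groth.L22.Bundle
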