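import Mathlib.RingTheory.MvPolynomial.Basic
import Mathlib.RingTheory.Polynomial.Basic
import Mathlib.RingTheory.Filtration
import Mathlib.RingTheory.Ideal.Quotient.Operations
import Mathlib.Algebra.MvPolynomial.Eval

/-!
Coordinate linear subspaces of affine space over a prime of the base ring.
-/

set_option autoImplicit false

universe u v

open MvPolynomial

noncomputable section

namespace Groth.L22.Bundle

variable {A : Type u} [CommRing A] {σ : Type v}

open Classical in
/-- Setting the variables in `S` to zero. -/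
def kill (S : Set σ) : MvPolynomial σ A →+* MvPolynomial σ A :=
  eval₂Hom C fun i => if i ∈ S then 0 else X i

/-- The generic point of the coordinate subspace over a prime. -/
def Qs (q : Ideal A) (S : Set σ) : Ideal (MvPolynomial σ A) :=
  RingHom.ker ((MvPolynomial.map (Ideal.Quotient.mk q)).comp (kill S))

theorem isPrime_Qs (q : Ideal A) [q.IsPrime] (S : Set σ) : (Qs q S).IsPrime :=
  RingHom.ker_isPrime _

theorem kill_C (S : Set σ) (a : A) : kill S (C a : MvPolynomial σ A) = C a := eval₂Hom_C _ _ a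

theorem kill_X_mem {S : Set σ} {i : σ} (h : i ∈ S) : kill S (X i : MvPolynomial σ A) = 0 := by
  rw [kill, eval₂Hom_X', if_pos h]

theorem kill_X_notMem {S : Set σ} {i : σ} (h : i ∉ S) : kill S (X i : MvPolynomial σ A) = X i := by
  rw [kill, eval₂Hom_X', if_neg h]

theorem C_mem_Qs (q : Ideal A) (S : Set σ) (a : A) : (C a : MvPolynomial σ A) ∈ Qs q S ↔ a ∈ q := by
  rw [Qs, RingHom.mem_ker, RingHom.comp_apply, kill_C, map_C]
  rw [map_eq_zero_iff _ (C_injective σ (A ⧸ q)), Ideal.Quotient.eq_zero_iff_mem]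

theorem comap_C_Qs (q : Ideal A) (S : Set σ) : (Qs q S).comap (C : A →+* MvPolynomial σ A) = q :=
  Ideal.ext fun a => C_mem_Qs q S a

theorem X_mem_Qs_iff (q : Ideal A) [q.IsPrime] (S : Set σ) (i : σ) :
    (X i : MvPolynomial σ A) ∈ Qs q S ↔ i ∈ S := by
  rw [Qs, RingHom.mem_ker, RingHom.comp_apply]
  refine ⟨fun h => ?_, fun h => by rw [kill_X_mem h, map_zero]⟩
  by_contra hi
  rw [kill_X_notMem hi, map_X] at h
  exact MvPolynomial.X_ne_zero i h

/-- The least ideal with the given vanishing. -/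
theorem Qs_le {q : Ideal A} {S : Set σ} {R : Ideal (MvPolynomial σ A)}
    (hq : q.map (C : A →+* MvPolynomial σ A) ≤ R) (hS : ∀ i ∈ S, (X i : MvPolynomial σ A) ∈ R) :
    Qs q S ≤ R := by
  intro f hf
  have h1 : (Ideal.Quotient.mk R).comp (kill S) = Ideal.Quotient.mk R := by
    refine MvPolynomial.ringHom_ext (fun a => by rw [RingHom.comp_apply, kill_C]) fun i => ?_
    by_cases h : i ∈ S
    · rw [RingHom.comp_apply, kill_X_mem h, map_zero, Ideal.Quotient.eq_zero_iff_mem.2 (hS i h)]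
    · rw [RingHom.comp_apply, kill_X_notMem h]
  have h2 : kill S f ∈ R := hq (MvPolynomial.mem_map_C_iff.2 fun d => by
    have := congrArg (MvPolynomial.coeff d) (show MvPolynomial.map (Ideal.Quotient.mk q) (kill S f) = 0 from hf)
    rwa [coeff_map, coeff_zero, Ideal.Quotient.eq_zero_iff_mem] at this)
  rw [← Ideal.Quotient.eq_zero_iff_mem] at h2 ⊢
  rwa [← congrArg (fun g : _ →+* _ => g f) h1]

theorem map_C_le_Qs (q : Ideal A) (S : Set σ) : q.map (C : A →+* MvPolynomial σ A) ≤ Qs q S :=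
  Ideal.map_le_iff_le_comap.2 (comap_C_Qs q S).ge

theorem Qs_mono (q : Ideal A) [q.IsPrime] {S T : Set σ} (h : S ⊆ T) : Qs q S ≤ Qs q T :=
  Qs_le (map_C_le_Qs q T) fun i hi => (X_mem_Qs_iff q T i).2 (h hi)

theorem Qs_empty (q : Ideal A) : Qs q (∅ : Set σ) = q.map C :=
  le_antisymm (Qs_le le_rfl fun _ h => h.elim) (map_C_le_Qs q _)

theorem Qs_univ (q : Ideal A) [q.IsPrime] :
    Qs q (Set.univ : Set σ) = q.comap (MvPolynomial.eval (0 : σ → A)) := by
  refine le_antisymm (Qs_le (Ideal.map_le_iff_le_comap.2 fun a ha => ?_) fun i _ => ?_) fun f hf => ?_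
  · simpa using ha
  · simp
  · have h : (kill (Set.univ : Set σ)) = (C : A →+* MvPolynomial σ A).comp (MvPolynomial.eval (0 : σ → A)) :=
      MvPolynomial.ringHom_ext (fun a => by simp [kill_C]) fun i => by simp [kill_X_mem]
    rw [Qs, RingHom.mem_ker, RingHom.comp_apply, h, RingHom.comp_apply, map_C,
      Ideal.Quotient.eq_zero_iff_mem.2 (Ideal.mem_comap.1 hf), map_zero]

theorem Qs_insert (q : Ideal A) [q.IsPrime] (S : Set σ) (i : σ) :
    Qs q (insert i S) = Qs q S ⊔ Ideal.span {(X i : MvPolynomial σ A)} := by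
  refine le_antisymm (Qs_le ((map_C_le_Qs q S).trans le_sup_left) fun j hj => ?_)
    (sup_le (Qs_mono q (Set.subset_insert i S)) ?_)
  · rcases hj with rfl | hj
    · exact Ideal.mem_sup_right (Ideal.mem_span_singleton_self _)
    · exact Ideal.mem_sup_left ((X_mem_Qs_iff q S j).2 hj)
  · rw [Ideal.span_le, Set.singleton_subset_iff]
    exact (X_mem_Qs_iff q _ i).2 (Set.mem_insert i S)

/-- Nothing lies between a prime and its sum with a principal ideal. -/
theorem eq_or_eq_of_sup_span {B : Type*} [CommRing B] [IsNoetherianRing B] {Q Q' R : Ideal B} [Q.IsPrime]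
    [Q'.IsPrime] [R.IsPrime] {t : B} (hQ' : Q' = Q ⊔ Ideal.span {t}) (h₁ : Q ≤ R) (h₂ : R ≤ Q') :
    R = Q ∨ R = Q' := by
  by_cases ht : t ∈ R
  · exact Or.inr (le_antisymm h₂ (hQ' ▸ sup_le h₁ ((Ideal.span_singleton_le_iff_mem _).2 ht)))
  refine Or.inl (le_antisymm (fun f hf => ?_) h₁)
  let t' : B ⧸ Q := Ideal.Quotient.mk Q t
  have htop : Ideal.span {t'} ≠ ⊤ := by
    intro e
    have : (1 : B) ∈ (Ideal.span {t'}).comap (Ideal.Quotient.mk Q) := by rw [e]; trivial
    rw [show Ideal.span {t'} = (Ideal.span {t}).map (Ideal.Quotient.mk Q) by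
      rw [Ideal.map_span, Set.image_singleton], Ideal.comap_map_of_surjective' _ Ideal.Quotient.mk_surjective,
      Ideal.mk_ker, sup_comm, ← hQ'] at this
    exact ‹Q'.IsPrime›.ne_top ((Ideal.eq_top_iff_one _).2 this)
  have key : ∀ (n : ℕ), ∀ g ∈ R, Ideal.Quotient.mk Q g ∈ Ideal.span {t'} ^ n := by
    intro n
    induction n with
    | zero => intro g _; simp
    | succ n ih =>
      intro g hg
      have hg' : g ∈ Q ⊔ Ideal.span {t} := hQ' ▸ h₂ hg
      obtain ⟨a, ha, b, hb, rfl⟩ := Submodule.mem_sup.1 hg'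
      obtain ⟨c, rfl⟩ := Ideal.mem_span_singleton'.1 hb
      have hc : c ∈ R := (‹R.IsPrime›.mem_or_mem
        (by simpa using R.sub_mem hg (h₁ ha) : c * t ∈ R)).resolve_right ht
      rw [map_add, Ideal.Quotient.eq_zero_iff_mem.2 ha, zero_add, map_mul, pow_succ]
      exact Ideal.mul_mem_mul (ih c hc) (Ideal.mem_span_singleton_self _)
  haveI : IsNoetherianRing (B ⧸ Q) :=
    isNoetherianRing_of_surjective B (B ⧸ Q) (Ideal.Quotient.mk Q) Ideal.Quotient.mk_surjective
  have := Ideal.iInf_pow_eq_bot_of_isDomain (Ideal.span {t'}) htop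
  have hf0 : Ideal.Quotient.mk Q f ∈ (⊥ : Ideal (B ⧸ Q)) := this ▸ Ideal.mem_iInf.2 fun n => key n f hf
  exact Ideal.Quotient.eq_zero_iff_mem.1 hf0

end Groth.L22.Bundle
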