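import Mathlib.AlgebraicGeometry.AffineScheme
import Groth.Agent.L22.Cyc.OrdGen

/-!
Stalks of affine schemes, and orders of a uniformising element.
-/

set_option autoImplicit false
set_option linter.style.haveILetI false
set_option backward.isDefEq.respectTransparency false

universe u

open CategoryTheory AlgebraicGeometry TopologicalSpace

noncomputable section

namespace Groth.L22.Bundle

variable {R S : CommRingCat.{u}}

/-- The ring into a stalk of its spectrum. -/
def gS (x : Spec R) : R →+* (Spec R).presheaf.stalk x :=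
  ((Spec R).presheaf.germ ⊤ x trivial).hom.comp (Scheme.ΓSpecIso R).inv.hom

theorem gS_mem_iff (x : Spec R) (a : R) :
    gS x a ∈ IsLocalRing.maximalIdeal ((Spec R).presheaf.stalk x) ↔ a ∈ x.asIdeal := by
  letI : Algebra R ((Spec R).presheaf.stalk x) := (gS x).toAlgebra
  haveI : IsLocalization.AtPrime ((Spec R).presheaf.stalk x) x.asIdeal :=
    StructureSheaf.IsLocalization.to_stalk R x
  exact IsLocalization.AtPrime.to_map_mem_maximal_iff ((Spec R).presheaf.stalk x) x.asIdeal a

theorem gS_maximal (x : Spec R) :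
    x.asIdeal.map (gS x) = IsLocalRing.maximalIdeal ((Spec R).presheaf.stalk x) := by
  letI : Algebra R ((Spec R).presheaf.stalk x) := (gS x).toAlgebra
  haveI : IsLocalization.AtPrime ((Spec R).presheaf.stalk x) x.asIdeal :=
    StructureSheaf.IsLocalization.to_stalk R x
  exact IsLocalization.AtPrime.map_eq_maximalIdeal x.asIdeal _

theorem gS_specializes {x y : Spec R} (h : x ⤳ y) (a : R) :
    (Spec R).presheaf.stalkSpecializes h (gS y a) = gS x a :=
  TopCat.Presheaf.germ_stalkSpecializes_apply _ _ _ _

theorem gS_specMap (φ : R ⟶ S) (x : Spec S) (a : R) :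
    (Spec.map φ).stalkMap x (gS (Spec.map φ x) a) = gS x (φ a) := by
  show (Spec.map φ).stalkMap x ((Spec R).presheaf.germ ⊤ _ trivial ((Scheme.ΓSpecIso R).inv a)) = _
  rw [Scheme.Hom.germ_stalkMap_apply]
  have h := ConcreteCategory.congr_hom (Scheme.ΓSpecIso_inv_naturality φ) a
  exact (congrArg ((Spec S).presheaf.germ ⊤ x trivial) h).symm

theorem length_quot_max (A : Type u) [CommRing A] (M : Ideal A) [M.IsMaximal] :
    Module.length A (A ⧸ M) = 1 := by
  haveI : IsSimpleModule A (A ⧸ M) := isSimpleModule_iff_isCoatom.2 (Ideal.isMaximal_def.1 ‹_›)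
  exact Module.length_eq_one A _

/-- An element generating the maximal ideal of the local ring of a closure has order one. -/
theorem ordAt_eq_one {X : Scheme.{u}} [IsLocallyNoetherian X] {δ : X → ℤ} (hδ : Cyc.IsDimFun X δ)
    {z y : X} (h : y ⤳ z) (hd : δ z + 1 = δ y) {t : X.presheaf.stalk z}
    (hne : Cyc.specMap z y h t ≠ 0) (ht : t ∈ IsLocalRing.maximalIdeal (X.presheaf.stalk z))
    (hmax : IsLocalRing.maximalIdeal (X.presheaf.stalk z) ≤
      RingHom.ker (Cyc.specMap z y h) ⊔ Ideal.span {t}) :
    Cyc.ordAt z y h (Cyc.specMap z y h t) = 1 := by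
  let K := RingHom.ker (Cyc.specMap z y h)
  have hK : K ≤ IsLocalRing.maximalIdeal (X.presheaf.stalk z) :=
    IsLocalRing.le_maximalIdeal (RingHom.ker_ne_top _)
  have heq : K ⊔ Ideal.span {t} = IsLocalRing.maximalIdeal (X.presheaf.stalk z) :=
    le_antisymm (sup_le hK ((Ideal.span_singleton_le_iff_mem _).2 ht)) hmax
  have hord := Groth.L22.Cyc.ordAt_div_gen hδ z y h hd (a := t) (b := 1) hne
    (by rw [map_one]; exact one_ne_zero)
  rw [map_one, div_one] at hord
  rw [hord, map_one, Ring.ord_one]
  have hone : Ring.ord (Cyc.LocQuot z y h) (Ideal.Quotient.mk K t) = 1 := by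
    haveI : (Ideal.span {Ideal.Quotient.mk K t}).IsMaximal := by
      rw [show Ideal.span {Ideal.Quotient.mk K t} = (IsLocalRing.maximalIdeal (X.presheaf.stalk z)).map
        (Ideal.Quotient.mk K) from by
          rw [← heq, Ideal.map_sup, Ideal.map_quotient_self, bot_sup_eq, Ideal.map_span, Set.image_singleton]]
      refine (Ideal.map_eq_top_or_isMaximal_of_surjective (Ideal.Quotient.mk K) Ideal.Quotient.mk_surjective
        (IsLocalRing.maximalIdeal.isMaximal _)).resolve_left fun htop => ?_
      have h1 : (1 : X.presheaf.stalk z ⧸ K) ∈ (IsLocalRing.maximalIdeal (X.presheaf.stalk z)).map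
          (Ideal.Quotient.mk K) := by rw [htop]; trivial
      obtain ⟨a, ha, ha1⟩ := (Ideal.mem_map_iff_of_surjective (Ideal.Quotient.mk K)
        Ideal.Quotient.mk_surjective).1 h1
      replace ha1 : a - 1 ∈ K := Ideal.Quotient.eq.1 (ha1.trans (map_one (Ideal.Quotient.mk K)).symm)
      exact (IsLocalRing.maximalIdeal.isMaximal (X.presheaf.stalk z)).ne_top
        ((Ideal.eq_top_iff_one _).2 (by simpa using sub_mem ha (hK ha1)))
    exact length_quot_max _ _
  rw [hone]
  simp

end Groth.L22.Bundle
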