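import Groth.Agent.L22.Bundle.AffSpace
import Groth.Agent.L22.Bundle.ChartAlg
import Groth.Agent.L22.Bundle.SpecStalk
import Mathlib.AlgebraicGeometry.AffineSpace

/-!
Morphisms that are locally affine spaces over the base: fibres and flat pullback of cycles.
-/

set_option autoImplicit false
set_option linter.style.haveILetI false
set_option backward.isDefEq.respectTransparency.types false
set_option backward.isDefEq.respectTransparency false

universe u

open CategoryTheory CategoryTheory.Limits AlgebraicGeometry TopologicalSpace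

noncomputable section

namespace Groth.L22.Bundle

open Groth.L22.Cyc (FibGen mult fibIdeal)

theorem mult_openImmersion {W X : Scheme.{u}} (j : W ⟶ X) [IsOpenImmersion j] (t : W) : mult j t = 1 := by
  have h : fibIdeal j t = IsLocalRing.maximalIdeal (W.presheaf.stalk t) := by
    refine le_antisymm (Groth.L22.Cyc.fibIdeal_le _ _) fun a ha => ?_
    obtain ⟨b, rfl⟩ : ∃ b, (j.stalkMap t).hom b = a :=
      (ConcreteCategory.bijective_of_isIso (j.stalkMap t)).2 a
    refine Ideal.mem_map_of_mem _ ?_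
    rw [IsLocalRing.mem_maximalIdeal, mem_nonunits_iff] at ha ⊢
    exact fun hu => ha (hu.map _)
  rw [mult, h]
  exact length_quot_max _ _

/-- The generic point of a fibre of affine space. -/
def affGen (A : CommRingCat.{u}) (j : ℕ) (a : Spec A) : Spec (CommRingCat.of (MvPolynomial (Fin j) A)) :=
  ⟨a.asIdeal.map (MvPolynomial.C : A →+* MvPolynomial (Fin j) A), Qs_empty (σ := Fin j) a.asIdeal ▸ isPrime_Qs _ _⟩

theorem affPr_affGen (A : CommRingCat.{u}) (j : ℕ) (a : Spec A) : affPr A j (affGen A j a) = a := by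
  refine PrimeSpectrum.ext (Ideal.ext fun x => ?_)
  show MvPolynomial.C x ∈ a.asIdeal.map (MvPolynomial.C : A →+* MvPolynomial (Fin j) A) ↔ _
  rw [← Qs_empty (σ := Fin j) a.asIdeal, C_mem_Qs]

theorem affGen_specializes (A : CommRingCat.{u}) (j : ℕ) (x : Spec (CommRingCat.of (MvPolynomial (Fin j) A))) :
    affGen A j (affPr A j x) ⤳ x :=
  (PrimeSpectrum.le_iff_specializes _ _).1 Ideal.map_comap_le

theorem mult_affGen (A : CommRingCat.{u}) (j : ℕ) (a : Spec A) : mult (affPr A j) (affGen A j a) = 1 := by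
  let g := affGen A j a
  have hf : fibIdeal (affPr A j) g = IsLocalRing.maximalIdeal (_ : CommRingCat.{u}) := by
    refine le_antisymm (Groth.L22.Cyc.fibIdeal_le _ _) ?_
    rw [← gS_maximal g, show g.asIdeal = a.asIdeal.map MvPolynomial.C from rfl, Ideal.map_map,
      Ideal.map_le_iff_le_comap]
    intro x hx
    show gS g (MvPolynomial.C x) ∈ fibIdeal (affPr A j) g
    have e : gS g (MvPolynomial.C x) = (affPr A j).stalkMap g (gS (affPr A j g) x) := (gS_specMap _ g x).symm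
    rw [e]
    refine Ideal.mem_map_of_mem _ ((gS_mem_iff _ x).2 ?_)
    rw [affPr_affGen]
    exact hx
  rw [mult, hf]
  exact length_quot_max _ _

/-- Every point of the base has an affine neighbourhood over which `f` is an affine space. -/
def LocAffSpace {X Y : Scheme.{u}} (f : X ⟶ Y) (r : ℕ) : Prop :=
  ∀ y : Y, ∃ (V : Y.Opens) (hV : IsAffineOpen V) (j : Spec (CommRingCat.of (MvPolynomial (Fin r) Γ(Y, V))) ⟶ X),
    IsOpenImmersion j ∧ y ∈ V ∧ Set.range j = f ⁻¹' (V : Set Y) ∧ j ≫ f = affPr Γ(Y, V) r ≫ hV.fromSpec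

theorem locAffSpace_of_iso {X Y : Scheme.{u}} (f : X ⟶ Y) (r : ℕ)
    (h : ∀ y : Y, ∃ U : Y.Opens, y ∈ U ∧ ∃ e : (↑(f ⁻¹ᵁ U) : Scheme.{u}) ≅
      𝔸(ULift.{u} (Fin r); (↑U : Scheme.{u})),
      e.hom ≫ (𝔸(ULift.{u} (Fin r); (↑U : Scheme.{u})) ↘ (↑U : Scheme.{u})) = f ∣_ U) :
    LocAffSpace f r := by
  intro y
  obtain ⟨U, hyU, e, he⟩ := h y
  obtain ⟨V, hV, hyV, hVU⟩ := exists_isAffineOpen_mem_and_subset (x := y) (U := U) hyU
  let A := Γ(Y, V)
  let g : Spec A ⟶ (U : Scheme.{u}) := hV.isoSpec.inv ≫ Y.homOfLE hVU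
  have hg : g ≫ U.ι = hV.fromSpec := by rw [Category.assoc, Scheme.homOfLE_ι]; rfl
  let φ := (MvPolynomial.renameEquiv A (Equiv.ulift.{u} : ULift.{u} (Fin r) ≃ Fin r)).toRingEquiv.toCommRingCatIso
  let m := AffineSpace.map (ULift.{u} (Fin r)) g
  haveI : IsOpenImmersion m :=
    MorphismProperty.of_isPullback (P := @IsOpenImmersion) (AffineSpace.isPullback_map g).flip inferInstance
  let j := Spec.map φ.hom ≫ (AffineSpace.SpecIso (ULift.{u} (Fin r)) A).inv ≫ m ≫ e.inv ≫ (f ⁻¹ᵁ U).ι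
  refine ⟨V, hV, j, inferInstance, hyV, ?_, ?_⟩
  swap
  · have h1 : e.inv ≫ (f ⁻¹ᵁ U).ι ≫ f = 𝔸(ULift.{u} (Fin r); (↑U : Scheme.{u})) ↘ (↑U : Scheme.{u}) ≫ U.ι := by
      rw [← morphismRestrict_ι, ← he, Category.assoc, Iso.inv_hom_id_assoc]
    simp only [j, Category.assoc]
    rw [h1]
    rw [show m ≫ 𝔸(ULift.{u} (Fin r); (↑U : Scheme.{u})) ↘ (↑U : Scheme.{u}) ≫ U.ι =
      𝔸(ULift.{u} (Fin r); Spec A) ↘ Spec A ≫ g ≫ U.ι from by rw [← Category.assoc, AffineSpace.map_over, Category.assoc],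
      hg, ← Category.assoc (AffineSpace.SpecIso _ A).inv, AffineSpace.SpecIso_inv_over, ← Category.assoc]
    congr 1
    rw [← Spec.map_comp]
    congr 1
    exact CommRingCat.hom_ext (RingHom.ext fun a => MvPolynomial.rename_C _ a)
  refine Set.Subset.antisymm ?_ fun z hz => ?_
  · rintro _ ⟨t, rfl⟩
    have hfl : f (j t) ∈ V := by
      have h1 : e.inv ≫ (f ⁻¹ᵁ U).ι ≫ f = 𝔸(ULift.{u} (Fin r); (↑U : Scheme.{u})) ↘ (↑U : Scheme.{u}) ≫ U.ι := by
        rw [← morphismRestrict_ι, ← he, Category.assoc, Iso.inv_hom_id_assoc]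
      have h2 : j ≫ f = (Spec.map φ.hom ≫ (AffineSpace.SpecIso (ULift.{u} (Fin r)) A).inv ≫
          𝔸(ULift.{u} (Fin r); Spec A) ↘ Spec A) ≫ hV.fromSpec := by
        simp only [j, Category.assoc, h1]
        rw [← hg, ← Category.assoc m, AffineSpace.map_over, Category.assoc]
      rw [← Scheme.Hom.comp_apply, h2]
      exact hV.range_fromSpec.le ⟨_, rfl⟩
    exact hfl
  · have hzU : z ∈ f ⁻¹ᵁ U := hVU hz
    obtain ⟨a, ha⟩ := hV.range_fromSpec.ge hz
    have hz' : (𝔸(ULift.{u} (Fin r); (↑U : Scheme.{u})) ↘ (↑U : Scheme.{u})) (e.hom ⟨z, hzU⟩) = g a := by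
      apply U.ι.isOpenEmbedding.injective
      show U.ι _ = _
      rw [← Scheme.Hom.comp_apply g, hg, ha, ← Scheme.Hom.comp_apply e.hom, he, ← Scheme.Hom.comp_apply,
        morphismRestrict_ι, Scheme.Hom.comp_apply]
      rfl
    obtain ⟨p, hp, -⟩ := Scheme.exists_preimage_of_isPullback (AffineSpace.isPullback_map g) _ a hz'
    refine ⟨inv (Spec.map φ.hom) ((AffineSpace.SpecIso (ULift.{u} (Fin r)) A).hom p), ?_⟩
    show j _ = z
    simp only [j, ← Scheme.Hom.comp_apply, ← Category.assoc, IsIso.hom_inv_id, IsIso.inv_hom_id]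
    simp only [Category.assoc, IsIso.inv_hom_id_assoc, Iso.hom_inv_id_assoc]
    rw [Scheme.Hom.comp_apply, Scheme.Hom.comp_apply]
    rw [show m p = _ from hp, ← Scheme.Hom.comp_apply e.hom, e.hom_inv_id]
    rfl

variable {X Y : Scheme.{u}} {f : X ⟶ Y} {r : ℕ} [IsLocallyNoetherian X] [IsLocallyNoetherian Y]
  {δX : X → ℤ} {δY : Y → ℤ}

theorem LocAffSpace.quasiCompact_preimage (h : LocAffSpace f r) (y : Y) :
    ∃ V : Y.Opens, y ∈ V ∧ IsCompact (f ⁻¹' (V : Set Y)) := by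
  obtain ⟨V, hV, j, hj, hyV, hrange, -⟩ := h y
  refine ⟨V, hyV, hrange ▸ ?_⟩
  rw [← Set.image_univ]
  exact isCompact_univ.image j.continuous

variable (hdX : Cyc.IsDimFun X δX) (hdY : Cyc.IsDimFun Y δY) (hδ : Cyc.DeltaCompat f δX δY)

include hdX hdY hδ in
/-- On a fibre: the top dimension, and the lower points are divisors. -/
theorem LocAffSpace.fibre (h : LocAffSpace f r) (z : X) :
    δX z ≤ δY (f z) + r ∧ (δX z < δY (f z) + r → FibRat f δX (f z) (δX z) (pt z)) := by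
  obtain ⟨V, hV, j, hj, hzV, hrange, hjf⟩ := h (f z)
  obtain ⟨t, rfl⟩ : z ∈ Set.range j := hrange.ge hzV
  haveI : IsNoetherianRing Γ(Y, V) := IsLocallyNoetherian.component_noetherian ⟨V, hV⟩
  have hdA := isDimFun_openImmersion hV.fromSpec hdY
  have hdT := isDimFun_openImmersion j hdX
  have hδT : Cyc.DeltaCompat (affPr Γ(Y, V) r) (fun t => δX (j t)) fun a => δY (hV.fromSpec a) := by
    refine deltaCompat_cancel _ hV.fromSpec (δZ := δY) ?_ fun a => ⟨0, ?_, by simp⟩
    · rw [← hjf]; exact deltaCompat_comp j f hδ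
    · exact (rtrdeg_eq_zero hV.fromSpec a).trans Nat.cast_zero.symm
  have hbase : ∀ t', hV.fromSpec (affPr Γ(Y, V) r t') = f (j t') := fun t' => by
    rw [← Scheme.Hom.comp_apply, ← hjf]; rfl
  obtain ⟨h1, h2⟩ := vanish r Γ(Y, V) _ _ hdA hdT hδT t
  beta_reduce at h1 h2
  rw [hbase] at h1 h2
  refine ⟨h1, fun hlt => ?_⟩
  have hF := h2 hlt
  have hq : ∀ t', f (j t') = f (j t) ↔ affPr Γ(Y, V) r t' = affPr Γ(Y, V) r t := fun t' => by
    rw [← hbase, ← hbase]
    exact hV.fromSpec.isOpenEmbedding.injective.eq_iff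
  have hF' : FibRat (fun t' => f (j t')) (fun t' => δX (j t')) (f (j t)) (δX (j t)) (pt t) := by
    obtain ⟨ι, hι, ξ, g, a1, a2⟩ := hF
    exact ⟨ι, hι, ξ, g, fun i => ⟨(a1 i).1, (a1 i).2.1, (hq _).2 (a1 i).2.2⟩, fun x hx => a2 x ((hq x).1 hx)⟩
  obtain ⟨D, hD, hval, -⟩ := hF'.push j hdX hdT
  refine hD.congr fun x hx => ?_
  obtain ⟨t', rfl⟩ : x ∈ Set.range j := hrange.ge (show f x ∈ V by rw [hx]; exact hzV)
  rw [hval t' hx]
  by_cases e : t' = t
  · subst e; rw [pt_self, pt_self]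
  · rw [pt_ne e, pt_ne fun h' => e (j.isOpenEmbedding.injective h')]

include hdX hdY hδ in
theorem LocAffSpace.fibGen_of_top (h : LocAffSpace f r) {z : X} (hz : δX z = δY (f z) + r) : FibGen f z := by
  intro y hy hsp
  by_contra hne
  have h1 := (hdX y z hsp hne).1
  have h2 := (h.fibre hdX hdY hδ y).1
  rw [hy] at h2
  omega

include hdX in
omit [IsLocallyNoetherian X] [IsLocallyNoetherian Y] in
/-- Each fibre has one generic point, of multiplicity one. -/
theorem LocAffSpace.exists_gen [Flat f] (h : LocAffSpace f r) (y : Y) :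
    ∃ g : X, f g = y ∧ mult f g = 1 ∧ FibGen f g ∧ ∀ x, f x = y → g ⤳ x := by
  obtain ⟨V, hV, j, hj, hyV, hrange, hjf⟩ := h y
  obtain ⟨a, rfl⟩ : y ∈ Set.range hV.fromSpec := hV.range_fromSpec.ge hyV
  let t := affGen Γ(Y, V) r a
  have hfg : f (j t) = hV.fromSpec a := by
    rw [← Scheme.Hom.comp_apply, hjf, Scheme.Hom.comp_apply, affPr_affGen]
  have hsp : ∀ x, f x = hV.fromSpec a → j t ⤳ x := fun x hx => by
    obtain ⟨t', rfl⟩ : x ∈ Set.range j := hrange.ge (show f x ∈ V by rw [hx]; exact hyV)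
    have hpr : affPr Γ(Y, V) r t' = a := hV.fromSpec.isOpenEmbedding.injective (by
      rw [← Scheme.Hom.comp_apply (affPr Γ(Y, V) r), ← hjf, Scheme.Hom.comp_apply]; exact hx)
    have := (affGen_specializes Γ(Y, V) r t').map j.continuous
    rwa [hpr] at this
  refine ⟨j t, hfg, ?_, fun x hx hx' => (hx'.antisymm (hsp x (hx.trans hfg))).eq, hsp⟩
  have e1 : mult (j ≫ f) t = mult f (j t) * mult j t := Groth.L22.Cyc.mult_comp j f t
  haveI : Flat (affPr Γ(Y, V) r) := by
    rw [Flat.SpecMap_iff]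
    exact RingHom.flat_algebraMap_iff.2 inferInstance
  have e2 : mult (affPr Γ(Y, V) r ≫ hV.fromSpec) t =
      mult hV.fromSpec (affPr Γ(Y, V) r t) * mult (affPr Γ(Y, V) r) t := Groth.L22.Cyc.mult_comp _ _ t
  rw [Groth.L22.Cyc.mult_congr _ hjf, e2, mult_openImmersion hV.fromSpec, mult_openImmersion j, mult_affGen, one_mul, mul_one] at e1
  exact e1.symm

end Groth.L22.Bundle
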