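import Groth.Agent.L22.Cyc.ClosedSub
import Groth.Agent.L22.Cyc.ExtendOpen
import Groth.Agent.L22.Cyc.RelDim
import Groth.Agent.L22.C1.Basic

/-!
Dimension functions and divisors along immersions and sections.
-/

set_option autoImplicit false
set_option linter.style.haveILetI false
set_option backward.isDefEq.respectTransparency false

universe u

open CategoryTheory AlgebraicGeometry TopologicalSpace

noncomputable section

namespace Groth.L22.Bundle

open Groth.L22.Cyc (rtrdeg rtrdeg_comp rtrdeg_congr)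

variable {W X Y Z : Scheme.{u}}

theorem isDimFun_openImmersion (j : W ⟶ X) [IsOpenImmersion j] {δ : X → ℤ} (hδ : Cyc.IsDimFun X δ) :
    Cyc.IsDimFun W fun w => δ (j w) := by
  intro a b hab hne
  obtain ⟨h1, h2⟩ := hδ (j a) (j b) (hab.map j.continuous) fun h => hne (j.isOpenEmbedding.injective h)
  refine ⟨h1, fun himm => h2 fun w haw hwb => ?_⟩
  obtain ⟨c, rfl⟩ : w ∈ Set.range j := hwb.mem_open j.isOpenEmbedding.isOpen_range ⟨b, rfl⟩
  rcases himm c (j.isOpenEmbedding.isInducing.specializes_iff.1 haw)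
    (j.isOpenEmbedding.isInducing.specializes_iff.1 hwb) with h | h
  · exact Or.inl (congrArg j h)
  · exact Or.inr (congrArg j h)

theorem rtrdeg_eq_zero (j : W ⟶ X) [IsPreimmersion j] (w : W) : rtrdeg j w = 0 := by
  letI := (j.residueFieldMap w).hom.toAlgebra
  haveI : Algebra.IsAlgebraic (X.residueField (j w)) (W.residueField w) := ⟨fun a => by
    obtain ⟨v, rfl⟩ := (Groth.L22.FibreDim.residueFieldMap_bijective j w).2 a
    exact isAlgebraic_algebraMap v⟩
  exact trdeg_eq_zero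

/-- Restricting along an immersion. -/
theorem deltaCompat_comp (j : W ⟶ X) [IsPreimmersion j] (f : X ⟶ Y) {δX : X → ℤ} {δY : Y → ℤ}
    (hδ : Cyc.DeltaCompat f δX δY) : Cyc.DeltaCompat (j ≫ f) (fun w => δX (j w)) δY := by
  intro w
  obtain ⟨n, hn, hd⟩ := hδ (j w)
  refine ⟨n, ?_, hd⟩
  show rtrdeg (j ≫ f) w = (n : Cardinal.{u})
  rw [rtrdeg_comp, rtrdeg_eq_zero j, add_zero]
  exact hn

/-- Cancelling the lower morphism. -/
theorem deltaCompat_cancel (f : X ⟶ Y) (g : Y ⟶ Z) {δX : X → ℤ} {δY : Y → ℤ} {δZ : Z → ℤ}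
    (hfg : Cyc.DeltaCompat (f ≫ g) δX δZ) (hg : Cyc.DeltaCompat g δY δZ) : Cyc.DeltaCompat f δX δY := by
  intro x
  obtain ⟨n, hn, hd⟩ := hfg x
  obtain ⟨m, hm, hdm⟩ := hg (f x)
  have h : (m : Cardinal.{u}) + rtrdeg f x = (n : Cardinal.{u}) := by
    rw [← show rtrdeg g (f x) = (m : Cardinal.{u}) from hm, ← rtrdeg_comp]
    exact hn
  obtain ⟨k, hk⟩ : ∃ k : ℕ, rtrdeg f x = k := by
    refine Cardinal.lt_aleph0.1 (lt_of_le_of_lt ?_ (Cardinal.natCast_lt_aleph0 (n := n)))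
    rw [← h]
    exact self_le_add_left _ _
  refine ⟨k, hk, ?_⟩
  rw [hk] at h
  have h' : m + k = n := by exact_mod_cast h
  have e : δX x = δZ (g (f x)) + n := hd
  rw [e, hdm, ← h']
  push_cast
  ring

variable (j : W ⟶ X) [IsPreimmersion j] [IsLocallyNoetherian X] [IsLocallyNoetherian W] {δ : X → ℤ}

theorem divFun_preimmersion (hδ : Cyc.IsDimFun X δ) (hδW : Cyc.IsDimFun W fun w => δ (j w)) (ζ : W)
    (g : X.residueField (j ζ)) (hg : g ≠ 0) (z : W) :
    Cyc.divFun (fun w => δ (j w)) ζ (j.residueFieldMap ζ g) z = Cyc.divFun δ (j ζ) g (j z) := by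
  by_cases h : ζ ⤳ z ∧ δ (j z) + 1 = δ (j ζ)
  · rw [Cyc.divFun, dif_pos h, Cyc.divFun, dif_pos ⟨h.1.map j.continuous, h.2⟩]
    exact Groth.L22.Cyc.ordAt_preimmersion j hδ hδW h.1 h.2 g hg
  · rw [Cyc.divFun, dif_neg h, Cyc.divFun,
      dif_neg fun hh => h ⟨j.isEmbedding.isInducing.specializes_iff.1 hh.1, hh.2⟩]

end Groth.L22.Bundle
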