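import Groth.Agent.L22.Bundle.Push
import Groth.Agent.L22.C1.Gysin
import Mathlib.AlgebraicGeometry.Morphisms.Flat

/-!
Independence of the powers of `c₁(O(1))` over the Chow groups of the base.
-/

set_option autoImplicit false
set_option linter.style.haveILetI false
set_option backward.isDefEq.respectTransparency.types false
set_option backward.isDefEq.respectTransparency false

universe u

open CategoryTheory CategoryTheory.Limits AlgebraicGeometry TopologicalSpace Opposite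

noncomputable section

namespace Groth.L22.Bundle

open Groth.L19.ProjBdl (IsBasisOn locus)

variable {X P : Scheme.{u}} {p : P ⟶ X} {F : X.Modules} {O1 : P.Modules}
  {q : (Scheme.Modules.pullback p).obj F ⟶ O1} {n : ℕ}

theorem flat_of_isProjBundle (hPB : KRR.IsProjBundle p F O1 q) (hF : FlatMod.IsFinLocFreeOfRank (n + 1) F) :
    Flat p := by
  haveI := hPB.epi
  have hloc : ∀ z : P, ∃ (S : Scheme.{u}) (j : S ⟶ P) (_ : IsOpenImmersion j),
      z ∈ Set.range j ∧ Flat (j ≫ p) := by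
    intro z
    obtain ⟨V, b, hV, hzV, hb⟩ := exists_triv hF (p z)
    obtain ⟨l, hl⟩ := Groth.L19.ProjBdl.exists_mem_locus p q b hPB.invertible hb (show z ∈ p ⁻¹ᵁ V from hzV)
    obtain ⟨j, hj, _, hr, hjp, -⟩ := Groth.L19.ProjBdl.exists_chart hPB hb hV l
    refine ⟨_, j, hj, ?_, ?_⟩
    · rw [← hr] at hl; exact hl
    · haveI : Flat (Spec.map (CommRingCat.ofHom (MvPolynomial.C : Γ(X, V) →+* Groth.L19.ProjBdl.Acrd V l))) := by
        rw [Flat.SpecMap_iff]
        exact RingHom.flat_algebraMap_iff.2 inferInstance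
      rw [hjp]
      infer_instance
  choose S j hj hz hf using hloc
  let 𝒰 : P.OpenCover :=
    { I₀ := P, X := S, f := j
      mem₀ := by
        rw [Scheme.presieve₀_mem_precoverage_iff]
        exact ⟨fun z => ⟨z, hz z⟩, hj⟩ }
  exact IsZariskiLocalAtSource.of_openCover (P := @Flat) 𝒰 fun z => hf z

variable [IsLocallyNoetherian X] {δ : X → ℤ} {δP : P → ℤ} (hdP : Cyc.IsDimFun P δP)
  (hδ : Cyc.DeltaCompat p δP δ)

include hdP hδ in
/-- The shift at generic points of fibres. -/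
theorem delta_of_fibGen (hPB : KRR.IsProjBundle p F O1 q) (hF : FlatMod.IsFinLocFreeOfRank (n + 1) F) (z : P)
    (h : Groth.L22.Cyc.FibGen p z) : δP z = δ (p z) + (n : ℤ) := by
  obtain ⟨V, b, hV, hzV, hb⟩ := exists_triv hF (p z)
  obtain ⟨y, hy, -⟩ := exists_linPt (p := p) (q := q) (b := b) hV hzV hPB hb (Nat.zero_le n)
  have hyz : y ⤳ z := hy.2 z ⟨rfl, fun i hi => absurd hi (Nat.not_lt_zero _)⟩
  rw [← h y hy.1.1 hyz]
  have := delta_linPt hV hzV hPB hb hdP hδ (Nat.zero_le n) hy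
  rw [hy.1.1]
  simpa using this

end Groth.L22.Bundle

namespace Groth.L22.C1

variable {X : Scheme.{u}} {δ : X → ℤ} {L : X.Modules}

/-- Concatenated sections. -/
def catSec (t u : ℕ → (ξ : X) → Cyc.secFibre L ξ) (i : ℕ) (m : ℕ) : (ξ : X) → Cyc.secFibre L ξ :=
  if m < i then t m else u (m - i)

theorem c1PowFun_congr (t t' : ℕ → (ξ : X) → Cyc.secFibre L ξ) (G : X → ℤ) :
    ∀ m, (∀ a < m, t a = t' a) → Cyc.c1PowFun δ L t m G = Cyc.c1PowFun δ L t' m G := by
  intro m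
  induction m with
  | zero => exact fun _ => rfl
  | succ m ih =>
    intro h
    show Cyc.c1CapFun δ L _ (t m) = Cyc.c1CapFun δ L _ (t' m)
    rw [ih fun a ha => h a (by omega), h m (by omega)]

theorem c1PowFun_cat (t u : ℕ → (ξ : X) → Cyc.secFibre L ξ) (i : ℕ) (G : X → ℤ) :
    ∀ m, Cyc.c1PowFun δ L (catSec t u i) (i + m) G = Cyc.c1PowFun δ L u m (Cyc.c1PowFun δ L t i G) := by
  intro m
  induction m with
  | zero => exact c1PowFun_congr _ _ G i fun a ha => if_pos ha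
  | succ m ih =>
    show Cyc.c1CapFun δ L (Cyc.c1PowFun δ L (catSec t u i) (i + m) G) (catSec t u i (i + m)) = _
    rw [ih, show catSec t u i (i + m) = u m by rw [catSec, if_neg (by omega), Nat.add_sub_cancel_left]]
    rfl

theorem catSec_ne_zero (t u : ℕ → (ξ : X) → Cyc.secFibre L ξ) (ht : ∀ m ξ, t m ξ ≠ 0)
    (hu : ∀ m ξ, u m ξ ≠ 0) (i m : ℕ) (ξ : X) : catSec t u i m ξ ≠ 0 := by
  rw [catSec]
  split_ifs with h
  · exact ht m ξ
  · exact hu _ ξ

variable [IsLocallyNoetherian X]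

theorem c1CapFun_finset_sum {I : Type*} (T : Finset I) (A : I → AlgebraicCycle X ℤ) (B : AlgebraicCycle X ℤ)
    (hB : ∀ x, B x = ∑ i ∈ T, A i x) (v : (ξ : X) → Cyc.secFibre L ξ) (x : X) :
    Cyc.c1CapFun δ L ⇑B v x = ∑ i ∈ T, Cyc.c1CapFun δ L ⇑(A i) v x := by
  classical
  let U := T.biUnion fun i => (finite_gen (A i) x).toFinset
  have key : ∀ i ∈ T, Cyc.c1CapFun δ L ⇑(A i) v x = ∑ ξ ∈ U, A i ξ * Cyc.secDivFun δ L ξ (v ξ) x := fun i hi =>
    finsum_eq_sum_of_support_subset _ fun ξ hξ => Finset.mem_coe.2 (Finset.mem_biUnion.2 ⟨i, hi,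
      (Set.Finite.mem_toFinset _).2 ⟨(secDivFun_ne_zero δ (right_ne_zero_of_mul hξ)).1,
        left_ne_zero_of_mul hξ⟩⟩)
  have hBU : Cyc.c1CapFun δ L ⇑B v x = ∑ ξ ∈ U, B ξ * Cyc.secDivFun δ L ξ (v ξ) x :=
    finsum_eq_sum_of_support_subset _ fun ξ hξ => by
      have h1 := left_ne_zero_of_mul hξ
      rw [hB] at h1
      obtain ⟨i, hi, hne⟩ := Finset.exists_ne_zero_of_sum_ne_zero h1
      exact Finset.mem_coe.2 (Finset.mem_biUnion.2 ⟨i, hi,
        (Set.Finite.mem_toFinset _).2 ⟨(secDivFun_ne_zero δ (right_ne_zero_of_mul hξ)).1, hne⟩⟩)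
  rw [hBU, Finset.sum_congr rfl key, Finset.sum_comm]
  exact Finset.sum_congr rfl fun ξ _ => by rw [hB, Finset.sum_mul]

variable (hδ : Cyc.IsDimFun X δ) (hL : PicF.IsInvertible L)

include hδ hL in
theorem c1PowFun_finset_sum {I : Type*} (T : Finset I) (A : I → AlgebraicCycle X ℤ) (B : AlgebraicCycle X ℤ)
    (hB : ∀ x, B x = ∑ i ∈ T, A i x) (v : ℕ → (ξ : X) → Cyc.secFibre L ξ) (hv : ∀ m ξ, v m ξ ≠ 0) :
    ∀ (m : ℕ) (x : X), Cyc.c1PowFun δ L v m ⇑B x = ∑ i ∈ T, Cyc.c1PowFun δ L v m ⇑(A i) x := by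
  intro m
  induction m with
  | zero => exact hB
  | succ m ih =>
    intro x
    obtain ⟨B', hB'⟩ := exists_cycle_c1Pow hδ hL v hv B m
    choose A' hA' using fun i => exists_cycle_c1Pow hδ hL v hv (A i) m
    show Cyc.c1CapFun δ L (Cyc.c1PowFun δ L v m ⇑B) (v m) x =
      ∑ i ∈ T, Cyc.c1CapFun δ L (Cyc.c1PowFun δ L v m ⇑(A i)) (v m) x
    rw [← hB']
    simp only [← hA']
    refine c1CapFun_finset_sum T A' B' (fun y => ?_) (v m) x
    rw [hB', ih y]
    exact Finset.sum_congr rfl fun i _ => by rw [hA' i]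

include hδ hL in
theorem c1Pow_ratEquivZero (v : ℕ → (ξ : X) → Cyc.secFibre L ξ) (hv : ∀ m ξ, v m ξ ≠ 0) :
    ∀ (m : ℕ) (d : ℤ) (A : AlgebraicCycle X ℤ), Cyc.RatEquivZero δ d A → ∀ B : AlgebraicCycle X ℤ,
      ⇑B = Cyc.c1PowFun δ L v m ⇑A → Cyc.RatEquivZero δ (d - m) B := by
  intro m
  induction m with
  | zero =>
    intro d A hA B hB
    obtain rfl : B = A := DFunLike.coe_injective hB
    simpa using hA
  | succ m ih =>
    intro d A hA B hB
    obtain ⟨C, hC⟩ := exists_cycle_c1Pow hδ hL v hv A m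
    have h := ih d A hA C hC
    rw [show d - (m : ℤ) = d - ((m + 1 : ℕ) : ℤ) + 1 by push_cast; ring] at h
    refine (ratOn_c1Cap_ratEquivZero hδ hL _ C h (v m) (hv m) Set.univ
      fun _ _ hξ => absurd trivial hξ).ratEquivZero B ?_
    rw [hB, hC]
    rfl

omit [IsLocallyNoetherian X] in
theorem map_sum_apply {Y : Scheme.{u}} (p : X ⟶ Y) [QuasiCompact p] (δY : Y → ℤ) {I : Type*} (T : Finset I)
    (A : I → AlgebraicCycle X ℤ) (B : AlgebraicCycle X ℤ) (hB : ∀ x, B x = ∑ i ∈ T, A i x) (y : Y) :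
    AlgebraicCycle.map p δ δY B y = ∑ i ∈ T, AlgebraicCycle.map p δ δY (A i) y := by
  classical
  let c : X → ℤ := fun z => ((AlgebraicCycle.mapCoeff p δ δY z : ℕ) : ℤ)
  let U : Set X := ⋃ i ∈ T, Function.support ⇑(A i) ∩ p ⁻¹' {y}
  have hU : U.Finite := T.finite_toSet.biUnion fun i _ =>
    ((A i).locallyFiniteSupport.finite_inter_support_of_isCompact (p.isCompact_preimage_singleton y)).subset
      fun z hz => ⟨hz.2, hz.1⟩
  have hUy : ∀ z ∈ U, p z = y := fun z hz => by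
    obtain ⟨i, -, h⟩ := Set.mem_iUnion₂.1 hz
    exact h.2
  have hfib : ∀ G : X → ℤ, (∀ z, p z = y → G z ≠ 0 → z ∈ U) →
      (∑ᶠ z ∈ p ⁻¹' {y}, G z * c z) = ∑ z ∈ hU.toFinset, G z * c z := fun G hG => by
    rw [← finsum_mem_eq_finite_toFinset_sum _ hU]
    exact finsum_mem_inter_support_eq' _ _ _ fun z hz =>
      ⟨fun hzy => hG z hzy (left_ne_zero_of_mul hz), fun hzU => hUy z hzU⟩
  show (∑ᶠ z ∈ p ⁻¹' {y}, B z * c z) = ∑ i ∈ T, ∑ᶠ z ∈ p ⁻¹' {y}, A i z * c z
  rw [hfib _ fun z hz h0 => ?_]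
  swap
  · rw [hB] at h0
    obtain ⟨i, hi, hne⟩ := Finset.exists_ne_zero_of_sum_ne_zero h0
    exact Set.mem_biUnion hi ⟨hne, hz⟩
  rw [Finset.sum_congr rfl fun i hi => hfib _ fun z hz h0 => Set.mem_biUnion hi ⟨h0, hz⟩, Finset.sum_comm]
  exact Finset.sum_congr rfl fun z _ => by rw [hB, Finset.sum_mul]

end Groth.L22.C1

namespace Groth.L22.Bundle

variable {X P : Scheme.{u}} {p : P ⟶ X} {F : X.Modules} {O1 : P.Modules}
  {q : (Scheme.Modules.pullback p).obj F ⟶ O1} {n : ℕ}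
  [IsLocallyNoetherian X] [IsLocallyNoetherian P] [IsProper p] {δ : X → ℤ} {δP : P → ℤ}
  (hdX : Cyc.IsDimFun X δ) (hdP : Cyc.IsDimFun P δP) (hδ : Cyc.DeltaCompat p δP δ)

theorem ratEquiv_zero_iff {k : ℤ} (α : AlgebraicCycle X ℤ) : Cyc.RatEquiv δ k α 0 ↔ Cyc.RatEquivZero δ k α := by
  rw [Cyc.RatEquiv, sub_zero]

include hdX hdP hδ in
/-- The classes `c₁^i ∩ π^* αᵢ` are independent. -/
theorem indep (hPB : KRR.IsProjBundle p F O1 q) (hF : FlatMod.IsFinLocFreeOfRank (n + 1) F) (k : ℤ)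
    (α : Fin (n + 1) → AlgebraicCycle X ℤ) (hα : ∀ i : Fin (n + 1), α i ∈ Cyc.Zk X δ (k + ((i : ℕ) : ℤ)))
    (hL : PicF.IsInvertible O1) (t : Fin (n + 1) → ℕ → (ξ : P) → Cyc.secFibre O1 ξ)
    (ht : ∀ i m ξ, t i m ξ ≠ 0) (β : AlgebraicCycle P ℤ)
    (hβ : ∀ z, β z = ∑ i, Cyc.c1PowFun δP O1 (t i) (i : ℕ) (Cyc.pullFun p δP δ (n : ℤ) ⇑(α i)) z)
    (h0 : Cyc.RatEquivZero δP (k + (n : ℤ)) β) :
    ∀ i : Fin (n + 1), Cyc.RatEquivZero δ (k + ((i : ℕ) : ℤ)) (α i) := by
  classical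
  haveI := flat_of_isProjBundle hPB hF
  suffices ∀ d : ℕ, ∀ i : Fin (n + 1), n ≤ (i : ℕ) + d → Cyc.RatEquivZero δ (k + ((i : ℕ) : ℤ)) (α i) from
    fun i => this n i (by omega)
  intro d
  induction d using Nat.strong_induction_on with
  | _ d ih =>
    intro i hi
    obtain ⟨m, hm⟩ : ∃ m, (i : ℕ) + m = n := ⟨n - i, by omega⟩
    let w := t i
    choose A hA using fun j => exists_cycle_pullFun hPB hF hdP hδ (α j)
    choose T hT using fun j : Fin (n + 1) => Groth.L22.C1.exists_cycle_c1Pow hdP hL (t j) (ht j) (A j) (j : ℕ)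
    choose U hU using fun j : Fin (n + 1) => Groth.L22.C1.exists_cycle_c1Pow hdP hL w (ht i) (T j) m
    obtain ⟨B, hB⟩ := Groth.L22.C1.exists_cycle_c1Pow hdP hL w (ht i) β m
    have hBsum : ∀ z, B z = ∑ j, U j z := fun z => by
      rw [hB, Groth.L22.C1.c1PowFun_finset_sum hdP hL Finset.univ T β (fun y => ?_) w (ht i) m z]
      · exact Finset.sum_congr rfl fun j _ => by rw [hU j]
      · rw [hβ y]
        exact Finset.sum_congr rfl fun j _ => by rw [hT j, hA j]
    have hUeq : ∀ j, ⇑(U j) = Cyc.c1PowFun δP O1 (Groth.L22.C1.catSec (t j) w j) ((j : ℕ) + m)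
        (Cyc.pullFun p δP δ (n : ℤ) ⇑(α j)) := fun j => by
      rw [Groth.L22.C1.c1PowFun_cat, hU j, hT j, hA j]
    have hUne := fun j : Fin (n + 1) => Groth.L22.C1.catSec_ne_zero (t j) w (ht j) (ht i) (j : ℕ)
    have hB0 := Groth.L22.C1.c1Pow_ratEquivZero hdP hL w (ht i) m (k + (n : ℤ)) β h0 B hB
    rw [show k + (n : ℤ) - (m : ℤ) = k + ((i : ℕ) : ℤ) by omega] at hB0
    have hlow : ∀ j : Fin (n + 1), (j : ℕ) ≤ i → ∀ x, AlgebraicCycle.map p δP δ (U j) x =
        if (j : ℕ) + m = n then α j x else 0 := fun j hj x =>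
      map_c1Pow hPB hF hdX hdP hδ hL _ (α j) (hα j) _ (hUne j) _ (by omega) (U j) (hUeq j) x
    let H : Finset (Fin (n + 1)) := Finset.univ.filter fun j => (i : ℕ) < (j : ℕ)
    have hhigh : ∀ j ∈ H, Cyc.RatEquivZero δ (k + ((i : ℕ) : ℤ)) (AlgebraicCycle.map p δP δ (U j)) := by
      intro j hj
      have hj' : (i : ℕ) < (j : ℕ) := (Finset.mem_filter.1 hj).2
      have hz := ih (n - (j : ℕ)) (by omega) j (by omega)
      have h1 := Groth.L22.Cyc.ratEquivZero_pullFun (p := p) hdX hdP (delta_of_fibGen hdP hδ hPB hF) (α j) hz (A j) (hA j)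
      have h2 := Groth.L22.C1.c1Pow_ratEquivZero hdP hL (t j) (ht j) _ _ _ h1 (T j) (hT j)
      have h3 := Groth.L22.C1.c1Pow_ratEquivZero hdP hL w (ht i) _ _ _ h2 (U j) (hU j)
      rw [show k + ((j : ℕ) : ℤ) + (n : ℤ) - ((j : ℕ) : ℤ) - (m : ℤ) = k + ((i : ℕ) : ℤ) by omega,
        ← ratEquiv_zero_iff] at h3
      have h4 := Groth.L22.Cyc.ratEquiv_map p hdP hdX hδ _ _ _ h3
      rwa [Cyc.RatEquiv, show AlgebraicCycle.map p δP δ (0 : AlgebraicCycle P ℤ) = 0 from
        Function.locallyFinsuppWithin.ext fun x => finsum_mem_eq_zero_of_forall_eq_zero fun z _ => zero_mul _,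
        sub_zero] at h4
    have hBmap : Cyc.RatEquivZero δ (k + ((i : ℕ) : ℤ)) (AlgebraicCycle.map p δP δ B) := by
      rw [← ratEquiv_zero_iff] at hB0
      have h4 := Groth.L22.Cyc.ratEquiv_map p hdP hdX hδ _ _ _ hB0
      rwa [Cyc.RatEquiv, show AlgebraicCycle.map p δP δ (0 : AlgebraicCycle P ℤ) = 0 from
        Function.locallyFinsuppWithin.ext fun x => finsum_mem_eq_zero_of_forall_eq_zero fun z _ => zero_mul _,
        sub_zero] at h4
    have hsum : ∀ x, α i x = AlgebraicCycle.map p δP δ B x -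
        ∑ j ∈ H, AlgebraicCycle.map p δP δ (U j) x := fun x => by
      rw [Groth.L22.C1.map_sum_apply p δ Finset.univ U B hBsum x, eq_sub_iff_add_eq]
      rw [← Finset.sum_filter_add_sum_filter_not Finset.univ (fun j : Fin (n + 1) => (i : ℕ) < (j : ℕ)),
        add_comm (α i x), add_right_inj]
      rw [Finset.sum_eq_single i (fun j hj hne => ?_) (fun h => absurd (by simp) h), hlow i le_rfl, if_pos hm]
      have := (Finset.mem_filter.1 hj).2
      rw [hlow j (by omega), if_neg (fun e => hne (Fin.ext (by omega)))]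
    have hHsum : ∀ S : Finset (Fin (n + 1)), S ⊆ H → Cyc.RatEquivZero δ (k + ((i : ℕ) : ℤ))
        (∑ j ∈ S, AlgebraicCycle.map p δP δ (U j)) := by
      intro S hS
      induction S using Finset.induction with
      | empty =>
        rw [Finset.sum_empty]
        exact ⟨PEmpty.{u + 1}, fun e => e.elim, fun e => e.elim, fun e => e.elim, fun e => e.elim,
          fun x => ⟨Set.univ, isOpen_univ, trivial, Set.toFinite _⟩, fun x => by rw [finsum_of_isEmpty]; rfl⟩
      | insert a S' ha ihS =>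
        rw [Finset.sum_insert ha]
        exact Groth.L22.C1.ratEquivZero_add _ (hhigh a (hS (Finset.mem_insert_self a S')))
          (ihS fun b hb => hS (Finset.mem_insert_of_mem hb))
    have e : α i = AlgebraicCycle.map p δP δ B - ∑ j ∈ H, AlgebraicCycle.map p δP δ (U j) :=
      Function.locallyFinsuppWithin.ext fun x => by
        rw [Function.locallyFinsuppWithin.coe_sub, Pi.sub_apply, hsum x]
        congr 1
        induction H using Finset.induction with
        | empty => simp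
        | insert a S' ha ihS => rw [Finset.sum_insert ha, Finset.sum_insert ha,
            Function.locallyFinsuppWithin.coe_add, Pi.add_apply, ihS]
    rw [e, sub_eq_add_neg]
    refine Groth.L22.C1.ratEquivZero_add _ hBmap ?_
    exact ((Groth.L22.C1.ratOn_univ (hHsum H subset_rfl)).zsmul hdX (-1)).ratEquivZero _
      (funext fun x => by simp)

end Groth.L22.Bundle
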