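import Groth.Agent.L18.PBundle.UPExist
import Groth.Agent.L18.PBundle.Taut
import Groth.Agent.L19.ProjBdl.PullComp
import Groth.Prelude.Def_KRR

/-!
A relative Proj of a symmetric algebra with its twisting module satisfies the universal property of a
projective bundle.
-/

set_option autoImplicit false
set_option linter.style.haveILetI false
set_option backward.isDefEq.respectTransparency false

noncomputable section

universe u

open CategoryTheory CategoryTheory.Limits AlgebraicGeometry TopologicalSpace Opposite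
open Groth.L18.Frame (rs rs_self pull)
open Groth.L18.PBundle

namespace Groth.L22.Bundle

variable {X P T : Scheme.{u}} {E : X.Modules} {p : P ⟶ X} {O1 : P.Modules}
  (φ : E ⟶ (Scheme.Modules.pushforward p).obj O1)

theorem isInvertible_of_one {L : T.Modules} (hL : FlatMod.IsFinLocFreeOfRank 1 L) : PicF.IsInvertible L :=
  fun x => by
    obtain ⟨U, hx, ⟨e⟩⟩ := hL x
    exact ⟨U, hx, ⟨e ≪≫ coproductUniqueIso (fun _ : Fin 1 => Coh.structureModule (↑U : Scheme.{u}))⟩⟩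

theorem isFinLocFree_one {L : T.Modules} (hL : PicF.IsInvertible L) : FlatMod.IsFinLocFreeOfRank 1 L :=
  fun x => by
    obtain ⟨U, hx, ⟨e⟩⟩ := hL x
    exact ⟨U, hx, ⟨e ≪≫ (coproductUniqueIso (fun _ : Fin 1 => Coh.structureModule U.toScheme)).symm⟩⟩

theorem can_pull (h : T ⟶ P) (U : X.Opens) (e : Γ(E, U)) :
    ((Scheme.Modules.pullbackComp h p).inv.app E ≫ (Scheme.Modules.pullback h).map (adjHom φ)).app
      ((h ≫ p) ⁻¹ᵁ U) (pull (h ≫ p) E U e) = pull h O1 (p ⁻¹ᵁ U) (φ.app U e) := by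
  show ((Scheme.Modules.pullback h).map (adjHom φ)).app _ (((Scheme.Modules.pullbackComp h p).inv.app E).app _
    (pull (h ≫ p) E U e)) = _
  rw [Groth.L19.ProjBdl.pull_comp]
  refine (Groth.L19.ProjBdl.pull_app h (adjHom φ) (p ⁻¹ᵁ U) (pull p E U e)).trans ?_
  rw [adjHom_pull]

theorem sol_iff (h : T ⟶ P) {L : T.Modules} (s : (Scheme.Modules.pullback (h ≫ p)).obj E ⟶ L)
    (τ : (Scheme.Modules.pullback h).obj O1 ≅ L) :
    ((Scheme.Modules.pullbackComp h p).inv.app E ≫ (Scheme.Modules.pullback h).map (adjHom φ) ≫ τ.hom = s) ↔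
    ∀ (U : X.Opens) (e : Γ(E, U)),
      τ.hom.app (h ⁻¹ᵁ (p ⁻¹ᵁ U)) (pull h O1 (p ⁻¹ᵁ U) (φ.app U e)) =
        rs L (base_le (g := h ≫ p) rfl U) ((adjSec s).app U e) := by
  constructor
  · intro hs U e
    rw [rs_self, adjSec_app, ← hs, ← can_pull φ h U e]
    rfl
  · intro hs
    refine hom_ext_pull fun U e => ?_
    have := hs U e
    rw [rs_self, adjSec_app, ← can_pull φ h U e] at this
    exact this

variable {𝒮 : RelProj.QCGrAlg X}
  {chart : ∀ (U : X.Opens) (hU : IsAffineOpen U), (((p ⁻¹ᵁ U : P.Opens) : Scheme.{u}) ≅ Proj (𝒮.deg U hU))}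
  {j : E ⟶ 𝒮.toModule}
  {lam : ∀ (U : X.Opens) (hU : IsAffineOpen U),
    O1 ⟶ (Scheme.Modules.pushforward (RelProj.emb p chart U hU)).obj (GrTwist.twist (𝒮.deg U hU) 1)}

theorem exists_isProjBundle (hq : Coh.IsQCoh E) (hS : RelProj.IsGrSymAlg E 𝒮 j)
    (hP : RelProj.IsRelProj 𝒮 p chart) (hO1 : RelProj.IsRelTwist 𝒮 p chart 1 O1 lam)
    (hinv : PicF.IsInvertible O1) :
    ∃ q : (Scheme.Modules.pullback p).obj E ⟶ O1, KRR.IsProjBundle p E O1 q := by
  obtain ⟨φ, hφ⟩ := exists_taut hS hP hq hO1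
  refine ⟨adjHom φ, ⟨isFinLocFree_one hinv, Groth.L18.PBundle.epi_adjHom hq hS hO1 hφ,
    fun T g L hL s hs => ?_⟩⟩
  obtain ⟨r, hr, τ, hτ⟩ := exists_morphism hS hq hP hO1 hφ (isInvertible_of_one hL) s hs
  refine ⟨r, ⟨hr, τ, ?_⟩, ?_⟩
  · subst hr
    have h0 : (Scheme.Modules.pullbackCongr (rfl : r ≫ p = r ≫ p)).inv.app E = 𝟙 _ := by simp [Scheme.Modules.pullbackCongr]
    rw [h0, Category.id_comp]
    exact (sol_iff φ r s τ).2 hτ
  · rintro r' ⟨hr', τ', hτ'⟩
    refine (sol_unique hq hS hP hO1 hφ (hr := hr) (hr' := hr') (w := adjSec s) ⟨τ, hτ⟩ ?_).symm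
    · subst hr'
      have h0 : (Scheme.Modules.pullbackCongr (rfl : r' ≫ p = r' ≫ p)).inv.app E = 𝟙 _ := by simp [Scheme.Modules.pullbackCongr]
      rw [h0, Category.id_comp] at hτ'
      exact ⟨τ', (sol_iff φ r' s τ').1 hτ'⟩

end Groth.L22.Bundle
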