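import Groth.Agent.L22.Bundle.SpecStalk
import Groth.Agent.L22.Bundle.Immersion
import Groth.Agent.L22.Bundle.ChartAlg
import Groth.Agent.L22.Cyc.FlatDiv
import Mathlib.AlgebraicGeometry.Morphisms.Flat
import Mathlib.AlgebraicGeometry.Morphisms.FiniteType

/-!
Cycles on the affine line over an affine scheme, fibre by fibre.
-/

set_option autoImplicit false
set_option linter.style.haveILetI false
set_option backward.isDefEq.respectTransparency.types false
set_option backward.isDefEq.respectTransparency false

universe u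

open CategoryTheory AlgebraicGeometry TopologicalSpace Polynomial

noncomputable section

namespace Groth.L22.Bundle

variable (B : CommRingCat.{u})

/-- The affine line. -/
abbrev Line : Scheme.{u} := Spec (CommRingCat.of (Polynomial B))

/-- Its projection. -/
abbrev linePr : Line B ⟶ Spec B := Spec.map (CommRingCat.ofHom (Polynomial.C : B →+* Polynomial B))

/-- The generic point of a fibre of the affine line. -/
def lineGen (r : Spec B) : Line B := ⟨r.asIdeal.map Polynomial.C, Ideal.isPrime_map_C_of_isPrime⟩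

theorem linePr_lineGen (r : Spec B) : linePr B (lineGen B r) = r := by
  refine PrimeSpectrum.ext (Ideal.ext fun a => ?_)
  show Polynomial.C a ∈ r.asIdeal.map Polynomial.C ↔ _
  rw [Ideal.mem_map_C_iff]
  exact ⟨fun h => by simpa using h 0, fun h n => by
    rw [coeff_C]; split_ifs
    · exact h
    · exact zero_mem _⟩

theorem lineGen_le (x : Line B) : (lineGen B (linePr B x)).asIdeal ≤ x.asIdeal :=
  Ideal.map_comap_le

theorem lineGen_specializes (x : Line B) : lineGen B (linePr B x) ⤳ x :=
  (PrimeSpectrum.le_iff_specializes _ _).1 (lineGen_le B x)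

theorem fibGen_lineGen (r : Spec B) : Groth.L22.Cyc.FibGen (linePr B) (lineGen B r) := by
  intro y hy hsp
  have h := lineGen_specializes B y
  rw [hy, linePr_lineGen] at h
  exact (hsp.antisymm h).eq

theorem fibGen_eq (x : Line B) (h : Groth.L22.Cyc.FibGen (linePr B) x) : x = lineGen B (linePr B x) :=
  (h _ (linePr_lineGen B _) (lineGen_specializes B x)).symm

theorem mult_lineGen (r : Spec B) : Groth.L22.Cyc.mult (linePr B) (lineGen B r) = 1 := by
  let g := lineGen B r
  have hf : Groth.L22.Cyc.fibIdeal (linePr B) g = IsLocalRing.maximalIdeal ((Line B).presheaf.stalk g) := by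
    refine le_antisymm (Ideal.map_le_iff_le_comap.2 fun a ha => ?_) ?_
    · show (linePr B).stalkMap g a ∈ IsLocalRing.maximalIdeal ((Line B).presheaf.stalk g)
      rw [IsLocalRing.mem_maximalIdeal, mem_nonunits_iff] at ha ⊢
      exact fun hu => ha ((isUnit_map_iff ((linePr B).stalkMap g).hom a).1 hu)
    · rw [← gS_maximal g, show g.asIdeal = r.asIdeal.map Polynomial.C from rfl, Ideal.map_map,
        Ideal.map_le_iff_le_comap]
      intro a ha
      show gS g (Polynomial.C a) ∈ Groth.L22.Cyc.fibIdeal (linePr B) g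
      have e : gS g (Polynomial.C a) = (linePr B).stalkMap g (gS (linePr B g) a) := (gS_specMap _ g a).symm
      rw [e]
      refine Ideal.mem_map_of_mem _ ((gS_mem_iff _ a).2 ?_)
      rw [linePr_lineGen]
      exact ha
  rw [Groth.L22.Cyc.mult, hf]
  exact length_quot_max _ _

instance flat_linePr : Flat (linePr B) := by
  rw [Flat.SpecMap_iff]
  exact RingHom.flat_algebraMap_iff.2 inferInstance

instance locallyOfFiniteType_linePr : LocallyOfFiniteType (linePr B) := by
  rw [HasRingHomProperty.Spec_iff (P := @LocallyOfFiniteType)]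
  exact RingHom.finiteType_algebraMap.2 inferInstance

variable {B}

/-- Pseudo-division. -/
theorem pseudo_div {A : Type u} [CommRing A] (F : Polynomial A) (hF : F ≠ 0) :
    ∀ (G : Polynomial A), ∃ (k : ℕ) (Q : Polynomial A),
      (Polynomial.C F.leadingCoeff ^ k * G - Q * F).degree < F.degree := by
  intro G
  induction hn : G.degree using WellFoundedLT.induction generalizing G with
  | _ d ih =>
    by_cases hlt : G.degree < F.degree
    · exact ⟨0, 0, by simpa using hlt⟩
    · have hle : F.degree ≤ G.degree := not_lt.1 hlt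
      have hG : G ≠ 0 := by rintro rfl; simp at hle; exact hF hle
      let M := Polynomial.C G.leadingCoeff * Polynomial.X ^ (G.natDegree - F.natDegree)
      have hd : (Polynomial.C F.leadingCoeff * G - M * F).degree < G.degree := by
        rw [Polynomial.degree_eq_natDegree hG, Polynomial.degree_lt_iff_coeff_zero]
        intro m hm
        have hnat : F.natDegree ≤ G.natDegree := Polynomial.natDegree_le_natDegree hle
        rw [Polynomial.coeff_sub, Polynomial.coeff_C_mul, show M * F =
          Polynomial.C G.leadingCoeff * (F * Polynomial.X ^ (G.natDegree - F.natDegree)) by ring,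
          Polynomial.coeff_C_mul, Polynomial.coeff_mul_X_pow', if_pos (by omega)]
        rcases eq_or_lt_of_le hm with h | h
        · subst h
          rw [show G.natDegree - (G.natDegree - F.natDegree) = F.natDegree by omega,
            Polynomial.coeff_natDegree, Polynomial.coeff_natDegree]
          ring
        · rw [Polynomial.coeff_eq_zero_of_natDegree_lt (by omega : G.natDegree < m),
            Polynomial.coeff_eq_zero_of_natDegree_lt (by omega : F.natDegree < m - (G.natDegree - F.natDegree))]
          ring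
      obtain ⟨k, Q, hQ⟩ := ih _ (hn ▸ hd) _ rfl
      refine ⟨k + 1, Q + Polynomial.C F.leadingCoeff ^ k * M, ?_⟩
      refine lt_of_eq_of_lt (congrArg Polynomial.degree ?_) hQ
      ring

variable [IsNoetherianRing B] {δB : Spec B → ℤ} {δT : Line B → ℤ} (hdT : Cyc.IsDimFun (Line B) δT)
  (hdB : Cyc.IsDimFun (Spec B) δB) (hδ : Cyc.DeltaCompat (linePr B) δT δB)

include hdT hδ in
theorem delta_lineGen (r : Spec B) : δT (lineGen B r) = δB r + 1 := by
  let ev : Polynomial B →+* B := Polynomial.evalRingHom 0
  let s : Spec B ⟶ Line B := Spec.map (CommRingCat.ofHom ev)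
  have hs : s ≫ linePr B = 𝟙 _ := by
    rw [← Spec.map_comp, show CommRingCat.ofHom (Polynomial.C : B →+* Polynomial B) ≫ CommRingCat.ofHom ev = 𝟙 B from
      CommRingCat.hom_ext (RingHom.ext fun a => Polynomial.eval_C), Spec.map_id]
  haveI : IsClosedImmersion s := IsClosedImmersion.spec_of_surjective _
    fun a => ⟨Polynomial.C a, Polynomial.eval_C⟩
  have hpz : linePr B (s r) = r := by
    show (s ≫ linePr B) r = r
    rw [hs]; rfl
  have h0 : δT (s r) = δB r := by
    obtain ⟨n, hn, hd⟩ := deltaCompat_comp s (linePr B) hδ r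
    have : (n : Cardinal.{u}) = 0 := by
      rw [← show Groth.L22.Cyc.rtrdeg (s ≫ linePr B) r = (n : Cardinal.{u}) from hn,
        Groth.L22.Cyc.rtrdeg_congr _ hs, rtrdeg_eq_zero]
    have hn0 : n = 0 := by exact_mod_cast this
    refine hd.trans ?_
    rw [hn0]
    show δB ((s ≫ linePr B) r) + _ = _
    rw [hs]
    simp
  have hg : lineGen B r ⤳ s r := by
    have := lineGen_specializes B (s r)
    rwa [hpz] at this
  have hX : (s r).asIdeal = (lineGen B r).asIdeal ⊔ Ideal.span {(Polynomial.X : Polynomial B)} := by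
    show r.asIdeal.comap ev = _
    refine le_antisymm (fun f hf => ?_) (sup_le ?_ ?_)
    · rw [← Polynomial.divX_mul_X_add f, add_comm]
      refine Submodule.add_mem_sup (Ideal.mem_map_of_mem _ ?_) (Ideal.mul_mem_left _ _ (Ideal.mem_span_singleton_self _))
      have h1 : ev f = f.coeff 0 := (Polynomial.coeff_zero_eq_eval_zero f).symm
      rw [Ideal.mem_comap, h1] at hf
      exact hf
    · exact Ideal.map_le_iff_le_comap.2 fun a ha => by simpa [ev] using ha
    · rw [Ideal.span_le, Set.singleton_subset_iff]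
      simp [ev]
  have hne : lineGen B r ≠ s r := fun e => by
    have h1 : (Polynomial.X : Polynomial B) ∈ (lineGen B r).asIdeal :=
      e ▸ hX ▸ Ideal.mem_sup_right (Ideal.mem_span_singleton_self _)
    have := (Ideal.mem_map_C_iff.1 h1) 1
    rw [Polynomial.coeff_X_one] at this
    exact r.isPrime.ne_top ((Ideal.eq_top_iff_one _).2 this)
  rw [← h0]
  refine (hdT _ _ hg hne).2 fun z h1 h2 => ?_
  rcases eq_or_eq_of_sup_span hX ((PrimeSpectrum.le_iff_specializes _ _).2 h1)
    ((PrimeSpectrum.le_iff_specializes _ _).2 h2) with e | e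
  · exact Or.inl (PrimeSpectrum.ext e)
  · exact Or.inr (PrimeSpectrum.ext e)

include hdT hδ in
theorem delta_of_ne_lineGen (x : Line B) (hx : x ≠ lineGen B (linePr B x)) : δT x = δB (linePr B x) := by
  obtain ⟨n, -, hd⟩ := hδ x
  have h1 := (hdT _ _ (lineGen_specializes B x) (Ne.symm hx)).1
  rw [delta_lineGen hdT hδ] at h1
  omega

include hdT hdB hδ in
/-- A closed point of a fibre is a divisor on the fibre. -/
theorem exists_fibre_fun (x : Line B) (hx : x ≠ lineGen B (linePr B x)) :
    ∃ f : (Line B).residueField (lineGen B (linePr B x)), f ≠ 0 ∧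
      Cyc.divFun δT (lineGen B (linePr B x)) f x = 1 ∧
      ∀ y, Cyc.divFun δT (lineGen B (linePr B x)) f y ≠ 0 → linePr B y = linePr B x → y = x := by
  classical
  set g := lineGen B (linePr B x) with hg
  have hex : ∃ d : ℕ, ∃ F ∈ x.asIdeal, F ∉ g.asIdeal ∧ F.natDegree = d := by
    by_contra h
    simp only [not_exists, not_and] at h
    exact hx (PrimeSpectrum.ext (le_antisymm (fun F hF => by_contra fun hF' => h _ F hF hF' rfl) (lineGen_le B x)))
  obtain ⟨F, hF, hFg, hdeg⟩ := Nat.find_spec hex
  have hmin : ∀ G ∈ x.asIdeal, G.natDegree < F.natDegree → G ∈ g.asIdeal := fun G hG hlt =>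
    by_contra fun h => Nat.find_min hex (hdeg ▸ hlt) ⟨G, hG, h, rfl⟩
  have hF0 : F ≠ 0 := fun e => hFg (e ▸ zero_mem _)
  have hlead : F.leadingCoeff ∉ (linePr B x).asIdeal := fun h => by
    have hterm : Polynomial.C F.leadingCoeff * Polynomial.X ^ F.natDegree ∈ g.asIdeal :=
      Ideal.mul_mem_right _ _ (Ideal.mem_map_of_mem _ h)
    have hG : F.eraseLead ∈ x.asIdeal := by
      rw [← Polynomial.self_sub_C_mul_X_pow]
      exact sub_mem hF (lineGen_le B x hterm)
    by_cases hd0 : F.natDegree = 0
    · refine hFg ?_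
      rw [Polynomial.eq_C_of_natDegree_eq_zero hd0] at hterm ⊢
      simpa using hterm
    have hlt : F.eraseLead.natDegree < F.natDegree := by
      have := Polynomial.eraseLead_natDegree_le F
      omega
    refine hFg ?_
    rw [← Polynomial.eraseLead_add_C_mul_X_pow F]
    exact add_mem (hmin _ hG hlt) hterm
  have ha : Polynomial.C F.leadingCoeff ∉ x.asIdeal := hlead
  have hdiv : ∀ G ∈ x.asIdeal, ∃ k, Polynomial.C F.leadingCoeff ^ k * G ∈ g.asIdeal ⊔ Ideal.span {F} := by
    intro G hG
    obtain ⟨k, Q, hQ⟩ := pseudo_div F hF0 G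
    refine ⟨k, ?_⟩
    rw [show Polynomial.C F.leadingCoeff ^ k * G =
      (Polynomial.C F.leadingCoeff ^ k * G - Q * F) + Q * F by ring]
    refine Submodule.add_mem_sup ?_ (Ideal.mul_mem_left _ _ (Ideal.mem_span_singleton_self _))
    by_cases h0 : Polynomial.C F.leadingCoeff ^ k * G - Q * F = 0
    · rw [h0]; exact zero_mem _
    exact hmin _ (sub_mem (Ideal.mul_mem_left _ _ hG) (Ideal.mul_mem_left _ _ hF))
      (Polynomial.natDegree_lt_natDegree h0 hQ)
  have hgx : g ⤳ x := lineGen_specializes B x
  have hd : δT x + 1 = δT g := by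
    rw [delta_of_ne_lineGen hdT hδ x hx, delta_lineGen hdT hδ]
  let f : (Line B).residueField g := (Line B).residue g (gS g F)
  have hf : f ≠ 0 := fun h => hFg ((gS_mem_iff g F).1 ((IsLocalRing.residue_eq_zero_iff _).1 h))
  have hspec : ∀ (y : Line B) (h : g ⤳ y), Cyc.specMap y g h (gS y F) = f := fun y h => by
    rw [Groth.L22.Cyc.specMap_eq_residue, gS_specializes]
  refine ⟨f, hf, ?_, fun y hy hpy => ?_⟩
  · rw [Cyc.divFun, dif_pos ⟨hgx, hd⟩, ← hspec x hgx]
    refine ordAt_eq_one hdT hgx hd (by rw [hspec]; exact hf) ((gS_mem_iff x F).2 hF) ?_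
    rw [← gS_maximal x, Ideal.map_le_iff_le_comap]
    intro G hG
    obtain ⟨k, hk⟩ := hdiv G hG
    have h1 : gS x (Polynomial.C F.leadingCoeff ^ k * G) ∈
        RingHom.ker (Cyc.specMap x g hgx) ⊔ Ideal.span {gS x F} := by
      have h2 := Ideal.mem_map_of_mem (gS x) hk
      rw [Ideal.map_sup, Ideal.map_span, Set.image_singleton] at h2
      have hle : g.asIdeal.map (gS x) ≤ RingHom.ker (Cyc.specMap x g hgx) := ?_
      · exact (sup_le (hle.trans le_sup_left) le_sup_right :
          g.asIdeal.map (gS x) ⊔ Ideal.span {gS x F} ≤ _) h2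
      refine Ideal.map_le_iff_le_comap.2 fun H hH => ?_
      show Cyc.specMap x g hgx (gS x H) = 0
      rw [Groth.L22.Cyc.specMap_eq_residue, gS_specializes]
      exact (IsLocalRing.residue_eq_zero_iff _).2 ((gS_mem_iff g H).2 hH)
    rw [map_mul] at h1
    have hu : IsUnit (gS x (Polynomial.C F.leadingCoeff ^ k)) := by
      rw [map_pow]
      refine (IsLocalRing.notMem_maximalIdeal.1 ?_).pow k
      exact fun h => ha ((gS_mem_iff x _).1 h)
    exact (Ideal.unit_mul_mem_iff_mem _ hu).1 h1
  · obtain ⟨hgy, hdy⟩ : g ⤳ y ∧ δT y + 1 = δT g := by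
      rw [Cyc.divFun] at hy
      split_ifs at hy with h
      · exact h
      · exact absurd rfl hy
    by_cases hFy : F ∈ y.asIdeal
    · have hle : x.asIdeal ≤ y.asIdeal := fun G hG => by
        obtain ⟨k, hk⟩ := hdiv G hG
        refine (y.isPrime.mem_or_mem (sup_le ((PrimeSpectrum.le_iff_specializes _ _).2 hgy)
          ((Ideal.span_singleton_le_iff_mem _).2 hFy) hk)).resolve_left fun h => hlead ?_
        rw [← hpy]
        exact y.isPrime.mem_of_pow_mem _ h
      by_contra hne
      have := (hdT x y ((PrimeSpectrum.le_iff_specializes _ _).1 hle) (Ne.symm hne)).1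
      omega
    · refine absurd ?_ hy
      rw [Cyc.divFun, dif_pos ⟨hgy, hdy⟩, ← hspec y hgy]
      exact Groth.L22.Cyc.ordAt_of_isUnit hdT y g hgy hdy
        (IsLocalRing.notMem_maximalIdeal.1 fun h => hFy ((gS_mem_iff y F).1 h))

end Groth.L22.Bundle
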