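import Groth.Agent.L22.C1.Local
import Groth.Agent.L22.C1.Family
import Groth.Agent.L22.Cyc.PushRat
import Groth.Prelude.Def_ChowOps2

/-!
Caps of locally supported rational equivalences, powers of a cap, and push-forwards dropping dimension.
-/

set_option autoImplicit false
set_option linter.style.haveILetI false
set_option backward.isDefEq.respectTransparency false

universe u

open CategoryTheory AlgebraicGeometry TopologicalSpace

noncomputable section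

namespace Groth.L22.C1

variable {X : Scheme.{u}} [IsLocallyNoetherian X] {δ : X → ℤ} (hδ : Cyc.IsDimFun X δ)

include hδ in
theorem exists_cycle_divFun (ξ : X) (f : X.residueField ξ) (hf : f ≠ 0) :
    ∃ D : AlgebraicCycle X ℤ, ⇑D = Cyc.divFun δ ξ f :=
  exists_cycle _ fun z => by
    obtain ⟨V, hV, hzV, -⟩ := exists_isAffineOpen_mem_and_subset (x := z) (U := ⊤) trivial
    exact ⟨V, hzV, Groth.L22.Cyc.finite_support_divFun_inter_compact hδ ξ f hf hV.isCompact⟩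

include hδ in
/-- A cap of a rational equivalence lives on the same points. -/
theorem RatOn.c1Cap {L : X.Modules} (hL : PicF.IsInvertible L) {S : Set X}
    (hS : ∀ z z', z ∈ S → z ⤳ z' → z' ∈ S) {j : ℤ} {G : X → ℤ} (h : RatOn δ (j + 1) S G)
    (v : (ξ : X) → Cyc.secFibre L ξ) (hv : ∀ ξ, v ξ ≠ 0) : RatOn δ j S (Cyc.c1CapFun δ L G v) := by
  obtain ⟨ι, ξ, f, h1, h2, h3, h4, h5⟩ := h
  choose D hD using fun i => exists_cycle_divFun hδ (ξ i) (f i) (h2 i)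
  refine (ratOn_of_family (δ := δ) ξ h4 (fun i => Cyc.c1CapFun δ L ⇑(D i) v) fun i => ?_).congr fun x => ?_
  · rw [hD i]
    have h6 := ratOn_c1Cap_divFun hδ (ξ i) (f i) (h2 i) hL v v hv hv Set.univ
      (fun _ hu => absurd (Set.mem_univ _) hu)
    rw [show δ (ξ i) - 2 = j by rw [h1 i]; ring] at h6
    refine h6.mono fun z hz => ⟨hz.1, hS _ _ (h3 i) (specializes_iff_mem_closure.2 hz.1)⟩
  · exact c1CapFun_family ξ h4 D (fun i η hη => (divFun_ne_zero (by rw [hD i] at hη; exact hη)).1) G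
      (fun η => (h5 η).trans (finsum_congr fun i => by rw [hD i])) v x

theorem c1CapFun_sub {L : X.Modules} (A B D : AlgebraicCycle X ℤ) (hD : ∀ x, D x = A x - B x)
    (v : (ξ : X) → Cyc.secFibre L ξ) (x : X) :
    Cyc.c1CapFun δ L ⇑D v x = Cyc.c1CapFun δ L ⇑A v x - Cyc.c1CapFun δ L ⇑B v x := by
  classical
  have key : ∀ E : AlgebraicCycle X ℤ, ∀ T : Finset X, {ξ | ξ ⤳ x ∧ E ξ ≠ 0} ⊆ (T : Set X) →
      Cyc.c1CapFun δ L ⇑E v x = ∑ ξ ∈ T, E ξ * Cyc.secDivFun δ L ξ (v ξ) x := fun E T hT =>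
    finsum_eq_sum_of_support_subset _ fun ξ hξ =>
      hT ⟨(secDivFun_ne_zero δ (right_ne_zero_of_mul hξ)).1, left_ne_zero_of_mul hξ⟩
  let T := (finite_gen A x).toFinset ∪ (finite_gen B x).toFinset
  rw [key A T fun ξ hξ => by simp [T, hξ.1, hξ.2], key B T fun ξ hξ => by simp [T, hξ.1, hξ.2],
    key D T fun ξ hξ => ?_, ← Finset.sum_sub_distrib]
  · exact Finset.sum_congr rfl fun ξ _ => by rw [hD, sub_mul]
  · obtain ⟨h1, h2⟩ := hξ
    rw [hD] at h2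
    by_cases hA : A ξ = 0
    · have : B ξ ≠ 0 := fun e => h2 (by rw [hA, e, sub_zero])
      simp [T, h1, this]
    · simp [T, h1, hA]

theorem exists_ne_zero_of_finsum {I : Type*} {f : I → ℤ} (h : (∑ᶠ i, f i) ≠ 0) : ∃ i, f i ≠ 0 := by
  by_contra hc
  simp only [not_exists, not_not] at hc
  exact h (finsum_eq_zero_of_forall_eq_zero hc)

omit [IsLocallyNoetherian X] in
/-- The support of an iterated cap. -/
theorem c1PowFun_ne_zero {L : X.Modules} (t : ℕ → (ξ : X) → Cyc.secFibre L ξ) :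
    ∀ (m : ℕ) (G : X → ℤ) (y : X), Cyc.c1PowFun δ L t m G y ≠ 0 →
      ∃ η, G η ≠ 0 ∧ η ⤳ y ∧ δ y + m = δ η := by
  intro m
  induction m with
  | zero => exact fun G y h => ⟨y, h, specializes_rfl, by simp⟩
  | succ m ih =>
    intro G y h
    obtain ⟨ξ, hξ⟩ := exists_ne_zero_of_finsum h
    obtain ⟨η, hη, hsp, hd⟩ := ih G ξ (left_ne_zero_of_mul hξ)
    obtain ⟨h1, h2⟩ := secDivFun_ne_zero δ (right_ne_zero_of_mul hξ)
    exact ⟨η, hη, hsp.trans h1, by push_cast; omega⟩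

omit [IsLocallyNoetherian X] in
theorem c1PowFun_mem {L : X.Modules} (t : ℕ → (ξ : X) → Cyc.secFibre L ξ) {d : ℤ}
    (α : AlgebraicCycle X ℤ) (hα : α ∈ Cyc.Zk X δ d) (m : ℕ) (β : AlgebraicCycle X ℤ)
    (hβ : ⇑β = Cyc.c1PowFun δ L t m ⇑α) : β ∈ Cyc.Zk X δ (d - m) := fun y hy => by
  by_contra h
  rw [hβ] at h
  obtain ⟨η, hη, -, hd⟩ := c1PowFun_ne_zero t m _ y h
  have : δ η = d := not_not.1 fun e => hη (hα η e)
  omega

include hδ in
theorem exists_cycle_c1Pow {L : X.Modules} (hL : PicF.IsInvertible L)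
    (t : ℕ → (ξ : X) → Cyc.secFibre L ξ) (ht : ∀ m ξ, t m ξ ≠ 0) (α : AlgebraicCycle X ℤ) (m : ℕ) :
    ∃ β : AlgebraicCycle X ℤ, ⇑β = Cyc.c1PowFun δ L t m ⇑α := by
  induction m with
  | zero => exact ⟨α, rfl⟩
  | succ m ih =>
    obtain ⟨B, hB⟩ := ih
    obtain ⟨C, hC⟩ := exists_cycle_c1Cap hδ hL B (t m) (ht m)
    exact ⟨C, by rw [hC, hB]; rfl⟩

include hδ in
/-- Iterated caps do not depend on the sections, up to rational equivalence on the same points. -/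
theorem ratOn_c1Pow_change {L : X.Modules} (hL : PicF.IsInvertible L) {S : Set X}
    (hS : ∀ z z', z ∈ S → z ⤳ z' → z' ∈ S) (d : ℤ) (α : AlgebraicCycle X ℤ) (hα : α ∈ Cyc.Zk X δ d)
    (hαS : ∀ z, α z ≠ 0 → z ∈ S) (t t' : ℕ → (ξ : X) → Cyc.secFibre L ξ) (ht : ∀ m ξ, t m ξ ≠ 0)
    (ht' : ∀ m ξ, t' m ξ ≠ 0) (m : ℕ) :
    RatOn δ (d - m) S (fun x => Cyc.c1PowFun δ L t m ⇑α x - Cyc.c1PowFun δ L t' m ⇑α x) := by
  induction m with
  | zero => exact ratOn_zero fun x => sub_self _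
  | succ m ih =>
    obtain ⟨A, hA⟩ := exists_cycle_c1Pow hδ hL t ht α m
    obtain ⟨B, hB⟩ := exists_cycle_c1Pow hδ hL t' ht' α m
    have hAS : ∀ z, A z ≠ 0 → z ∈ S := fun z hz => by
      rw [hA] at hz
      obtain ⟨η, hη, hsp, -⟩ := c1PowFun_ne_zero t m _ z hz
      exact hS _ _ (hαS η hη) hsp
    have e : d - (m : ℤ) = d - ((m + 1 : ℕ) : ℤ) + 1 := by push_cast; ring
    have h1 := ratOn_change hδ hL (d - ((m + 1 : ℕ) : ℤ)) A (e ▸ c1PowFun_mem t α hα m A hA) S (t m) (t' m)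
      (ht m) (ht' m) fun ξ hξ => Or.inl (hAS ξ hξ)
    have h2 : RatOn δ (d - ((m + 1 : ℕ) : ℤ) + 1) S (fun x => A x - B x) := by
      rw [← e, hA, hB]; exact ih
    obtain ⟨D, hD⟩ : ∃ D : AlgebraicCycle X ℤ, ∀ x, D x = A x - B x :=
      ⟨A - B, fun x => by rw [Function.locallyFinsuppWithin.coe_sub]; rfl⟩
    have h3 := (h2.congr (H := ⇑D) hD).c1Cap hδ hL hS (t' m) (ht' m)
    refine (h1.add h3).congr fun x => ?_
    rw [Pi.add_apply, c1CapFun_sub A B D hD]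
    show Cyc.c1CapFun δ L (Cyc.c1PowFun δ L t m ⇑α) (t m) x -
      Cyc.c1CapFun δ L (Cyc.c1PowFun δ L t' m ⇑α) (t' m) x = _
    rw [← hA, ← hB]
    ring

/-- Divisors on points dropping dimension push forward to zero. -/
theorem map_eq_zero_of_drop {Y : Scheme.{u}} [IsLocallyNoetherian Y] (p : X ⟶ Y) [IsProper p] {δY : Y → ℤ}
    (hX : Cyc.IsDimFun X δ) (hY : Cyc.IsDimFun Y δY) (hpc : Cyc.DeltaCompat p δ δY) {k : ℤ} {S : Set X}
    (hS : ∀ ξ ∈ S, δY (p ξ) ≠ k + 1) (D : AlgebraicCycle X ℤ) (hD : RatOn δ k S ⇑D) (y : Y) :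
    AlgebraicCycle.map p δ δY D y = 0 := by
  classical
  obtain ⟨ι, ξ, f, h1, h2, h3, h4, h5⟩ := hD
  let m : X → ℤ := fun x => ((AlgebraicCycle.mapCoeff p δ δY x : ℕ) : ℤ)
  obtain ⟨U, hU, hUc, hI⟩ : ∃ U : Set X, IsOpen U ∧ p ⁻¹' {y} ⊆ U ∧
      {i | (closure {ξ i} ∩ U).Nonempty}.Finite := by
    choose U hU hxU hfin using h4
    obtain ⟨T, hT⟩ := (p.isCompact_preimage_singleton y).elim_finite_subcover U hU
      (fun x _ => Set.mem_iUnion.2 ⟨x, hxU x⟩)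
    refine ⟨⋃ x ∈ T, U x, isOpen_biUnion fun x _ => hU x, hT, (T.finite_toSet.biUnion fun x _ => hfin x).subset
      fun i ⟨z, hz, hzU⟩ => ?_⟩
    obtain ⟨x, hx, hzx⟩ := Set.mem_iUnion₂.1 hzU
    exact Set.mem_biUnion hx ⟨z, hz, hzx⟩
  let I := hI.toFinset
  let T : Set X := ⋃ i ∈ I, Function.support (Cyc.divFun δ (ξ i) (f i)) ∩ p ⁻¹' {y}
  have hT : T.Finite := I.finite_toSet.biUnion fun i _ =>
    Groth.L22.Cyc.finite_support_divFun_inter_compact hX (ξ i) (f i) (h2 i) (p.isCompact_preimage_singleton y)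
  have hTy : ∀ x ∈ T, p x = y := fun x hx => by
    obtain ⟨i, -, hxi⟩ := Set.mem_iUnion₂.1 hx
    exact hxi.2
  have hfibre : ∀ F : X → ℤ, (∀ x, p x = y → F x ≠ 0 → x ∈ T) →
      (∑ᶠ x ∈ p ⁻¹' {y}, F x * m x) = ∑ x ∈ hT.toFinset, F x * m x := fun F hF => by
    rw [← finsum_mem_eq_finite_toFinset_sum _ hT]
    exact finsum_mem_inter_support_eq' _ _ _ fun x hx =>
      ⟨fun hxy => hF x hxy (left_ne_zero_of_mul hx), fun hxT => hTy x hxT⟩
  have hab : ∀ x, p x = y → D x = ∑ i ∈ I, Cyc.divFun δ (ξ i) (f i) x := fun x hx => by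
    rw [h5 x]
    exact finsum_eq_sum_of_support_subset _ fun i hi => Finset.mem_coe.2 (hI.mem_toFinset.2
      ⟨x, specializes_iff_mem_closure.1 (divFun_ne_zero hi).1, hUc hx⟩)
  show (∑ᶠ x ∈ p ⁻¹' {y}, D x * m x) = 0
  rw [hfibre _ fun x hx h0 => ?_]
  swap
  · rw [hab x hx] at h0
    obtain ⟨i, hi, hne⟩ := Finset.exists_ne_zero_of_sum_ne_zero h0
    exact Set.mem_biUnion hi ⟨hne, hx⟩
  rw [Finset.sum_congr rfl fun x hx => by rw [hab x (hTy x (hT.mem_toFinset.1 hx)), Finset.sum_mul],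
    Finset.sum_comm]
  refine Finset.sum_eq_zero fun i hi => ?_
  rw [← hfibre _ fun x hx h0 => Set.mem_biUnion hi ⟨h0, hx⟩,
    Groth.L22.Cyc.map_divFun p hX hY hpc (ξ i) (f i) (h2 i) y, if_neg]
  rw [h1 i]
  exact hS _ (h3 i)

end Groth.L22.C1
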