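import Groth.Agent.L22.Bundle.AffLine
import Groth.Agent.L22.Bundle.RatAux
import Mathlib.Algebra.MvPolynomial.Equiv

/-!
Cycles of dimension below the top on affine space are divisors, fibre by fibre.
-/

set_option autoImplicit false
set_option linter.style.haveILetI false
set_option backward.isDefEq.respectTransparency.types false
set_option backward.isDefEq.respectTransparency false

universe u

open CategoryTheory AlgebraicGeometry TopologicalSpace

noncomputable section

namespace Groth.L22.Bundle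

variable {X Y : Scheme.{u}}

/-- The cycle of a point. -/
def pt (x : X) : X → ℤ := fun z => by classical exact if z = x then 1 else 0

theorem pt_self (x : X) : pt x x = 1 := if_pos rfl

theorem pt_ne {x z : X} (h : z ≠ x) : pt x z = 0 := if_neg h

/-- A function agreeing on a fibre with a finite sum of divisors living on that fibre. -/
def FibRat (q : X → Y) (δ : X → ℤ) (w : Y) (k : ℤ) (G : X → ℤ) : Prop :=
  ∃ (ι : Type u) (_ : Fintype ι) (ξ : ι → X) (f : (i : ι) → X.residueField (ξ i)),
    (∀ i, δ (ξ i) = k + 1 ∧ f i ≠ 0 ∧ q (ξ i) = w) ∧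
    ∀ x, q x = w → G x = ∑ i, Cyc.divFun δ (ξ i) (f i) x

variable {q : X → Y} {δ : X → ℤ} {w : Y} {k : ℤ} {G H : X → ℤ}

theorem FibRat.congr (h : FibRat q δ w k G) (hGH : ∀ x, q x = w → H x = G x) : FibRat q δ w k H := by
  obtain ⟨ι, hι, ξ, f, h1, h2⟩ := h
  exact ⟨ι, hι, ξ, f, h1, fun x hx => (hGH x hx).trans (h2 x hx)⟩

theorem fibRat_zero (hG : ∀ x, q x = w → G x = 0) : FibRat q δ w k G :=
  ⟨PEmpty, inferInstance, fun i => i.elim, fun i => i.elim, fun i => i.elim,
    fun x hx => by rw [hG x hx, Finset.univ_eq_empty, Finset.sum_empty]⟩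

theorem fibRat_divFun (ξ : X) (f : X.residueField ξ) (hk : δ ξ = k + 1) (hf : f ≠ 0) (hq : q ξ = w) :
    FibRat q δ w k (Cyc.divFun δ ξ f) :=
  ⟨PUnit, inferInstance, fun _ => ξ, fun _ => f, fun _ => ⟨hk, hf, hq⟩, fun x _ => by simp⟩

theorem FibRat.add (hG : FibRat q δ w k G) (hH : FibRat q δ w k H) : FibRat q δ w k (fun x => G x + H x) := by
  obtain ⟨ι, hι, ξ, f, h1, h2⟩ := hG
  obtain ⟨ι', hι', ξ', f', h1', h2'⟩ := hH
  refine ⟨ι ⊕ ι', inferInstance, Sum.elim ξ ξ', fun i => match i with | .inl i => f i | .inr i => f' i,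
    fun i => ?_, fun x hx => ?_⟩
  · rcases i with i | i
    · exact h1 i
    · exact h1' i
  · show G x + H x = _
    rw [Fintype.sum_sum_type, h2 x hx, h2' x hx]
    rfl

theorem FibRat.sum {I : Type*} (T : Finset I) (F : I → X → ℤ) (h : ∀ i ∈ T, FibRat q δ w k (F i)) :
    FibRat q δ w k (fun x => ∑ i ∈ T, F i x) := by
  classical
  induction T using Finset.induction with
  | empty => exact fibRat_zero fun x _ => Finset.sum_empty
  | insert a T' ha ih =>
    refine ((h a (Finset.mem_insert_self a T')).add (ih fun i hi => h i (Finset.mem_insert_of_mem hi))).congr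
      fun x _ => ?_
    rw [Finset.sum_insert ha]

theorem FibRat.zsmul [IsLocallyNoetherian X] (hδ : Cyc.IsDimFun X δ) (h : FibRat q δ w k G) (m : ℤ) :
    FibRat q δ w k (fun x => m * G x) := by
  obtain ⟨ι, hι, ξ, f, h1, h2⟩ := h
  refine ⟨ι, hι, ξ, fun i => f i ^ m, fun i => ⟨(h1 i).1, zpow_ne_zero _ (h1 i).2.1, (h1 i).2.2⟩,
    fun x hx => ?_⟩
  show m * G x = _
  rw [h2 x hx, Finset.mul_sum]
  exact Finset.sum_congr rfl fun i _ => (Groth.L22.C1.divFun_zpow hδ (ξ i) (h1 i).2.1 x m).symm

/-- Transport along an immersion. -/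
theorem FibRat.push {W : Scheme.{u}} (j : W ⟶ X) [IsPreimmersion j] [IsLocallyNoetherian X]
    [IsLocallyNoetherian W] (hδ : Cyc.IsDimFun X δ) (hδW : Cyc.IsDimFun W fun z => δ (j z)) {F : W → ℤ}
    (h : FibRat (fun z => q (j z)) (fun z => δ (j z)) w k F) :
    ∃ D : X → ℤ, FibRat q δ w k D ∧ (∀ z, q (j z) = w → D (j z) = F z) ∧
      ∀ x, D x ≠ 0 → δ x = k ∧ ∃ z, q (j z) = w ∧ j z ⤳ x := by
  obtain ⟨ι, hι, ξ, f, h1, h2⟩ := h
  choose g hg using fun i => (Groth.L22.FibreDim.residueFieldMap_bijective j (ξ i)).2 (f i)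
  have hg0 : ∀ i, g i ≠ 0 := fun i h0 => (h1 i).2.1 (by rw [← hg i, h0]; exact map_zero _)
  refine ⟨fun x => ∑ i, Cyc.divFun δ (j (ξ i)) (g i) x,
    ⟨ι, hι, fun i => j (ξ i), g, fun i => ⟨(h1 i).1, hg0 i, (h1 i).2.2⟩, fun x _ => rfl⟩, fun z hz => ?_,
    fun x hx => ?_⟩
  swap
  · obtain ⟨i, -, hi⟩ := Finset.exists_ne_zero_of_sum_ne_zero hx
    obtain ⟨hsp, hd⟩ := Groth.L22.C1.divFun_ne_zero hi
    exact ⟨by have : δ (j (ξ i)) = k + 1 := (h1 i).1; omega, ξ i, (h1 i).2.2, hsp⟩
  rw [h2 z hz]
  refine Finset.sum_congr rfl fun i _ => ?_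
  rw [← hg i]
  exact (divFun_preimmersion j hδ hδW (ξ i) (g i) (hg0 i) z).symm

/-- The base projection of affine space. -/
abbrev affPr (A : CommRingCat.{u}) (j : ℕ) :
    Spec (CommRingCat.of (MvPolynomial (Fin j) A)) ⟶ Spec A :=
  Spec.map (CommRingCat.ofHom (MvPolynomial.C : A →+* MvPolynomial (Fin j) A))

theorem vanish_line (B : CommRingCat.{u}) [IsNoetherianRing B] {Z : Scheme.{u}} (p' : Spec B ⟶ Z)
    {δZ : Z → ℤ} {δB : Spec B → ℤ} {δT : Line B → ℤ} (hdT : Cyc.IsDimFun (Line B) δT)
    (hdB : Cyc.IsDimFun (Spec B) δB) (hδ : Cyc.DeltaCompat (linePr B) δT δB) {j : ℕ}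
    (htop : ∀ r, δB r ≤ δZ (p' r) + j)
    (ih : ∀ r, δB r < δZ (p' r) + j → FibRat p' δB (p' r) (δB r) (pt r)) :
    ∀ x : Line B, δT x < δZ (p' (linePr B x)) + (j + 1 : ℕ) →
      FibRat (fun y => p' (linePr B y)) δT (p' (linePr B x)) (δT x) (pt x) := by
  classical
  haveI : IsNoetherianRing (CommRingCat.of (Polynomial B)) := inferInstanceAs (IsNoetherianRing (Polynomial B))
  have hfg : ∀ t, Groth.L22.Cyc.FibGen (linePr B) t → δT t = δB (linePr B t) + ((1 : ℕ) : ℤ) := fun t ht => by
    rw [fibGen_eq B t ht, delta_lineGen hdT hδ, linePr_lineGen]; rfl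
  have hgen : ∀ r, δB r < δZ (p' r) + j →
      FibRat (fun y => p' (linePr B y)) δT (p' r) (δB r + 1) (pt (lineGen B r)) := by
    intro r hr
    obtain ⟨ι, hι, ζ, f, h1, h2⟩ := ih r hr
    refine ⟨ι, hι, fun i => lineGen B (ζ i),
      fun i => (linePr B).residueFieldMap (lineGen B (ζ i))
        (((Spec B).residueFieldCongr (linePr_lineGen B (ζ i)).symm).hom (f i)),
      fun i => ⟨?_, (map_ne_zero _).2 (Groth.L22.Cyc.residueFieldCongr_ne_zero _ (h1 i).2.1), ?_⟩, fun y hy => ?_⟩
    · rw [delta_lineGen hdT hδ, (h1 i).1]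
    · show p' (linePr B (lineGen B (ζ i))) = p' r
      rw [linePr_lineGen]; exact (h1 i).2.2
    · have hp : Cyc.pullFun (linePr B) δT δB ((1 : ℕ) : ℤ) (pt r) y = pt (lineGen B r) y := by
        rw [Groth.L22.Cyc.pullFun_eq' (linePr B) hfg]
        beta_reduce
        by_cases e : y = lineGen B r
        · subst e
          rw [linePr_lineGen, mult_lineGen, pt_self, pt_self]; rfl
        · rw [pt_ne e]
          by_cases e' : linePr B y = r
          · have hng : ¬ Groth.L22.Cyc.FibGen (linePr B) y := fun h => e (by rw [fibGen_eq B y h, e'])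
            show _ * ((Groth.L22.Cyc.mult (linePr B) y).toNat : ℤ) = 0
            rw [Groth.L22.Cyc.mult_eq_top hng]
            simp
          · show pt r (linePr B y) * _ = 0
            rw [pt_ne e', zero_mul]
      have hpl : Cyc.pullFun (linePr B) δT δB ((1 : ℕ) : ℤ) (pt r) y =
          ∑ i, Cyc.pullFun (linePr B) δT δB ((1 : ℕ) : ℤ) (Cyc.divFun δB (ζ i) (f i)) y := by
        rw [Groth.L22.Cyc.pullFun_eq' (linePr B) hfg]
        simp only [Groth.L22.Cyc.pullFun_eq' (linePr B) hfg]
        beta_reduce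
        rw [h2 _ hy, Finset.sum_mul]
      rw [← hp, hpl]
      refine Finset.sum_congr rfl fun i _ => ?_
      rw [Groth.L22.Cyc.pullFun_divFun (p := linePr B) hdB hdT hfg (ζ i) (f i) (h1 i).2.1 y,
        finsum_eq_single _ ⟨lineGen B (ζ i), fibGen_lineGen B _, linePr_lineGen B _⟩
          fun t ht => absurd (Subtype.ext ((fibGen_eq B t.1 t.2.1).trans (congrArg (lineGen B) t.2.2))) ht,
        mult_lineGen]
      simp
  intro x hx
  set r := linePr B x with hr
  by_cases hg : x = lineGen B r
  · have hd : δT x = δB r + 1 := (congrArg δT hg).trans (delta_lineGen hdT hδ r)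
    rw [hg, delta_lineGen hdT hδ]
    exact hgen r (by push_cast at hx; omega)
  · obtain ⟨f, hf, hf1, hfy⟩ := exists_fibre_fun hdT hdB hδ x hg
    have hdx : δT x = δB r := delta_of_ne_lineGen hdT hδ x hg
    let D := Cyc.divFun δT (lineGen B r) f
    have hfin : (Function.support D).Finite := by
      have := Groth.L22.Cyc.finite_support_divFun_inter_compact hdT (lineGen B r) f hf
        (isCompact_univ (X := Line B))
      rwa [Set.inter_univ] at this
    let T := (hfin.toFinset.erase x).filter fun y => p' (linePr B y) = p' r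
    have hT : ∀ y ∈ T, FibRat (fun y => p' (linePr B y)) δT (p' r) (δT x) (fun z => D y * pt y z) := by
      intro y hy
      obtain ⟨hy1, hy2⟩ := Finset.mem_filter.1 hy
      obtain ⟨hne, hsupp⟩ := Finset.mem_erase.1 hy1
      have hD : D y ≠ 0 := hfin.mem_toFinset.1 hsupp
      obtain ⟨hsp, hdy⟩ := Groth.L22.C1.divFun_ne_zero hD
      have hne' : linePr B y ≠ r := fun e => hne (hfy y hD e)
      have hsp' : r ⤳ linePr B y := by
        have := hsp.map (linePr B).continuous
        rwa [linePr_lineGen] at this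
      have hlt := (hdB r _ hsp' (Ne.symm hne')).1
      rw [delta_lineGen hdT hδ] at hdy
      have hyg : y = lineGen B (linePr B y) := by_contra fun h => by
        have := delta_of_ne_lineGen hdT hδ y h
        omega
      have hdy' : δT y = δB (linePr B y) + 1 := (congrArg δT hyg).trans (delta_lineGen hdT hδ _)
      have hbound := htop r
      have h3 := hgen (linePr B y) (by rw [hy2]; push_cast at hx; omega)
      rw [hy2, ← hyg, ← hdy', show δT y = δT x by omega] at h3
      exact h3.zsmul hdT (D y)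
    have hD1 := fibRat_divFun (q := fun y => p' (linePr B y)) (k := δT x) (δ := δT) (lineGen B r) f
      (by rw [delta_lineGen hdT hδ, hdx]) hf (w := p' r) (by show p' (linePr B (lineGen B r)) = p' r; rw [linePr_lineGen])
    refine (hD1.add ((FibRat.sum T _ hT).zsmul hdT (-1))).congr fun z hz => ?_
    show pt x z = D z + -1 * ∑ y ∈ T, D y * pt y z
    by_cases e : z = x
    · subst e
      rw [pt_self, Finset.sum_eq_zero fun y hy => by
        rw [pt_ne (Ne.symm (Finset.mem_erase.1 (Finset.mem_filter.1 hy).1).1), mul_zero], show D z = 1 from hf1]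
      simp
    · rw [pt_ne e]
      by_cases hD : D z = 0
      · rw [Finset.sum_eq_zero fun y hy => ?_, hD]
        · simp
        · by_cases ey : z = y
          · rw [← ey, hD, zero_mul]
          · rw [pt_ne ey, mul_zero]
      · rw [Finset.sum_eq_single z (fun y _ hy => by rw [pt_ne (Ne.symm hy), mul_zero])
          (fun h => absurd (Finset.mem_filter.2 ⟨Finset.mem_erase.2 ⟨e, hfin.mem_toFinset.2 hD⟩, hz⟩) h), pt_self]
        ring

/-- Points of affine space have at most the top dimension, and the lower ones are divisors on their fibres. -/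
theorem vanish (j : ℕ) : ∀ (A : CommRingCat.{u}) [IsNoetherianRing A] (δA : Spec A → ℤ)
    (δT : Spec (CommRingCat.of (MvPolynomial (Fin j) A)) → ℤ), Cyc.IsDimFun (Spec A) δA →
    Cyc.IsDimFun _ δT → Cyc.DeltaCompat (affPr A j) δT δA →
    ∀ x, δT x ≤ δA (affPr A j x) + j ∧
      (δT x < δA (affPr A j x) + j → FibRat (affPr A j) δT (affPr A j x) (δT x) (pt x)) := by
  induction j with
  | zero =>
    intro A _ δA δT _ _ hδ x
    obtain ⟨n, hn, hd⟩ := hδ x
    haveI : IsClosedImmersion (affPr A 0) := IsClosedImmersion.spec_of_surjective _ fun f =>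
      ⟨MvPolynomial.isEmptyRingEquiv A (Fin 0) f, (MvPolynomial.isEmptyRingEquiv A (Fin 0)).symm_apply_apply f⟩
    have h0 : n = 0 := by
      have : (n : Cardinal.{u}) = 0 := by
        rw [← show Groth.L22.Cyc.rtrdeg (affPr A 0) x = (n : Cardinal.{u}) from hn, rtrdeg_eq_zero]
      exact_mod_cast this
    rw [h0] at hd
    exact ⟨le_of_eq (by rw [hd]), fun h => by rw [hd] at h; exact absurd h (lt_irrefl _)⟩
  | succ j ih =>
    intro A _ δA δT hdA hdT hδ
    let B := CommRingCat.of (MvPolynomial (Fin j) A)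
    haveI : IsNoetherianRing B := inferInstanceAs (IsNoetherianRing (MvPolynomial (Fin j) A))
    haveI : IsNoetherianRing (CommRingCat.of (MvPolynomial (Fin (j + 1)) A)) :=
      inferInstanceAs (IsNoetherianRing (MvPolynomial (Fin (j + 1)) A))
    haveI : IsNoetherianRing (CommRingCat.of (Polynomial B)) := inferInstanceAs (IsNoetherianRing (Polynomial B))
    let φ := MvPolynomial.finSuccEquiv A j
    let e : Line B ⟶ Spec (CommRingCat.of (MvPolynomial (Fin (j + 1)) A)) :=
      Spec.map (φ.toRingEquiv.toCommRingCatIso).hom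
    haveI : IsIso e := inferInstance
    have he : e ≫ affPr A (j + 1) = linePr B ≫ affPr A j := by
      rw [← Spec.map_comp, ← Spec.map_comp]
      congr 1
      refine CommRingCat.hom_ext (RingHom.ext fun a => ?_)
      show φ (MvPolynomial.C a) = Polynomial.C (MvPolynomial.C a)
      exact φ.commutes a
    let δL : Line B → ℤ := fun y => δT (e y)
    have hdL : Cyc.IsDimFun (Line B) δL := isDimFun_openImmersion e hdT
    have hδL : Cyc.DeltaCompat (linePr B ≫ affPr A j) δL δA := he ▸ deltaCompat_comp e (affPr A (j + 1)) hδ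
    let ev : Polynomial B →+* B := Polynomial.evalRingHom 0
    let s : Spec B ⟶ Line B := Spec.map (CommRingCat.ofHom ev)
    have hs : s ≫ linePr B = 𝟙 _ := by
      rw [← Spec.map_comp, show CommRingCat.ofHom (Polynomial.C : B →+* Polynomial B) ≫ CommRingCat.ofHom ev = 𝟙 B from
        CommRingCat.hom_ext (RingHom.ext fun a => Polynomial.eval_C), Spec.map_id]
    haveI : IsClosedImmersion s := IsClosedImmersion.spec_of_surjective _
      fun a => ⟨Polynomial.C a, Polynomial.eval_C⟩
    let δB : Spec B → ℤ := fun r => δL (s r)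
    have hdB : Cyc.IsDimFun (Spec B) δB := Groth.L22.Cyc.isDimFun_closedImmersion s hdL
    have hδB : Cyc.DeltaCompat (affPr A j) δB δA := by
      have h := deltaCompat_comp s _ hδL
      rwa [← Category.assoc, hs, Category.id_comp] at h
    have hδ1 := deltaCompat_cancel (linePr B) (affPr A j) hδL hδB
    have ihB := ih A δA δB hdA hdB hδB
    intro x
    obtain ⟨y, rfl⟩ : ∃ y, e y = x := ⟨inv e x, by rw [← Scheme.Hom.comp_apply, IsIso.inv_hom_id]; rfl⟩
    have hxy : affPr A (j + 1) (e y) = affPr A j (linePr B y) := by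
      rw [← Scheme.Hom.comp_apply, he]; rfl
    refine ⟨?_, fun hlt => ?_⟩
    · have hb := (ihB (linePr B y)).1
      rw [hxy]
      show δL y ≤ _
      by_cases hg : y = lineGen B (linePr B y)
      · have := (congrArg δL hg).trans (delta_lineGen hdL hδ1 (linePr B y))
        push_cast
        omega
      · have := delta_of_ne_lineGen hdL hδ1 y hg
        push_cast
        omega
    · have h := vanish_line B (affPr A j) hdL hdB hδ1 (δZ := δA) (j := j) (fun r => (ihB r).1)
        (fun r => (ihB r).2) y (by rw [← hxy]; exact hlt)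
      rw [← hxy] at h
      have hfun : (fun z => affPr A j (linePr B z)) = fun z => affPr A (j + 1) (e z) := funext fun z => by
        rw [← Scheme.Hom.comp_apply e, he]; rfl
      rw [hfun] at h
      obtain ⟨D, hD, hval, -⟩ := h.push e hdT hdL
      refine hD.congr fun z hz => ?_
      obtain ⟨z', rfl⟩ : ∃ z', e z' = z := ⟨inv e z, by rw [← Scheme.Hom.comp_apply, IsIso.inv_hom_id]; rfl⟩
      rw [hval z' hz]
      by_cases ez : z' = y
      · subst ez; rw [pt_self, pt_self]
      · rw [pt_ne ez, pt_ne fun h' => ez (e.isOpenEmbedding.injective h')]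

end Groth.L22.Bundle
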