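import Groth.Agent.L16.QAffFactor.Basic
import Groth.Prelude.Def_RelSpec
import Mathlib.AlgebraicGeometry.Pullbacks

/-!
Cartesian squares of relative spectra from cocartesian squares of algebras over an affine cover.
-/

set_option autoImplicit false
set_option linter.style.haveILetI false
set_option backward.isDefEq.respectTransparency.types false
set_option backward.isDefEq.respectTransparency false

universe u

open CategoryTheory CategoryTheory.Limits AlgebraicGeometry TopologicalSpace Opposite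

noncomputable section

namespace Groth.L22.Bundle

variable {X : Scheme.{u}} {A B C D : RelSpec.QCAlg X}

theorem isPullback_chart (φ : A ⟶ B) {U : X.Opens} (hU : IsAffineOpen U) :
    IsPullback (Spec.map (φ.hom.app (op U))) (B.ι U hU) (A.ι U hU) (RelSpec.QCAlg.specMap φ) :=
  IsOpenImmersion.isPullback _ _ _ _ (RelSpec.QCAlg.ι_specMap U hU φ) (by
    rw [← RelSpec.QCAlg.π_preimage, ← RelSpec.QCAlg.π_preimage, ← Scheme.Hom.comp_preimage,
      RelSpec.QCAlg.specMap_π])

/-- A square of algebras cocartesian over an affine cover gives a cartesian square of spectra. -/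
theorem isPullback_specMap (ψ : A ⟶ B) (ε : A ⟶ C) (θ : B ⟶ D) (τ : C ⟶ D) {ι : Type u} (U : ι → X.Opens)
    (hU : ∀ i, IsAffineOpen (U i)) (hcov : ∀ x : X, ∃ i, x ∈ U i)
    (hpo : ∀ i, IsPushout (ψ.hom.app (op (U i))) (ε.hom.app (op (U i))) (θ.hom.app (op (U i))) (τ.hom.app (op (U i)))) :
    IsPullback (RelSpec.QCAlg.specMap θ) (RelSpec.QCAlg.specMap τ) (RelSpec.QCAlg.specMap ψ)
      (RelSpec.QCAlg.specMap ε) := by
  let 𝒰 : B.spec.OpenCover :=
    { I₀ := ι, X := fun i => Spec (B.presheaf.obj (op (U i))), f := fun i => B.ι (U i) (hU i)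
      mem₀ := by
        rw [Scheme.presieve₀_mem_precoverage_iff]
        refine ⟨fun z => ?_, fun y => inferInstance⟩
        obtain ⟨i, hi⟩ := hcov (B.π z)
        exact ⟨i, show z ∈ (B.ι (U i) (hU i)).opensRange from (B.π_preimage (U i) (hU i)) ▸ hi⟩ }
  refine Scheme.isPullback_of_openCover _ _ _ _ 𝒰 fun i => ?_
  show IsPullback (pullback.snd (RelSpec.QCAlg.specMap θ) (B.ι (U i) (hU i)))
    (pullback.fst (RelSpec.QCAlg.specMap θ) (B.ι (U i) (hU i)) ≫ RelSpec.QCAlg.specMap τ)
    (B.ι (U i) (hU i) ≫ RelSpec.QCAlg.specMap ψ) (RelSpec.QCAlg.specMap ε)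
  have h3 := (isPullback_SpecMap_of_isPushout _ _ _ _ (hpo i)).paste_vert (isPullback_chart ε (hU i))
  rw [← RelSpec.QCAlg.ι_specMap (U i) (hU i) τ, ← RelSpec.QCAlg.ι_specMap (U i) (hU i) ψ] at h3
  refine h3.of_iso ((isPullback_chart θ (hU i)).flip.isoPullback) (Iso.refl _) (Iso.refl _) (Iso.refl _) ?_ ?_ ?_ ?_
  · simp
  · simp
  · simp
  · simp

/-- An affine morphism is the relative spectrum of its direct image. -/
theorem isIso_toHull {Y : Scheme.{u}} (f : Y ⟶ X) [IsAffineHom f] : IsIso (Groth.L16.QAffFactor.toHull f) := by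
  let D := RelSpec.QCAlg.directImage f
  let 𝒰 : D.spec.OpenCover :=
    { I₀ := X.affineOpens, X := fun U => Spec (D.presheaf.obj (op U.1)), f := fun U => D.ι U.1 U.2
      mem₀ := by
        rw [Scheme.presieve₀_mem_precoverage_iff]
        refine ⟨fun z => ?_, fun y => inferInstance⟩
        obtain ⟨U, hU, hzU, -⟩ := exists_isAffineOpen_mem_and_subset (x := D.π z) (U := ⊤) trivial
        exact ⟨⟨U, hU⟩, show z ∈ (D.ι U hU).opensRange from (D.π_preimage U hU) ▸ hzU⟩ }
  refine IsZariskiLocalAtTarget.of_openCover (P := MorphismProperty.isomorphisms Scheme) 𝒰 fun U => ?_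
  haveI : IsAffine ((f ⁻¹ᵁ U.1 : Y.Opens) : Scheme.{u}) := U.2.preimage f
  haveI : IsIso (f ⁻¹ᵁ U.1).toSpecΓ := by rw [Scheme.Opens.toSpecΓ]; infer_instance
  have hpb : IsPullback (f ⁻¹ᵁ U.1).toSpecΓ (f ⁻¹ᵁ U.1).ι (D.ι U.1 U.2) (Groth.L16.QAffFactor.toHull f) :=
    IsOpenImmersion.isPullback _ _ _ _ (Groth.L16.QAffFactor.ι_toHull f U).symm.symm (by
      rw [Scheme.Opens.opensRange_ι, ← D.π_preimage U.1 U.2, ← Scheme.Hom.comp_preimage,
        Groth.L16.QAffFactor.toHull_π])
  refine (MorphismProperty.arrow_mk_iso_iff (MorphismProperty.isomorphisms Scheme) ?_).mp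
    (show MorphismProperty.isomorphisms Scheme (f ⁻¹ᵁ U.1).toSpecΓ from inferInstanceAs (IsIso _))
  exact Arrow.isoMk hpb.flip.isoPullback (Iso.refl _) (by exact hpb.flip.isoPullback_hom_snd.trans (Category.comp_id _).symm)

/-- The spectrum of the structure sheaf is the base. -/
theorem isIso_unit_π (X : Scheme.{u}) : IsIso (RelSpec.QCAlg.unit X).π := by
  let C := RelSpec.QCAlg.unit X
  let 𝒰 : X.OpenCover :=
    { I₀ := X.affineOpens, X := fun U => Spec Γ(X, U.1), f := fun U => U.2.fromSpec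
      mem₀ := by
        rw [Scheme.presieve₀_mem_precoverage_iff]
        refine ⟨fun z => ?_, fun y => inferInstance⟩
        obtain ⟨U, hU, hzU, -⟩ := exists_isAffineOpen_mem_and_subset (x := z) (U := ⊤) trivial
        exact ⟨⟨U, hU⟩, show z ∈ hU.fromSpec.opensRange from hU.opensRange_fromSpec.symm ▸ hzU⟩ }
  refine IsZariskiLocalAtTarget.of_openCover (P := MorphismProperty.isomorphisms Scheme) 𝒰 fun U => ?_
  have hpb : IsPullback (Spec.map (C.str.app (op U.1))) (C.ι U.1 U.2) U.2.fromSpec C.π :=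
    IsOpenImmersion.isPullback _ _ _ _ (C.ι_π U.1 U.2) (by
      rw [U.2.opensRange_fromSpec, RelSpec.QCAlg.π_preimage])
  haveI : IsIso (Spec.map (C.str.app (op U.1))) := by
    haveI : IsIso (C.str.app (op U.1)) := inferInstanceAs (IsIso (𝟙 _))
    infer_instance
  refine (MorphismProperty.arrow_mk_iso_iff (MorphismProperty.isomorphisms Scheme) ?_).mp
    (show MorphismProperty.isomorphisms Scheme (Spec.map (C.str.app (op U.1))) from inferInstanceAs (IsIso _))
  exact Arrow.isoMk hpb.flip.isoPullback (Iso.refl _) (by exact hpb.flip.isoPullback_hom_snd.trans (Category.comp_id _).symm)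

end Groth.L22.Bundle
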