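import Groth.Agent.L22.Bundle.Sub
import Groth.Agent.L22.Bundle.SpecPush
import Groth.Agent.L18.SymGraded
import Groth.Agent.L12.FinCov.Basis
import Mathlib.Algebra.Category.Ring.Constructions

/-!
The complement of the sub-bundle `P(F) ⊆ P(E)` of an extension by `O` is the affine bundle of the
splittings, as a scheme over the base.
-/

set_option autoImplicit false
set_option linter.style.haveILetI false
set_option backward.isDefEq.respectTransparency.types false
set_option backward.isDefEq.respectTransparency false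

universe u

open CategoryTheory CategoryTheory.Limits AlgebraicGeometry TopologicalSpace Opposite
open Groth.L18.Frame (rs ro rs_rs ro_ro rs_smul rs_self ro_self IsFrame pull pull_rs pull_smul)
open Groth.L19.ProjBdl (IsBasisOn lc one1 isFrame_one1 Acrd ratio)

noncomputable section

namespace Groth.L22.Bundle

variable {X P Q : Scheme.{u}} {E F : X.Modules} {p : P ⟶ X} {p' : Q ⟶ X} {O1 : P.Modules} {O1' : Q.Modules}
  {q : (Scheme.Modules.pullback p).obj E ⟶ O1} {q' : (Scheme.Modules.pullback p').obj F ⟶ O1'}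
  (hP : KRR.IsProjBundle p E O1 q) (hQ : KRR.IsProjBundle p' F O1' q')
  (a : Coh.structureModule X ⟶ E) (b : E ⟶ F) (hab : a ≫ b = 0) (hex : (ShortComplex.mk a b hab).ShortExact)
  [IsClosedImmersion (subMap hP hQ a b hab hex)]
  (U : P.Opens) (hU : ∀ z, z ∈ U ↔ z ∉ Set.range (subMap hP hQ a b hab hex))

theorem sec_zero {V : X.Opens} {n : ℕ} (β : Fin (n + 1) → Γ(E, V))
    (h0 : β 0 = rs E le_top (a.app ⊤ (one1 X ⊤))) :
    Groth.L19.ProjBdl.sec p q β 0 = rs O1 le_top (secA p q a) := by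
  rw [Groth.L19.ProjBdl.sec, h0, ← pull_rs, Groth.L19.ProjBdl.app_rs]
  rfl

include hU in
theorem locus_zero {V : X.Opens} {n : ℕ} {β : Fin (n + 1) → Γ(E, V)} (hβ : IsBasisOn E V β)
    (h0 : β 0 = rs E le_top (a.app ⊤ (one1 X ⊤))) :
    Groth.L19.ProjBdl.locus p q β 0 = U ⊓ p ⁻¹ᵁ V := by
  haveI := hP.epi
  have hL := isInvertible_of_one hP.invertible
  have hD := isZeroSchemeOf_subMap hP hQ a b hab hex
  have hgerm : ∀ {z : P} {W : P.Opens} (hz : z ∈ W) (hW : W ≤ p ⁻¹ᵁ V),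
      O1.presheaf.germ W z hz (rs O1 hW (Groth.L19.ProjBdl.sec p q β 0)) = O1.presheaf.germ ⊤ z trivial (secA p q a) := by
    intro z W hz hW
    rw [sec_zero a β h0, rs_rs]
    exact TopCat.Presheaf.germ_res_apply O1.presheaf (homOfLE le_top) z hz _
  refine le_antisymm ?_ ?_
  · intro z hz
    refine ⟨(hU z).2 fun hr => ?_, Groth.L19.ProjBdl.locus_le p q β 0 hz⟩
    have h1 := Groth.L22.C1.mk_gen_ne_zero hL
      (Groth.L22.C1.isGen_germ (Groth.L19.ProjBdl.isFrame_locus p q β 0) hz)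
    rw [hgerm hz] at h1
    exact h1 (hD.1.le hr)
  · intro z hz
    obtain ⟨hzU, hzV⟩ : z ∈ U ∧ z ∈ p ⁻¹ᵁ V := hz
    obtain ⟨l, hl⟩ := Groth.L19.ProjBdl.exists_mem_locus p q β hP.invertible hβ hzV
    set W := Groth.L19.ProjBdl.locus p q β l
    have hW := Groth.L19.ProjBdl.locus_le p q β l
    have he := Groth.L19.ProjBdl.isFrame_locus p q β l
    have hne : Groth.L22.C1.mk O1 (O1.presheaf.germ ⊤ z trivial (secA p q a)) ≠ 0 := fun h => (hU z).1 hzU (hD.1.ge h)
    rw [← hgerm hl hW, ← Groth.L19.ProjBdl.crd_smul p q β l 0, Groth.L20.ModStalk.germ_smul, Ne,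
      Groth.L22.C1.mk_smul_eq_zero_iff hL (Groth.L22.C1.isGen_germ he hl)] at hne
    have hu : IsUnit (P.presheaf.germ W z hl (Groth.L19.ProjBdl.crd p q β l 0)) := by
      by_contra h
      exact hne ((IsLocalRing.residue_eq_zero_iff _).2 h)
    have hxb : z ∈ P.basicOpen (Groth.L19.ProjBdl.crd p q β l 0) := (P.mem_basicOpen _ z hl).mpr hu
    have hbW := P.basicOpen_le (Groth.L19.ProjBdl.crd p q β l 0)
    refine Groth.L19.ProjBdl.le_locus p q β (hbW.trans hW) ?_ hxb
    have : IsFrame O1 _ (ro hbW (Groth.L19.ProjBdl.crd p q β l 0) • rs O1 hbW (rs O1 hW (Groth.L19.ProjBdl.sec p q β l))) :=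
      (he.mono hbW).smul_unit (RingedSpace.isUnit_res_basicOpen P.toRingedSpace (Groth.L19.ProjBdl.crd p q β l 0))
    rwa [← rs_smul, Groth.L19.ProjBdl.crd_smul, rs_rs] at this

include hU hex in
theorem isFrame_secA (hF : FlatMod.IsFinLocFree F) : IsFrame O1 U (rs O1 le_top (secA p q a)) := by
  choose V n β hV hxV hβ h0 using fun x : X => exists_basis_cons a b hab hex hF x
  refine IsFrame.of_cover (ι := X) (fun x => Groth.L19.ProjBdl.locus p q (β x) 0)
    (fun x => (locus_zero hP hQ a b hab hex U hU (hβ x) (h0 x)).le.trans inf_le_left)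
    (fun z hz => Opens.mem_iSup.2 ⟨p z, (locus_zero hP hQ a b hab hex U hU (hβ (p z)) (h0 (p z))).ge ⟨hz, hxV (p z)⟩⟩)
    fun x => ?_
  have := Groth.L19.ProjBdl.isFrame_locus p q (β x) 0
  rw [sec_zero a (β x) (h0 x), rs_rs] at this
  rwa [rs_rs]

/-- The image in `P` of the preimage in `U` of an open of the base. -/
abbrev imgU (p : P ⟶ X) (W : X.Opens) : P.Opens := U.ι ''ᵁ ((U.ι ≫ p) ⁻¹ᵁ W)

theorem imgU_le (W : X.Opens) : imgU U p W ≤ p ⁻¹ᵁ W := U.ι.image_preimage_le (p ⁻¹ᵁ W)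

theorem imgU_le' (W : X.Opens) : imgU U p W ≤ U :=
  (Scheme.Hom.image_le_opensRange _ _).trans U.opensRange_ι.le

theorem imgU_eq (W : X.Opens) : imgU U p W = U ⊓ p ⁻¹ᵁ W := by
  rw [show imgU U p W = U.ι ''ᵁ (U.ι ⁻¹ᵁ (p ⁻¹ᵁ W)) from rfl, Scheme.Hom.image_preimage_eq_opensRange_inf,
    Scheme.Opens.opensRange_ι]

theorem app_comp_ι (W : X.Opens) (r : Γ(X, W)) :
    (show Γ(P, imgU U p W) from (U.ι ≫ p).app W r) = ro (imgU_le U W) (p.app W r) := by
  show U.ι.app (p ⁻¹ᵁ W) (p.app W r) = _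
  rw [U.ι_app]
  rfl

variable (hfr : IsFrame O1 U (rs O1 le_top (secA p q a)))

variable (p q) in
/-- The coefficient of a section of `E` relative to the section of the sub-line. -/
def co (hfr : IsFrame O1 U (rs O1 le_top (secA p q a))) (W : X.Opens) (e : Γ(E, W)) : Γ(P, imgU U p W) :=
  ((hfr.mono (imgU_le' U W)).exists_coeff le_rfl
    (rs O1 (imgU_le U W) (q.app (p ⁻¹ᵁ W) (pull p E W e)))).choose

theorem co_spec (W : X.Opens) (e : Γ(E, W)) :
    co p q a U hfr W e • rs O1 le_top (secA p q a) = rs O1 (imgU_le U W) (q.app (p ⁻¹ᵁ W) (pull p E W e)) := by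
  have h := ((hfr.mono (imgU_le' U W)).exists_coeff le_rfl
    (rs O1 (imgU_le U W) (q.app (p ⁻¹ᵁ W) (pull p E W e)))).choose_spec
  refine Eq.trans (congrArg (co p q a U hfr W e • ·) ?_) h
  rw [rs_self, rs_rs]

include hfr in
theorem co_uniq {W : X.Opens} {e : Γ(E, W)} {c : Γ(P, imgU U p W)}
    (h : c • rs O1 le_top (secA p q a) = rs O1 (imgU_le U W) (q.app (p ⁻¹ᵁ W) (pull p E W e))) :
    co p q a U hfr W e = c := by
  refine hfr.inj (imgU_le' U W) ?_
  rw [rs_rs]
  exact (co_spec a U hfr W e).trans h.symm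

theorem co_add (W : X.Opens) (e e' : Γ(E, W)) :
    co p q a U hfr W (e + e') = co p q a U hfr W e + co p q a U hfr W e' := by
  refine co_uniq a U hfr ?_
  rw [add_smul, co_spec, co_spec, show pull p E W (e + e') = pull p E W e + pull p E W e' from map_add _ _ _,
    map_add]
  exact (map_add _ _ _).symm

theorem co_smul (W : X.Opens) (r : Γ(X, W)) (e : Γ(E, W)) :
    co p q a U hfr W (r • e) = ro (imgU_le U W) (p.app W r) * co p q a U hfr W e := by
  refine co_uniq a U hfr ?_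
  rw [mul_smul, co_spec, pull_smul, Scheme.Modules.Hom.app_smul, rs_smul]

theorem co_rs {W W' : X.Opens} (h : W' ≤ W) (e : Γ(E, W)) :
    co p q a U hfr W' (rs E h e) =
      ro (U.ι.image_mono ((U.ι ≫ p).preimage_mono h)) (co p q a U hfr W e) := by
  refine co_uniq a U hfr ?_
  have := congrArg (rs O1 (U.ι.image_mono ((U.ι ≫ p).preimage_mono h))) (co_spec a U hfr W e)
  rw [rs_smul, rs_rs, rs_rs] at this
  rw [this, ← pull_rs, Groth.L19.ProjBdl.app_rs, rs_rs]

theorem co_sum (W : X.Opens) {ι : Type*} (T : Finset ι) (e : ι → Γ(E, W)) :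
    co p q a U hfr W (∑ i ∈ T, e i) = ∑ i ∈ T, co p q a U hfr W (e i) :=
  map_sum (AddMonoidHom.mk' (co p q a U hfr W) (co_add a U hfr W)) e T

theorem co_secA : co p q a U hfr ⊤ (a.app ⊤ (one1 X ⊤)) = 1 := by
  refine co_uniq a U hfr ?_
  rw [one_smul]
  rfl

/-- The value of a trivialisation of the structure sheaf at the unit. -/
def cU (u : Coh.structureModule X ⟶ (RelSpec.QCAlg.unit X).toModule) (W : X.Opens) : Γ(X, W) :=
  u.app W (one1 X W)

theorem cU_rs (u : Coh.structureModule X ⟶ (RelSpec.QCAlg.unit X).toModule) {W W' : X.Opens} (h : W' ≤ W) :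
    cU u W' = ro h (cU u W) := by
  show u.app W' (one1 X W') = _
  rw [← Groth.L19.ProjBdl.rs_one1 h, Groth.L19.ProjBdl.app_rs]
  rfl

theorem isUnit_cU (u : Coh.structureModule X ⟶ (RelSpec.QCAlg.unit X).toModule) [IsIso u] (W : X.Opens) :
    IsUnit (cU u W) := by
  let v : Γ(X, W) := (inv u).app W (show Γ((RelSpec.QCAlg.unit X).toModule, W) from (1 : Γ(X, W)))
  refine IsUnit.of_mul_eq_one_right v ?_
  have h1 : u.app W (v • one1 X W) = (1 : Γ(X, W)) := by
    rw [Groth.L19.ProjBdl.smul_one1]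
    exact congrArg (fun φ : (RelSpec.QCAlg.unit X).toModule ⟶ (RelSpec.QCAlg.unit X).toModule =>
      φ.app W (show Γ((RelSpec.QCAlg.unit X).toModule, W) from (1 : Γ(X, W)))) (IsIso.inv_hom_id u)
  rw [Scheme.Modules.Hom.app_smul, Groth.L18.SymSheaf.smul_toModule] at h1
  exact h1

variable [IsAffineHom (U.ι ≫ p)]

variable (p q) in
/-- The tautological map of the complement. -/
def taut (hfr : IsFrame O1 U (rs O1 le_top (secA p q a)))
    (u : Coh.structureModule X ⟶ (RelSpec.QCAlg.unit X).toModule) :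
    E ⟶ (RelSpec.QCAlg.directImage (U.ι ≫ p)).toModule :=
  Groth.L12.FinCov.mkHom (M := E) (N := (RelSpec.QCAlg.directImage (U.ι ≫ p)).toModule)
    (fun W e => (show Γ(P, imgU U p W) from ro (imgU_le U W) (p.app W (cU u W)) * co p q a U hfr W e))
    (fun W e e' => by
      show ro (imgU_le U W) (p.app W (cU u W)) * co p q a U hfr W (e + e') = _
      rw [co_add, mul_add]
      try rfl)
    (fun W r e => by
      show ro (imgU_le U W) (p.app W (cU u W)) * co p q a U hfr W (r • e) = _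
      show ro (imgU_le U W) (p.app W (cU u W)) * co p q a U hfr W (r • e) =
        (show Γ(P, imgU U p W) from (U.ι ≫ p).app W r) * (ro (imgU_le U W) (p.app W (cU u W)) * co p q a U hfr W e)
      rw [co_smul, mul_left_comm]
      exact congrArg (· * _) (app_comp_ι (p := p) U W r).symm)
    (fun W W' h e => by
      show ro (imgU_le U W') (p.app W' (cU u W')) * co p q a U hfr W' (rs E h e) =
        ro (U.ι.image_mono ((U.ι ≫ p).preimage_mono h)) (ro (imgU_le U W) (p.app W (cU u W)) * co p q a U hfr W e)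
      rw [co_rs, cU_rs u h]
      refine Eq.trans (congrArg (· * _) ?_) (map_mul (P.presheaf.map _).hom _ _).symm
      show (X.presheaf.map _ ≫ p.app W' ≫ P.presheaf.map _) (cU u W) = _
      rw [Scheme.Hom.naturality_assoc, ← Functor.map_comp]
      show _ = (p.app W ≫ P.presheaf.map _ ≫ P.presheaf.map _) (cU u W)
      rw [← Functor.map_comp]
      rfl)

omit [IsAffineHom (U.ι ≫ p)] in
include hU hex hP in
theorem isAffineHom_compl (hF : FlatMod.IsFinLocFree F) : IsAffineHom (U.ι ≫ p) := by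
  refine isAffineHom_of_forall_exists_isAffineOpen _ fun x => ?_
  obtain ⟨V, n, β, hV, hxV, hβ, h0⟩ := exists_basis_cons a b hab hex hF x
  refine ⟨V, hxV, hV, ?_⟩
  rw [← U.ι.isAffineOpen_iff_of_isOpenImmersion, show U.ι ''ᵁ ((U.ι ≫ p) ⁻¹ᵁ V) = Groth.L19.ProjBdl.locus p q β 0
    from (imgU_eq U V).trans (locus_zero hP hQ a b hab hex U hU hβ h0).symm]
  exact Groth.L19.ProjBdl.isAffineOpen_locus hP hβ hV 0

omit [IsAffineHom (U.ι ≫ p)] in
include hU hex in
theorem exists_chart_equiv {V : X.Opens} {n : ℕ} {β : Fin (n + 1) → Γ(E, V)} (hV : IsAffineOpen V)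
    (hβ : IsBasisOn E V β) (h0 : β 0 = rs E le_top (a.app ⊤ (one1 X ⊤))) :
    ∃ κ : Acrd V (0 : Fin (n + 1)) ≃+* Γ(P, imgU U p V),
      (∀ r, κ (MvPolynomial.C r) = ro (imgU_le U V) (p.app V r)) ∧
      ∀ i, κ (ratio V 0 i) = co p q a U hfr V (β i) := by
  have e : imgU U p V = Groth.L19.ProjBdl.locus p q β 0 :=
    (imgU_eq U V).trans (locus_zero hP hQ a b hab hex U hU hβ h0).symm
  obtain ⟨c⟩ := nonempty_cData hP hβ hV 0
  have hW : ∀ W : P.Opens, W = Groth.L19.ProjBdl.locus p q β 0 → ∀ hle : W ≤ p ⁻¹ᵁ V,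
      ∃ κ : Acrd V (0 : Fin (n + 1)) ≃+* Γ(P, W), (∀ r, κ (MvPolynomial.C r) = ro hle (p.app V r)) ∧
        ∀ i, κ (ratio V 0 i) • rs O1 le_top (secA p q a) = rs O1 hle (Groth.L19.ProjBdl.sec p q β i) := by
    rintro W rfl hle
    refine ⟨c.θ, fun r => c.θ_C r, fun i => ?_⟩
    rw [c.θ_ratio, ← Groth.L19.ProjBdl.crd_smul p q β 0 i, sec_zero a β h0, rs_rs]
  obtain ⟨κ, h1, h2⟩ := hW _ e (imgU_le U V)
  exact ⟨κ, h1, fun i => (co_uniq a U hfr (h2 i)).symm⟩

variable {AE : RelSpec.QCAlg X} {jE : E ⟶ AE.toModule} (hAE : RelSpec.IsSymAlg E AE jE) [Coh.IsQCoh E]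
  {A1 : RelSpec.QCAlg X} {j1 : Coh.structureModule X ⟶ A1.toModule} (ψ : A1 ⟶ AE)
  (hψ : j1 ≫ RelSpec.QCAlg.Hom.toModuleMap ψ = a ≫ jE)
  (u : Coh.structureModule X ⟶ (RelSpec.QCAlg.unit X).toModule) [IsIso u] (ε : A1 ⟶ RelSpec.QCAlg.unit X)
  (hε : j1 ≫ RelSpec.QCAlg.Hom.toModuleMap ε = u)

/-- The structure map of a direct image algebra, as a map of algebras. -/
def fromUnit {Y : Scheme.{u}} (f : Y ⟶ X) [QuasiCompact f] [QuasiSeparated f] :
    RelSpec.QCAlg.unit X ⟶ RelSpec.QCAlg.directImage f :=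
  ⟨f.c, Category.id_comp _⟩

include hU hex hAE hψ hε in
theorem isPushout_compl (θ : AE ⟶ RelSpec.QCAlg.directImage (U.ι ≫ p))
    (hθ : jE ≫ RelSpec.QCAlg.Hom.toModuleMap θ = taut p q a U hfr u)
    (hw : ψ ≫ θ = ε ≫ fromUnit (U.ι ≫ p)) {V : X.Opens} {n : ℕ} {β : Fin (n + 1) → Γ(E, V)}
    (hV : IsAffineOpen V) (hβ : IsBasisOn E V β) (h0 : β 0 = rs E le_top (a.app ⊤ (one1 X ⊤))) :
    IsPushout (ψ.hom.app (op V)) (ε.hom.app (op V)) (θ.hom.app (op V)) ((fromUnit (U.ι ≫ p)).hom.app (op V)) := by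
  obtain ⟨ΦE, hE0, hE1, -⟩ := Groth.L18.SymSheaf.exists_equiv hAE
  obtain ⟨κ, hκC, hκr⟩ := exists_chart_equiv hP hQ a b hab hex U hU hfr hV hβ h0
  let D := RelSpec.QCAlg.directImage (U.ι ≫ p)
  obtain ⟨κ', hκ'⟩ : ∃ κ' : Acrd V (0 : Fin (n + 1)) ≃+* D.presheaf.obj (op V),
      ∀ x, κ' x = (show D.presheaf.obj (op V) from κ x) := ⟨κ, fun _ => rfl⟩
  have τC : ∀ r : Γ(X, V), ((fromUnit (U.ι ≫ p)).hom.app (op V)).hom r = κ' (MvPolynomial.C r) := fun r => by
    rw [hκ', hκC]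
    exact app_comp_ι (p := p) U V r
  have θstr : ∀ r : Γ(X, V), (θ.hom.app (op V)).hom ((AE.str.app (op V)).hom r) = κ' (MvPolynomial.C r) := fun r =>
    (ConcreteCategory.congr_hom (NatTrans.congr_app θ.comm (op V)) r).trans (τC r)
  have θj : ∀ e : Γ(E, V), (θ.hom.app (op V)).hom (jE.app V e) =
      (show D.presheaf.obj (op V) from (ro (imgU_le U V) (p.app V (cU u V)) * co p q a U hfr V e : Γ(P, imgU U p V))) :=
    fun e => congrArg (fun g : E ⟶ D.toModule => g.app V e) hθ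
  have key : ∀ (T : CommRingCat.{u}) (α : AE.presheaf.obj (op V) →+* T) (βm : Γ(X, V) →+* T),
      α.comp (ψ.hom.app (op V)).hom = βm.comp (ε.hom.app (op V)).hom →
      ∃ γ : D.presheaf.obj (op V) →+* T,
        γ.comp (θ.hom.app (op V)).hom = α ∧ γ.comp ((fromUnit (U.ι ≫ p)).hom.app (op V)).hom = βm := by
    intro T α βm hαβ
    obtain ⟨cinv, hcinv⟩ := (isUnit_cU u V).exists_right_inv
    let g : {i : Fin (n + 1) // i ≠ 0} → T := fun i => βm cinv * α (jE.app V (β i.1))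
    let γ0 : D.presheaf.obj (op V) →+* T := (MvPolynomial.eval₂Hom βm g).comp κ'.symm.toRingHom
    have hστ : ∀ r, γ0 (κ' (MvPolynomial.C r)) = βm r := fun r => by
      show MvPolynomial.eval₂Hom βm g (κ'.symm (κ' _)) = _
      rw [RingEquiv.symm_apply_apply, MvPolynomial.eval₂Hom_C]
    have hαstr : ∀ r, α ((AE.str.app (op V)).hom r) = βm r := fun r => by
      have h := RingHom.congr_fun hαβ ((A1.str.app (op V)).hom r)
      simp only [RingHom.comp_apply] at h
      have e1 : (ψ.hom.app (op V)).hom ((A1.str.app (op V)).hom r) = (AE.str.app (op V)).hom r :=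
        ConcreteCategory.congr_hom (NatTrans.congr_app ψ.comm (op V)) r
      exact ((congrArg α e1).symm.trans h).trans
        (congrArg βm (ConcreteCategory.congr_hom (NatTrans.congr_app ε.comm (op V)) r))
    have hrat : ∀ i, βm (cU u V) * MvPolynomial.eval₂Hom βm g (ratio V 0 i) = α (jE.app V (β i)) := fun i => by
      by_cases hi : i = 0
      · rw [show ratio V 0 i = 1 from dif_pos hi, map_one, mul_one, hi,
          show β 0 = a.app V (one1 X V) by
            rw [h0, ← Groth.L19.ProjBdl.app_rs, Groth.L19.ProjBdl.rs_one1]]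
        have h := RingHom.congr_fun hαβ (j1.app V (one1 X V))
        simp only [RingHom.comp_apply] at h
        have e1 : (ψ.hom.app (op V)).hom (j1.app V (one1 X V)) = jE.app V (a.app V (one1 X V)) :=
          congrArg (fun g : Coh.structureModule X ⟶ AE.toModule => g.app V (one1 X V)) hψ
        exact ((congrArg α e1).symm.trans h |>.trans (congrArg βm
          (congrArg (fun g : Coh.structureModule X ⟶ (RelSpec.QCAlg.unit X).toModule => g.app V (one1 X V)) hε))).symm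
      · rw [show ratio V 0 i = MvPolynomial.X ⟨i, hi⟩ from Groth.L19.ProjBdl.ratio_ne V ⟨i, hi⟩,
          MvPolynomial.eval₂Hom_X']
        show βm (cU u V) * (βm cinv * α (jE.app V (β i))) = _
        rw [← mul_assoc, ← map_mul, hcinv, map_one, one_mul]
    refine ⟨γ0, ?_, RingHom.ext fun r => ?_⟩
    · suffices h : RingHom.comp (RingHom.comp γ0 (θ.hom.app (op V)).hom) (ΦE V hV).toRingHom =
          α.comp (ΦE V hV).toRingHom from RingHom.ext fun x => by
        obtain ⟨y, rfl⟩ := (ΦE V hV).surjective x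
        exact RingHom.congr_fun h y
      refine Groth.L18.SymRing.ringHom_ext (fun r => ?_) (fun e => ?_)
      · show γ0 ((θ.hom.app (op V)).hom (ΦE V hV (algebraMap _ _ r))) = α (ΦE V hV (algebraMap _ _ r))
        rw [hE0, θstr, hστ, hαstr]
      · show γ0 ((θ.hom.app (op V)).hom (ΦE V hV (SymmetricAlgebra.ι _ _ e))) =
          α (ΦE V hV (SymmetricAlgebra.ι _ _ e))
        rw [hE1, θj]
        obtain ⟨d, rfl⟩ := (hβ V le_rfl).2 e
        have hr : (show D.presheaf.obj (op V) from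
            (ro (imgU_le U V) (p.app V (cU u V)) * co p q a U hfr V (lc E β le_rfl d) : Γ(P, imgU U p V))) =
            κ' (MvPolynomial.C (cU u V) * ∑ i, MvPolynomial.C (d i) * ratio V 0 i) := by
          rw [hκ']
          simp only [map_mul, map_sum, hκC, hκr, lc, co_sum, co_smul, rs_self]
        rw [hr, show γ0 (κ' (MvPolynomial.C (cU u V) * ∑ i, MvPolynomial.C (d i) * ratio V 0 i)) =
          MvPolynomial.eval₂Hom βm g (MvPolynomial.C (cU u V) * ∑ i, MvPolynomial.C (d i) * ratio V 0 i) from by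
            show MvPolynomial.eval₂Hom βm g (κ'.symm (κ' _)) = _
            rw [RingEquiv.symm_apply_apply]]
        simp only [map_mul, map_sum, MvPolynomial.eval₂Hom_C, Finset.mul_sum, lc, rs_self]
        refine Finset.sum_congr rfl fun i _ => ?_
        rw [mul_left_comm, hrat, Scheme.Modules.Hom.app_smul, Groth.L18.SymSheaf.smul_toModule]
        exact (congrArg (· * _) (hαstr (d i)).symm).trans (map_mul α _ _).symm
    · show γ0 (((fromUnit (U.ι ≫ p)).hom.app (op V)).hom r) = βm r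
      rw [τC, hστ]
  have uniq : ∀ (T : CommRingCat.{u}) (γ γ' : D.presheaf.obj (op V) →+* T),
      γ.comp (θ.hom.app (op V)).hom = γ'.comp (θ.hom.app (op V)).hom →
      γ.comp ((fromUnit (U.ι ≫ p)).hom.app (op V)).hom = γ'.comp ((fromUnit (U.ι ≫ p)).hom.app (op V)).hom → γ = γ' := by
    intro T γ γ' eθ eτ
    obtain ⟨cinv, hcinv⟩ := (isUnit_cU u V).exists_right_inv
    have hC : ∀ r, γ (κ' (MvPolynomial.C r)) = γ' (κ' (MvPolynomial.C r)) := fun r => by
      rw [← τC]; exact RingHom.congr_fun eτ r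
    suffices h : γ.comp κ'.toRingHom = γ'.comp κ'.toRingHom from RingHom.ext fun x => by
      obtain ⟨y, rfl⟩ := κ'.surjective x
      exact RingHom.congr_fun h y
    refine MvPolynomial.ringHom_ext (fun r => hC r) fun i => ?_
    have hx : κ' (MvPolynomial.X i) = κ' (MvPolynomial.C cinv) * (θ.hom.app (op V)).hom (jE.app V (β i.1)) := by
      rw [θj, ← Groth.L19.ProjBdl.ratio_ne V i, hκ', hκ', hκr, hκC]
      show co p q a U hfr V (β i.1) = _ * (_ * _)
      rw [← mul_assoc]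
      show _ = (P.presheaf.map _).hom (p.app V cinv) * (P.presheaf.map _).hom (p.app V (cU u V)) * _
      rw [← map_mul, ← map_mul, mul_comm cinv, hcinv, map_one, map_one, one_mul]
    show γ (κ' (MvPolynomial.X i)) = γ' (κ' (MvPolynomial.X i))
    rw [hx, map_mul, map_mul, hC]
    exact congrArg (_ * ·) (RingHom.congr_fun eθ _)
  choose γ hγθ hγτ using key
  have hsq : ψ.hom.app (op V) ≫ θ.hom.app (op V) = ε.hom.app (op V) ≫ (fromUnit (U.ι ≫ p)).hom.app (op V) :=
    NatTrans.congr_app (congrArg RelSpec.QCAlg.Hom.hom hw) (op V)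
  refine ⟨⟨hsq⟩, ⟨PushoutCocone.IsColimit.mk hsq
    (fun s => CommRingCat.ofHom (γ s.pt s.inl.hom s.inr.hom (congrArg CommRingCat.Hom.hom s.condition)))
    (fun s => CommRingCat.hom_ext (hγθ _ _ _ _))
    (fun s => CommRingCat.hom_ext (hγτ _ _ _ _))
    (fun s m h₁ h₂ => CommRingCat.hom_ext (uniq _ _ _ ?_ ?_))⟩⟩
  · rw [CommRingCat.hom_ofHom, hγθ, ← h₁]; rfl
  · rw [CommRingCat.hom_ofHom, hγτ, ← h₂]; rfl

omit [IsAffineHom (U.ι ≫ p)] in
include hP hQ hex hU hAE hψ hε in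
/-- The complement of the sub-bundle is the bundle of splittings. -/
theorem exists_iso_compl (hA1 : RelSpec.IsSymAlg (Coh.structureModule X) A1 j1) (hF : FlatMod.IsFinLocFree F) :
    ∃ e : (U : Scheme.{u}) ≅ pullback (RelSpec.QCAlg.specMap ψ) (RelSpec.QCAlg.specMap ε),
      e.hom ≫ pullback.fst (RelSpec.QCAlg.specMap ψ) (RelSpec.QCAlg.specMap ε) ≫ AE.π = U.ι ≫ p := by
  haveI := isAffineHom_compl hP hQ a b hab hex U hU hF
  have hfr := isFrame_secA hP hQ a b hab hex U hU hF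
  obtain ⟨θ, hθ, -⟩ := hAE (RelSpec.QCAlg.directImage (U.ι ≫ p)) (taut p q a U hfr u)
  have hw : ψ ≫ θ = ε ≫ fromUnit (U.ι ≫ p) := by
    refine (hA1 _ (a ≫ taut p q a U hfr u)).unique ?_ ?_
    · show j1 ≫ RelSpec.QCAlg.Hom.toModuleMap ψ ≫ RelSpec.QCAlg.Hom.toModuleMap θ = _
      rw [← Category.assoc, hψ, Category.assoc, hθ]
    · show j1 ≫ RelSpec.QCAlg.Hom.toModuleMap ε ≫ RelSpec.QCAlg.Hom.toModuleMap (fromUnit (U.ι ≫ p)) = _
      rw [← Category.assoc, hε]
      refine hom_ext_frame (isFrame_one1 (T := X) ⊤) _ _ ?_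
      show (show Γ(P, imgU U p ⊤) from (U.ι ≫ p).app ⊤ (cU u ⊤)) =
        (show Γ(P, imgU U p ⊤) from ro (imgU_le U ⊤) (p.app ⊤ (cU u ⊤)) * co p q a U hfr ⊤ (a.app ⊤ (one1 X ⊤)))
      rw [co_secA, mul_one]
      exact app_comp_ι (p := p) U ⊤ _
  choose V n β hV hxV hβ h0 using fun x : X => exists_basis_cons a b hab hex hF x
  have hpb := isPullback_specMap ψ ε θ (fromUnit (U.ι ≫ p)) V hV (fun x => ⟨x, hxV x⟩)
    fun x => isPushout_compl hP hQ a b hab hex U hU hfr hAE ψ hψ u ε hε θ hθ hw (hV x) (hβ x) (h0 x)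
  haveI := isIso_toHull (U.ι ≫ p)
  refine ⟨asIso (Groth.L16.QAffFactor.toHull (U.ι ≫ p)) ≪≫ hpb.isoPullback, ?_⟩
  rw [Iso.trans_hom, asIso_hom, Category.assoc, hpb.isoPullback_hom_fst_assoc, RelSpec.QCAlg.specMap_π]
  exact Groth.L16.QAffFactor.toHull_π _

end Groth.L22.Bundle
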