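import Groth.Agent.L22.Bundle.Step
import Groth.Agent.L22.Bundle.RatAux

/-!
The push-forward of caps of pulled back cycles along a projective bundle.
-/

set_option autoImplicit false
set_option linter.style.haveILetI false
set_option backward.isDefEq.respectTransparency.types false
set_option backward.isDefEq.respectTransparency false

universe u

open CategoryTheory CategoryTheory.Limits AlgebraicGeometry TopologicalSpace Opposite

noncomputable section

namespace Groth.L22.Bundle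

open Groth.L19.ProjBdl (IsBasisOn locus crd sec ratio Acrd)
open Groth.L22.C1 (mk isGen_germ mk_gen_ne_zero c1PowFun_ne_zero)

variable {X P : Scheme.{u}} {p : P ⟶ X} {F : X.Modules} {O1 : P.Modules}
  {q : (Scheme.Modules.pullback p).obj F ⟶ O1} {n : ℕ}

theorem exists_triv (hF : FlatMod.IsFinLocFreeOfRank (n + 1) F) (w : X) :
    ∃ (V : X.Opens) (b : Fin (n + 1) → Γ(F, V)), IsAffineOpen V ∧ w ∈ V ∧ IsBasisOn F V b := by
  obtain ⟨U, hxU, ⟨e⟩⟩ := hF w
  obtain ⟨s, hs⟩ := Groth.L17.FinLocBases.exists_isBasis F e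
  have hU : U.ι ''ᵁ ⊤ = U := (Scheme.Hom.image_top_eq_opensRange U.ι).trans U.opensRange_ι
  obtain ⟨W, hW, hwW, hWU⟩ := (Opens.isBasis_iff_nbhd.1 X.isBasis_affineOpens)
    (show w ∈ U.ι ''ᵁ ⊤ from hU.ge hxU)
  exact ⟨W, _, hW, hwW, (Groth.L19.ProjBdl.isBasisOn_of_locBases hs).mono hWU⟩

variable (hPB : KRR.IsProjBundle p F O1 q) (hF : FlatMod.IsFinLocFreeOfRank (n + 1) F)
  [IsLocallyNoetherian X] {δ : X → ℤ} (hdX : Cyc.IsDimFun X δ) {δP : P → ℤ} (hdP : Cyc.IsDimFun P δP)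
  (hδ : Cyc.DeltaCompat p δP δ)

theorem pullFun_ne_zero {f : X → ℤ} {z : P} (h : Cyc.pullFun p δP δ (n : ℤ) f z ≠ 0) :
    f (p z) ≠ 0 ∧ δP z = δ (p z) + (n : ℤ) := by
  rw [Cyc.pullFun] at h
  split_ifs at h with hd
  · exact ⟨left_ne_zero_of_mul h, hd⟩
  · exact absurd rfl h

include hPB hF hdP hδ in
/-- The flat pullback of a cycle to a projective bundle. -/
theorem exists_cycle_pullFun (α : AlgebraicCycle X ℤ) :
    ∃ α' : AlgebraicCycle P ℤ, ⇑α' = Cyc.pullFun p δP δ (n : ℤ) ⇑α := by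
  refine Groth.L22.C1.exists_cycle _ fun x => ?_
  obtain ⟨V, b, hV, hxV, hb⟩ := exists_triv hF (p x)
  refine ⟨p ⁻¹ᵁ V, hxV, ?_⟩
  refine (Set.Finite.biUnion (α.locallyFiniteSupport.finite_inter_support_of_isCompact hV.isCompact)
    fun w (_ : w ∈ _) => Set.Subsingleton.finite (s := {z : P | p z = w ∧ Cyc.pullFun p δP δ (n : ℤ) ⇑α z ≠ 0 ∧ w ∈ V})
      fun z hz z' hz' => ?_).subset fun z hz => ?_
  · obtain ⟨y₀, hy₀, -⟩ := exists_linPt (p := p) (q := q) (b := b) hV hz.2.2 hPB hb (Nat.zero_le n)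
    have e1 : z = y₀ := by_contra fun h => hz.2.1 ((pullFun_point hV hz.2.2 hPB hb hdP hδ _ hy₀ z hz.1).2 h)
    have e2 : z' = y₀ := by_contra fun h => hz'.2.1 ((pullFun_point hV hz'.2.2 hPB hb hdP hδ _ hy₀ z' hz'.1).2 h)
    rw [e1, e2]
  · exact Set.mem_biUnion (show p z ∈ (V : Set X) ∩ Function.support ⇑α from ⟨hz.2, (pullFun_ne_zero hz.1).1⟩)
      ⟨rfl, hz.1, hz.2⟩

include hdX in
/-- The points seen by the caps of a pulled back cycle. -/
theorem below {f : X → ℤ} {k : ℤ} (hf : ∀ x, f x ≠ 0 → δ x = k) (t : ℕ → (ξ : P) → Cyc.secFibre O1 ξ)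
    {m : ℕ} {z : P} (hz : Cyc.c1PowFun δP O1 t m (Cyc.pullFun p δP δ (n : ℤ) f) z ≠ 0) :
    δP z + (m : ℤ) = k + (n : ℤ) ∧ δ (p z) ≤ k ∧ ∃ x, f x ≠ 0 ∧ δ x = k ∧ x ⤳ p z := by
  obtain ⟨η, hη, hsp, hd⟩ := c1PowFun_ne_zero t m _ z hz
  obtain ⟨h1, h2⟩ := pullFun_ne_zero hη
  have hk := hf _ h1
  have hspx : p η ⤳ p z := hsp.map p.continuous
  refine ⟨by omega, ?_, p η, h1, hk, hspx⟩
  by_cases e : p η = p z
  · rw [← e, hk]
  · exact hk ▸ (hdX _ _ hspx e).1.le

open Classical in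
/-- The coordinate sections. -/
def coordSec {V : X.Opens} (b : Fin (n + 1) → Γ(F, V)) (q : (Scheme.Modules.pullback p).obj F ⟶ O1)
    (t : ℕ → (ξ : P) → Cyc.secFibre O1 ξ) (m : ℕ) (ξ : P) : Cyc.secFibre O1 ξ :=
  if h : ∃ hm : m < n + 1, ξ ∈ locus p q b ⟨m, hm⟩ then
    mk O1 (O1.presheaf.germ (p ⁻¹ᵁ V) ξ (Groth.L19.ProjBdl.locus_le p q b ⟨m, h.1⟩ h.2) (sec p q b ⟨m, h.1⟩))
  else t m ξ

theorem coordSec_ne_zero (hL : PicF.IsInvertible O1) {V : X.Opens} (b : Fin (n + 1) → Γ(F, V))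
    (t : ℕ → (ξ : P) → Cyc.secFibre O1 ξ) (ht : ∀ m ξ, t m ξ ≠ 0) (m : ℕ) (ξ : P) :
    coordSec b q t m ξ ≠ 0 := by
  rw [coordSec]
  split_ifs with h
  · exact mk_gen_ne_zero hL (isGen_sec h.2 _)
  · exact ht m ξ

include hdX hdP hδ hPB in
/-- With coordinate sections the caps are linear subspaces. -/
theorem c1Pow_coord [IsLocallyNoetherian P] (hL : PicF.IsInvertible O1) {V : X.Opens}
    {b : Fin (n + 1) → Γ(F, V)} (hV : IsAffineOpen V) (hb : IsBasisOn F V b) {w : X} (hwV : w ∈ V)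
    {f : X → ℤ} {k : ℤ} (hf : ∀ x, f x ≠ 0 → δ x = k) (hw : δ w = k)
    (t : ℕ → (ξ : P) → Cyc.secFibre O1 ξ) :
    ∀ (m : ℕ), m ≤ n → ∀ (y : P), IsLinPt p q b w m y → ∀ z : P, p z = w →
      (z = y → Cyc.c1PowFun δP O1 (coordSec b q t) m (Cyc.pullFun p δP δ (n : ℤ) f) z = f w) ∧
      (z ≠ y → Cyc.c1PowFun δP O1 (coordSec b q t) m (Cyc.pullFun p δP δ (n : ℤ) f) z = 0) := by
  intro m
  induction m with
  | zero => exact fun _ y hy z hz => pullFun_point hV hwV hPB hb hdP hδ f hy z hz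
  | succ m ih =>
    intro hm y' hy' z hz
    obtain ⟨y, hy, hloc⟩ := exists_linPt (p := p) (q := q) (b := b) hV hwV hPB hb (m := m) (by omega)
    have hyz := ih (by omega) y hy
    let G := Cyc.c1PowFun δP O1 (coordSec b q t) m (Cyc.pullFun p δP δ (n : ℤ) f)
    have hs : ∀ η, η ≠ y → G η * Cyc.secDivFun δP O1 η (coordSec b q t m η) z = 0 := by
      intro η hη
      by_contra h
      obtain ⟨-, -, x, -, hxk, hsp⟩ := below hdX hf _ (left_ne_zero_of_mul h)
      have hsp2 : p η ⤳ w := hz ▸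
        ((Groth.L22.C1.secDivFun_ne_zero δP (right_ne_zero_of_mul h)).1.map p.continuous)
      have hxw : x = w := by_contra fun e => by
        have := (hdX x w (hsp.trans hsp2) e).1
        omega
      have hpη : p η = w := (hsp2.antisymm (hxw ▸ hsp)).eq
      exact left_ne_zero_of_mul h ((hyz η hpη).2 hη)
    have hsum : Cyc.c1PowFun δP O1 (coordSec b q t) (m + 1) (Cyc.pullFun p δP δ (n : ℤ) f) z =
        f w * Cyc.secDivFun δP O1 y (coordSec b q t m y) z := by
      refine (finsum_eq_single (fun η => G η * Cyc.secDivFun δP O1 η (coordSec b q t m η) z) y hs).trans ?_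
      show G y * _ = _
      rw [show G y = f w from (hyz y hy.1.1).1 rfl]
    have hcs : coordSec b q t m y = mk O1 (O1.presheaf.germ (p ⁻¹ᵁ V) y
        (show p y ∈ V from hy.1.1 ▸ hwV) (sec p q b ⟨m, by omega⟩)) := by
      rw [coordSec, dif_pos ⟨by omega, hloc _ le_rfl⟩]
    obtain ⟨e1, e2⟩ := secDivFun_linPt hV hwV hPB hb hdP hδ hL (by omega : m < n) hy hy'
      (show y ∈ p ⁻¹ᵁ V from show p y ∈ V from hy.1.1 ▸ hwV) z hz
    refine ⟨fun e => ?_, fun e => ?_⟩
    · rw [hsum, hcs, e1 e, mul_one]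
    · rw [hsum, hcs, e2 e, mul_zero]

theorem residueDegree_eq_one {z : P} (h : Function.Bijective (p.residueFieldMap z).hom) :
    p.residueDegree z = 1 := by
  letI := (p.residueFieldMap z).hom.toAlgebra
  show Module.finrank (X.residueField (p z)) (P.residueField z) = 1
  rw [← (LinearEquiv.ofBijective (Algebra.linearMap (X.residueField (p z)) (P.residueField z)) h).finrank_eq,
    Module.finrank_self]

include hPB hF hdX hdP hδ in
/-- The push-forward of the caps: zero below the relative dimension, the cycle itself at it. -/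
theorem map_c1Pow [IsLocallyNoetherian P] [IsProper p] (hL : PicF.IsInvertible O1) (k : ℤ)
    (α : AlgebraicCycle X ℤ) (hα : α ∈ Cyc.Zk X δ k) (t : ℕ → (ξ : P) → Cyc.secFibre O1 ξ)
    (ht : ∀ m ξ, t m ξ ≠ 0) (m : ℕ) (hm : m ≤ n) (β : AlgebraicCycle P ℤ)
    (hβ : ⇑β = Cyc.c1PowFun δP O1 t m (Cyc.pullFun p δP δ (n : ℤ) ⇑α)) (x : X) :
    AlgebraicCycle.map p δP δ β x = if m = n then α x else 0 := by
  classical
  have hfk : ∀ x, α x ≠ 0 → δ x = k := fun x h => not_not.1 fun e => h (hα x e)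
  let c : P → ℤ := fun z => ((AlgebraicCycle.mapCoeff p δP δ z : ℕ) : ℤ)
  have hc : ∀ z, c z ≠ 0 → δP z = δ (p z) := fun z h => by
    by_contra e
    exact h (by show ((AlgebraicCycle.mapCoeff p δP δ z : ℕ) : ℤ) = 0; rw [AlgebraicCycle.mapCoeff, if_neg e]; rfl)
  by_cases hmn : m = n
  · subst hmn
    rw [if_pos rfl]
    by_cases hxk : δ x = k
    swap
    · rw [show α x = 0 from hα x hxk]
      show (∑ᶠ z ∈ p ⁻¹' {x}, β z * c z) = 0
      refine finsum_mem_eq_zero_of_forall_eq_zero fun z hz => ?_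
      by_contra h
      have h1 := left_ne_zero_of_mul h
      rw [hβ] at h1
      have := (below hdX hfk t h1).1
      have := hc z (right_ne_zero_of_mul h)
      rw [show p z = x from hz] at this
      omega
    obtain ⟨V, b, hV, hxV, hb⟩ := exists_triv hF x
    obtain ⟨α', hα'⟩ := exists_cycle_pullFun hPB hF hdP hδ α
    have hα'k : α' ∈ Cyc.Zk P δP (k + (m : ℤ)) := fun z hz => by
      by_contra h
      rw [hα'] at h
      obtain ⟨h1, h2⟩ := pullFun_ne_zero h
      exact hz (by rw [h2, hfk _ h1])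
    let S : Set P := {z | δ (p z) ≤ k}
    have hS : ∀ z z', z ∈ S → z ⤳ z' → z' ∈ S := fun z z' hz hsp => by
      show δ (p z') ≤ k
      by_cases e : p z = p z'
      · exact e ▸ hz
      · exact le_trans (hdX _ _ (hsp.map p.continuous) e).1.le hz
    have hαS : ∀ z, α' z ≠ 0 → z ∈ S := fun z h => by
      rw [hα'] at h
      exact (hfk _ (pullFun_ne_zero h).1).le
    let s := coordSec b q t
    have hs := coordSec_ne_zero (q := q) hL b t ht
    obtain ⟨β₀, hβ₀⟩ := Groth.L22.C1.exists_cycle_c1Pow hdP hL s hs α' m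
    have hrat := Groth.L22.C1.ratOn_c1Pow_change hdP hL hS (k + (m : ℤ)) α' hα'k hαS t s ht hs m
    rw [add_sub_cancel_right] at hrat
    have hD : Groth.L22.C1.RatOn δP k S ⇑(β - β₀) := hrat.congr fun z => by
      rw [Function.locallyFinsuppWithin.coe_sub, Pi.sub_apply, hβ, hβ₀, hα']
    have hzero := Groth.L22.C1.map_eq_zero_of_drop p hdP hdX hδ
      (fun ξ (hξ : δ (p ξ) ≤ k) => by omega) (β - β₀) hD x
    have hfin : ∀ γ : AlgebraicCycle P ℤ, (Function.support (fun z => γ z * c z) ∩ p ⁻¹' {x}).Finite := fun γ =>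
      (γ.locallyFiniteSupport.finite_inter_support_of_isCompact (p.isCompact_preimage_singleton x)).subset
        fun z hz => ⟨hz.2, left_ne_zero_of_mul hz.1⟩
    have hsub : AlgebraicCycle.map p δP δ (β - β₀) x =
        AlgebraicCycle.map p δP δ β x - AlgebraicCycle.map p δP δ β₀ x := by
      show (∑ᶠ z ∈ p ⁻¹' {x}, (β - β₀) z * c z) =
        (∑ᶠ z ∈ p ⁻¹' {x}, β z * c z) - ∑ᶠ z ∈ p ⁻¹' {x}, β₀ z * c z
      rw [finsum_mem_eq_finite_toFinset_sum_aux (hfin β) (hfin β₀) (fun z => (β - β₀) z * c z)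
        (fun z => β z * c z) (fun z => β₀ z * c z) (fun z => by
          show (β - β₀) z * c z = _
          rw [Function.locallyFinsuppWithin.coe_sub, Pi.sub_apply, sub_mul])]
    rw [hsub, sub_eq_zero] at hzero
    rw [hzero]
    obtain ⟨y, hy, -⟩ := exists_linPt (p := p) (q := q) (b := b) hV hxV hPB hb (le_refl m)
    have hval := c1Pow_coord hPB hdX hdP hδ hL hV hb hxV hfk hxk t m le_rfl y hy
    show (∑ᶠ z ∈ p ⁻¹' {x}, β₀ z * c z) = α x
    rw [finsum_mem_eq_single_aux y (show p y = x from hy.1.1) fun z hz hne => by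
      rw [hβ₀, hα', (hval z hz).2 hne, zero_mul]]
    have hdy : δP y = δ x := by
      have := delta_linPt hV hxV hPB hb hdP hδ (le_refl m) hy
      omega
    have hcy : c y = 1 := by
      show ((AlgebraicCycle.mapCoeff p δP δ y : ℕ) : ℤ) = 1
      rw [AlgebraicCycle.mapCoeff, if_pos (show δP y = δ (p y) by rw [hy.1.1]; exact hdy),
        residueDegree_eq_one (linPt_last_rational hV hxV hPB hb hy)]
      rfl
    rw [hβ₀, hα', (hval y hy.1.1).1 rfl, hcy, mul_one]
  · rw [if_neg hmn]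
    show (∑ᶠ z ∈ p ⁻¹' {x}, β z * c z) = 0
    refine finsum_mem_eq_zero_of_forall_eq_zero fun z hz => ?_
    by_contra h
    have h1 := left_ne_zero_of_mul h
    rw [hβ] at h1
    obtain ⟨h2, h3, -⟩ := below hdX hfk t h1
    have := hc z (right_ne_zero_of_mul h)
    omega
where
  finsum_mem_eq_single_aux {S : Type u} {f : S → ℤ} {A : Set S} (a : S) (ha : a ∈ A)
      (h : ∀ z ∈ A, z ≠ a → f z = 0) : (∑ᶠ z ∈ A, f z) = f a := by
    rw [finsum_mem_def, finsum_eq_single _ a fun z hz => ?_, Set.indicator_of_mem ha]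
    by_cases hzA : z ∈ A
    · rw [Set.indicator_of_mem hzA]; exact h z hzA hz
    · exact Set.indicator_of_notMem hzA _
  finsum_mem_eq_finite_toFinset_sum_aux {S : Type u} {A : Set S} {g h : S → ℤ}
      (hg : (Function.support g ∩ A).Finite) (hh : (Function.support h ∩ A).Finite) (f g' h' : S → ℤ)
      (hf : ∀ z, f z = g' z - h' z) (e1 : g' = g := by rfl) (e2 : h' = h := by rfl) :
      (∑ᶠ z ∈ A, f z) = (∑ᶠ z ∈ A, g' z) - ∑ᶠ z ∈ A, h' z := by
    subst e1 e2
    have hd : (A ∩ Function.support f).Finite := (hg.union hh).subset fun z hz => by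
      by_cases e : g' z = 0
      · refine Or.inr ⟨fun e' => hz.2 ?_, hz.1⟩
        rw [hf, e, e', sub_zero]
      · exact Or.inl ⟨e, hz.1⟩
    rw [eq_sub_iff_add_eq, ← finsum_mem_add_distrib' hd (by rw [Set.inter_comm]; exact hh)]
    exact finsum_mem_congr rfl fun z _ => by rw [hf]; ring

end Groth.L22.Bundle
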