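import Groth.Agent.L22.Bundle.AffSpace
import Groth.Agent.L22.Bundle.Push

/-!
The cycles on a fibre of a projective bundle are multiples of linear subspaces up to divisors.
-/

set_option autoImplicit false
set_option linter.style.haveILetI false
set_option backward.isDefEq.respectTransparency.types false
set_option backward.isDefEq.respectTransparency false

universe u

open CategoryTheory CategoryTheory.Limits AlgebraicGeometry TopologicalSpace Opposite

noncomputable section

namespace Groth.L22.Bundle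

open Groth.L19.ProjBdl (IsBasisOn locus ratio Acrd)

variable {X P : Scheme.{u}} {p : P ⟶ X} {F : X.Modules} {O1 : P.Modules}
  {q : (Scheme.Modules.pullback p).obj F ⟶ O1} {V : X.Opens} {n : ℕ} {b : Fin (n + 1) → Γ(F, V)} {w : X}

/-- Coordinates on a stratum of a chart. -/
def stratumHom (A : Type u) [CommRing A] {n : ℕ} (m : ℕ) (l : Fin (n + 1)) :
    MvPolynomial {i : Fin (n + 1) // i ≠ l} A →+* MvPolynomial (Fin (n - m)) A :=
  MvPolynomial.eval₂Hom MvPolynomial.C fun i =>
    if h : m < (i.1 : ℕ) then MvPolynomial.X ⟨(i.1 : ℕ) - m - 1, by omega⟩ else 0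

/-- Their section. -/
def stratumSec (A : Type u) [CommRing A] {n : ℕ} (m : ℕ) (hm : m < n) :
    MvPolynomial (Fin (n - m)) A →+* MvPolynomial {i : Fin (n + 1) // i ≠ (⟨m, by omega⟩ : Fin (n + 1))} A :=
  MvPolynomial.eval₂Hom MvPolynomial.C fun a =>
    MvPolynomial.X ⟨⟨(a : ℕ) + m + 1, by omega⟩, fun e => by simp [Fin.ext_iff] at e; omega⟩

theorem stratum_retract (A : Type u) [CommRing A] {n : ℕ} (m : ℕ) (hm : m < n) :
    (stratumHom A m (⟨m, by omega⟩ : Fin (n + 1))).comp (stratumSec A m hm) = RingHom.id _ :=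
  MvPolynomial.ringHom_ext (fun a => by simp [stratumHom, stratumSec]) fun a => by
    simp only [RingHom.comp_apply, stratumSec, MvPolynomial.eval₂Hom_X', RingHom.id_apply, stratumHom]
    rw [dif_pos (by simp <;> omega)]
    congr 1
    all_goals exact Fin.ext (show (a : ℕ) + m + 1 - m - 1 = a by omega)

theorem stratum_kill (A : Type u) [CommRing A] {n : ℕ} (m : ℕ) (hm : m < n) :
    (stratumSec A m hm).comp (stratumHom A m (⟨m, by omega⟩ : Fin (n + 1))) =
      kill (killed m (⟨m, by omega⟩ : Fin (n + 1))) :=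
  MvPolynomial.ringHom_ext (fun a => by simp [stratumHom, stratumSec, kill_C]) fun i => by
    have hi : (i.1 : ℕ) ≠ m := fun e => i.2 (Fin.ext e)
    simp only [RingHom.comp_apply, stratumHom, MvPolynomial.eval₂Hom_X']
    by_cases h : m < (i.1 : ℕ)
    · rw [dif_pos h, kill_X_notMem (S := killed m _) (show ¬ ((i.1 : ℕ) < m) by omega)]
      simp only [stratumSec, MvPolynomial.eval₂Hom_X']
      congr 1
      exact Subtype.ext (Fin.ext (by simp; omega))
    · rw [dif_neg h, map_zero, kill_X_mem (S := killed m _) (show (i.1 : ℕ) < m by omega)]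

variable (hV : IsAffineOpen V) (hwV : w ∈ V) (hPB : KRR.IsProjBundle p F O1 q) (hb : IsBasisOn F V b)
  [IsLocallyNoetherian X] [IsLocallyNoetherian P] {δ : X → ℤ} (hdX : Cyc.IsDimFun X δ) {δP : P → ℤ}
  (hdP : Cyc.IsDimFun P δP) (hδ : Cyc.DeltaCompat p δP δ) [QuasiCompact p]

include hV hwV hPB hb hdX hdP hδ in
/-- A point of a fibre is a multiple of a linear subspace up to divisors on the fibre. -/
theorem fibre_class {m : ℕ} (hm : m ≤ n) : ∀ z, InLin p q b w m z → ∀ (c : ℕ), δP z + (c : ℤ) = δ w + (n : ℤ) →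
    ∀ y, IsLinPt p q b w c y → ∃ e : ℤ, FibRat p δP w (δP z) (fun x => pt z x - e * pt y x) := by
  classical
  induction hk : n - m generalizing m with
  | zero =>
    obtain rfl : m = n := by omega
    intro z hz c hc y hy
    obtain ⟨y₀, hy₀, -⟩ := exists_linPt (p := p) (q := q) (b := b) hV hwV hPB hb (le_refl m)
    have hd := delta_linPt hV hwV hPB hb hdP hδ (le_refl m) hy₀
    obtain ⟨d, -, hdd⟩ := hδ z
    have hzy : z = y₀ := by
      by_contra e
      have := (hdP _ _ (hy₀.2 z hz) (Ne.symm e)).1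
      rw [hz.1] at hdd
      omega
    have hcm : c = m := by rw [hzy] at hc; omega
    subst hcm
    refine ⟨1, fibRat_zero fun x _ => ?_⟩
    rw [hy.unique (hzy ▸ hy₀ : IsLinPt p q b w c z)]
    ring
  | succ r ih =>
    intro z hz c hc y hy
    have hmn : m < n := by omega
    obtain ⟨y₀, hy₀, -⟩ := exists_linPt (p := p) (q := q) (b := b) hV hwV hPB hb hm
    have hd₀ := delta_linPt hV hwV hPB hb hdP hδ hm hy₀
    by_cases hzy : z = y₀
    · have hcm : c = m := by rw [hzy] at hc; omega
      subst hcm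
      refine ⟨1, fibRat_zero fun x _ => ?_⟩
      rw [hy.unique (hzy ▸ hy₀ : IsLinPt p q b w c z)]
      ring
    let im : Fin (n + 1) := ⟨m, by omega⟩
    by_cases hzl : z ∈ locus p q b im
    swap
    · refine ih (m := m + 1) hmn (by omega) z ⟨hz.1, fun i hi => ?_⟩ c hc y hy
      rcases Nat.lt_succ_iff_lt_or_eq.1 hi with h | h
      · exact hz.2 i h
      · rwa [show i = im from Fin.ext h]
    obtain ⟨cd⟩ := nonempty_cData hPB hb hV im
    haveI : IsNoetherianRing Γ(X, V) := IsLocallyNoetherian.component_noetherian ⟨V, hV⟩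
    haveI : IsNoetherianRing (CommRingCat.of (MvPolynomial (Fin (n - m)) Γ(X, V))) :=
      inferInstanceAs (IsNoetherianRing (MvPolynomial (Fin (n - m)) Γ(X, V)))
    let ψ : Γ(P, locus p q b im) ⟶ CommRingCat.of (MvPolynomial (Fin (n - m)) Γ(X, V)) :=
      CommRingCat.ofHom ((stratumHom Γ(X, V) m im).comp cd.θ.symm.toRingHom)
    let J : Spec (CommRingCat.of (MvPolynomial (Fin (n - m)) Γ(X, V))) ⟶ P := Spec.map ψ ≫ cd.aff.fromSpec
    have hsurj : Function.Surjective ψ.hom := fun f =>
      ⟨cd.θ (stratumSec Γ(X, V) m hmn f), by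
        show stratumHom Γ(X, V) m im (cd.θ.symm (cd.θ _)) = f
        rw [RingEquiv.symm_apply_apply]
        exact congrArg (fun g : _ →+* _ => g f) (stratum_retract Γ(X, V) m hmn)⟩
    haveI : IsClosedImmersion (Spec.map ψ) := IsClosedImmersion.spec_of_surjective _ hsurj
    have hdT : Cyc.IsDimFun (Spec (CommRingCat.of (MvPolynomial (Fin (n - m)) Γ(X, V)))) fun t => δP (J t) :=
      Groth.L22.Cyc.isDimFun_closedImmersion (Spec.map ψ) (isDimFun_openImmersion cd.aff.fromSpec hdP)
    have hdA : Cyc.IsDimFun (Spec Γ(X, V)) fun a => δ (hV.fromSpec a) := isDimFun_openImmersion hV.fromSpec hdX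
    have hle := Groth.L19.ProjBdl.locus_le p q b im
    have hJp : J ≫ p = affPr Γ(X, V) (n - m) ≫ hV.fromSpec := by
      rw [Category.assoc, ← IsAffineOpen.SpecMap_appLE_fromSpec p hV cd.aff hle, ← Spec.map_comp_assoc]
      congr 2
      refine CommRingCat.hom_ext (RingHom.ext fun a => ?_)
      show stratumHom Γ(X, V) m im (cd.θ.symm (p.appLE V (locus p q b im) hle a)) = MvPolynomial.C a
      rw [← cd.θ_C, RingEquiv.symm_apply_apply]
      exact MvPolynomial.eval₂Hom_C _ _ a
    have hδT : Cyc.DeltaCompat (affPr Γ(X, V) (n - m)) (fun t => δP (J t)) fun a => δ (hV.fromSpec a) := by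
      refine deltaCompat_cancel _ hV.fromSpec (δZ := δ) ?_ fun a => ⟨0, ?_, by simp⟩
      · rw [← hJp]; exact deltaCompat_comp J p hδ
      · exact (rtrdeg_eq_zero hV.fromSpec a).trans Nat.cast_zero.symm
    have hrange : ∀ x, InLin p q b w m x → x ∈ locus p q b im → ∃ t, J t = x := by
      intro x hx hxl
      have hker : RingHom.ker ψ.hom ≤ (cd.aff.primeIdealOf ⟨x, hxl⟩).asIdeal := by
        intro f hf
        obtain ⟨h1, h2⟩ := (inLin_iff hV hwV cd hxl le_rfl).1 hx
        have h3 : kill (killed m im) (cd.θ.symm f) = 0 := by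
          rw [← stratum_kill Γ(X, V) m hmn, RingHom.comp_apply]
          exact (congrArg _ hf).trans (map_zero _)
        have h4 : cd.θ.symm f ∈ Qs (basePrime hV hwV) (killed m im) :=
          (congrArg (MvPolynomial.map (Ideal.Quotient.mk (basePrime hV hwV))) h3).trans (map_zero _)
        have h5 := Qs_le (Ideal.map_le_iff_le_comap.2 h1.ge) h2 h4
        rw [cd.pr_eq x hxl, Ideal.mem_comap] at h5
        simpa using h5
      obtain ⟨t, ht⟩ : cd.aff.primeIdealOf ⟨x, hxl⟩ ∈ Set.range (PrimeSpectrum.comap ψ.hom) := by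
        rw [range_comap_of_surjective _ ψ.hom hsurj]
        exact hker
      refine ⟨t, ?_⟩
      show cd.aff.fromSpec (PrimeSpectrum.comap ψ.hom t) = x
      rw [ht, cd.aff.fromSpec_primeIdealOf]
    obtain ⟨t, ht⟩ := hrange z hz hzl
    rw [← ht] at hz hc hzy hzl ⊢
    have hbase : ∀ t', hV.fromSpec (affPr Γ(X, V) (n - m) t') = p (J t') := fun t' => by
      rw [← Scheme.Hom.comp_apply, ← hJp]; rfl
    have hlt : δP (J t) < δ (hV.fromSpec (affPr Γ(X, V) (n - m) t)) + ((n - m : ℕ) : ℤ) := by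
      rw [hbase, hz.1]
      have := (hdP _ _ (hy₀.2 _ hz) (Ne.symm hzy)).1
      omega
    have hF := ((vanish (n - m) Γ(X, V) _ _ hdA hdT hδT t).2 hlt)
    have hq : ∀ t', p (J t') = w ↔ affPr Γ(X, V) (n - m) t' = affPr Γ(X, V) (n - m) t := fun t' => by
      rw [← hbase, ← hz.1, ← hbase]
      exact hV.fromSpec.isOpenEmbedding.injective.eq_iff
    have hF' : FibRat (fun t' => p (J t')) (fun t' => δP (J t')) w (δP (J t)) (pt t) := by
      obtain ⟨ι, hι, ξ, f, h1, h2⟩ := hF
      exact ⟨ι, hι, ξ, f, fun i => ⟨(h1 i).1, (h1 i).2.1, (hq _).2 (h1 i).2.2⟩, fun x hx => h2 x ((hq x).1 hx)⟩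
    obtain ⟨D, hD, hval, hsupp⟩ := hF'.push J hdP hdT
    obtain ⟨ιD, hιD, ξD, fD, hD1, hD2⟩ := hD
    have hfin : (Function.support D ∩ p ⁻¹' {w}).Finite := by
      refine ((Finset.univ : Finset ιD).finite_toSet.biUnion fun i _ =>
        Groth.L22.Cyc.finite_support_divFun_inter_compact hdP (ξD i) (fD i) (hD1 i).2.1
          (p.isCompact_preimage_singleton w)).subset fun x hx => ?_
      have hne := hx.1
      rw [Function.mem_support, hD2 x hx.2] at hne
      obtain ⟨i, hi, hi'⟩ := Finset.exists_ne_zero_of_sum_ne_zero hne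
      exact Set.mem_biUnion (Finset.mem_coe.2 hi) ⟨hi', hx.2⟩
    let S := hfin.toFinset.filter fun x => ¬ ∃ t', J t' = x
    have hS : ∀ x ∈ S, ∃ e : ℤ, FibRat p δP w (δP (J t)) (fun v => pt x v - e * pt y v) := by
      intro x hx
      obtain ⟨hx1, hx2⟩ := Finset.mem_filter.1 hx
      obtain ⟨hxD, hxw⟩ := hfin.mem_toFinset.1 hx1
      obtain ⟨hdx, t', ht', hsp⟩ := hsupp x hxD
      have hJl : J t' ∈ locus p q b im := cd.aff.range_fromSpec.le ⟨Spec.map ψ t', rfl⟩
      have hlin : InLin p q b w m x := by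
        refine ⟨hxw, fun i hi hmem => ?_⟩
        have himi : i ≠ im := fun e => absurd hi (by rw [e]; exact lt_irrefl m)
        have hmem' := hsp.mem_open (locus p q b i).2 hmem
        replace hmem' : J t' ∈ locus p q b i := hmem'
        rw [cd.mem_locus_iff _ hJl i, cd.pr_eq] at hmem'
        refine hmem' ?_
        have hp : cd.aff.primeIdealOf ⟨J t', hJl⟩ = Spec.map ψ t' :=
          cd.aff.fromSpec.isOpenEmbedding.injective (cd.aff.fromSpec_primeIdealOf _)
        rw [Ideal.mem_comap, hp, Groth.L19.ProjBdl.ratio_ne V ⟨i, himi⟩]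
        show stratumHom Γ(X, V) m im (cd.θ.symm (cd.θ _)) ∈ t'.asIdeal
        rw [RingEquiv.symm_apply_apply, stratumHom, MvPolynomial.eval₂Hom_X', dif_neg (by simp; omega)]
        exact zero_mem _
      obtain ⟨e, he⟩ := ih (m := m + 1) hmn (by omega) x ⟨hxw, fun i hi => by
        rcases Nat.lt_succ_iff_lt_or_eq.1 hi with h | h
        · exact hlin.2 i h
        · rw [show i = im from Fin.ext h]
          exact fun hmem => hx2 (hrange x hlin hmem)⟩ c (by omega) y hy
      exact ⟨e, hdx ▸ he⟩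
    choose! e he using hS
    refine ⟨-(∑ x ∈ S, D x * e x), ?_⟩
    have h1 := (FibRat.sum S (fun x v => D x * (pt x v - e x * pt y v))
      fun x hx => (he x hx).zsmul hdP (D x)).zsmul hdP (-1)
    refine (FibRat.add (show FibRat p δP w (δP (J t)) D from ⟨ιD, hιD, ξD, fD, hD1, hD2⟩) h1).congr
      fun v hv => ?_
    show _ = D v + -1 * ∑ x ∈ S, D x * (pt x v - e x * pt y v)
    simp only [mul_sub, ← mul_assoc, Finset.sum_sub_distrib, ← Finset.sum_mul]
    have key : pt (J t) v = D v - ∑ x ∈ S, D x * pt x v := by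
      by_cases hvJ : ∃ t', J t' = v
      · obtain ⟨t', rfl⟩ := hvJ
        rw [hval t' hv, Finset.sum_eq_zero fun x hx => mul_eq_zero_of_right _ (pt_ne fun h =>
          ((Finset.mem_filter (s := hfin.toFinset) (p := fun x => ¬ ∃ t', J t' = x)).1 hx).2 ⟨t', h⟩), sub_zero]
        by_cases e' : t' = t
        · subst e'; rw [pt_self, pt_self]
        · rw [pt_ne e', pt_ne fun h => e' (J.isEmbedding.injective h)]
      · rw [pt_ne fun h => hvJ ⟨t, h.symm⟩]
        by_cases hDv : D v = 0
        · rw [hDv, Finset.sum_eq_zero fun x hx => mul_eq_zero_of_right _ (pt_ne fun h => ?_)]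
          · ring
          · exact (hfin.mem_toFinset.1 (Finset.mem_filter.1 hx).1).1 (h ▸ hDv)
        · rw [Finset.sum_eq_single v (fun x _ hx => mul_eq_zero_of_right _ (pt_ne (Ne.symm hx)))
              (fun h => absurd (Finset.mem_filter.2 ⟨hfin.mem_toFinset.2 ⟨hDv, hv⟩, hvJ⟩) h), pt_self]
          ring
    rw [key]
    ring

end Groth.L22.Bundle
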