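import Groth.Agent.L22.Bundle.Chart
import Groth.Prelude.Def_Cyc
import Mathlib.RingTheory.AlgebraicIndependent.Transcendental

/-!
Coordinate linear subspaces in the fibre of a projective bundle.
-/

set_option autoImplicit false
set_option linter.style.haveILetI false
set_option backward.isDefEq.respectTransparency.types false
set_option backward.isDefEq.respectTransparency false

universe u

open CategoryTheory CategoryTheory.Limits AlgebraicGeometry TopologicalSpace Opposite

noncomputable section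

namespace Groth.L22.Bundle

open Groth.L19.ProjBdl (IsBasisOn locus crd sec ratio Acrd)

variable {X P : Scheme.{u}} {p : P ⟶ X} {F : X.Modules} {O1 : P.Modules}
  {q : (Scheme.Modules.pullback p).obj F ⟶ O1} {V : X.Opens} {n : ℕ} {b : Fin (n + 1) → Γ(F, V)} {w : X}

variable (p q b w) in
/-- The points over `w` at which the first `m` coordinates vanish. -/
def InLin (m : ℕ) (z : P) : Prop :=
  p z = w ∧ ∀ i : Fin (n + 1), (i : ℕ) < m → z ∉ locus p q b i

variable (p q b w) in
/-- The generic point of those points. -/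
def IsLinPt (m : ℕ) (y : P) : Prop :=
  InLin p q b w m y ∧ ∀ z, InLin p q b w m z → y ⤳ z

theorem InLin.mono {m m' : ℕ} (h : m ≤ m') {z : P} (hz : InLin p q b w m' z) : InLin p q b w m z :=
  ⟨hz.1, fun i hi => hz.2 i (hi.trans_le h)⟩

theorem IsLinPt.unique {m : ℕ} {y y' : P} (h : IsLinPt p q b w m y) (h' : IsLinPt p q b w m y') : y = y' :=
  ((h.2 _ h'.1).antisymm (h'.2 _ h.1)).eq

/-- The killed variables in a chart. -/
def killed (m : ℕ) (l : Fin (n + 1)) : Set {i : Fin (n + 1) // i ≠ l} := {i | (i.1 : ℕ) < m}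

variable (hV : IsAffineOpen V) (hwV : w ∈ V)

/-- The prime of the base point. -/
abbrev basePrime : Ideal Γ(X, V) := (hV.primeIdealOf ⟨w, hwV⟩).asIdeal

include hV hwV in
theorem inLin_iff {l : Fin (n + 1)} (c : CData p q b l) {z : P} (hz : z ∈ locus p q b l) {m : ℕ}
    (hml : m ≤ (l : ℕ)) :
    InLin p q b w m z ↔ (c.pr z hz).comap MvPolynomial.C = basePrime hV hwV ∧
      ∀ i ∈ killed m l, MvPolynomial.X i ∈ c.pr z hz := by
  rw [c.comap_C_pr hV z hz]
  refine and_congr ⟨fun h => by subst h; rfl, fun h => ?_⟩ ⟨fun h i hi => ?_, fun h i hi => ?_⟩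
  · have h' : hV.fromSpec (hV.primeIdealOf ⟨p z, Groth.L19.ProjBdl.locus_le p q b l hz⟩) =
        hV.fromSpec (hV.primeIdealOf ⟨w, hwV⟩) := by rw [PrimeSpectrum.ext h]
    rwa [hV.fromSpec_primeIdealOf, hV.fromSpec_primeIdealOf] at h'
  · have := (c.mem_locus_iff z hz i.1).not.1 (h i.1 hi)
    rw [Groth.L19.ProjBdl.ratio_ne V i, not_not] at this
    exact this
  · have hne : i ≠ l := fun e => absurd hi (by rw [e]; omega)
    rw [c.mem_locus_iff z hz i, not_not, Groth.L19.ProjBdl.ratio_ne V ⟨i, hne⟩]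
    exact h ⟨i, hne⟩ hi

include hV hwV in
theorem exists_pr_Qs {l : Fin (n + 1)} (c : CData p q b l) {m : ℕ} (hml : m ≤ (l : ℕ)) :
    ∃ (y : P) (hy : y ∈ locus p q b l), c.pr y hy = Qs (basePrime hV hwV) (killed m l) ∧
      InLin p q b w m y ∧ (∀ j : Fin (n + 1), m ≤ (j : ℕ) → y ∈ locus p q b j) ∧
      ∀ z, z ∈ locus p q b l → InLin p q b w m z → y ⤳ z := by
  haveI := isPrime_Qs (basePrime hV hwV) (killed m l)
  obtain ⟨y, hy, hR⟩ := c.exists_pr_eq (Qs (basePrime hV hwV) (killed m l))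
  refine ⟨y, hy, hR, ?_, fun j hj => ?_, fun z hz hlin => ?_⟩
  · rw [inLin_iff hV hwV c hy hml, hR]
    exact ⟨comap_C_Qs _ _, fun i hi => (X_mem_Qs_iff _ _ i).2 hi⟩
  · rw [c.mem_locus_iff y hy j, hR]
    by_cases e : j = l
    · subst e
      rw [Groth.L19.ProjBdl.ratio_self]
      exact (Ideal.ne_top_iff_one _).1 (isPrime_Qs _ _).ne_top
    · rw [Groth.L19.ProjBdl.ratio_ne V ⟨j, e⟩, X_mem_Qs_iff]
      exact fun h : (j : ℕ) < m => absurd hj (Nat.not_le.2 h)
  · rw [c.specializes_iff y z hy hz, hR]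
    obtain ⟨h1, h2⟩ := (inLin_iff hV hwV c hz hml).1 hlin
    exact Qs_le (Ideal.map_le_iff_le_comap.2 h1.ge) h2

variable (hPB : KRR.IsProjBundle p F O1 q) (hb : IsBasisOn F V b)

include hV hwV hPB hb in
/-- The generic points of the linear subspaces exist. -/
theorem exists_linPt {m : ℕ} (hm : m ≤ n) :
    ∃ y, IsLinPt p q b w m y ∧ ∀ j : Fin (n + 1), m ≤ (j : ℕ) → y ∈ locus p q b j := by
  obtain ⟨c⟩ := nonempty_cData hPB hb hV (Fin.last n)
  obtain ⟨y, hy, -, hlin, hloc, hgen⟩ := exists_pr_Qs hV hwV c (m := m) (by simpa using hm)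
  refine ⟨y, ⟨hlin, fun z hz => ?_⟩, hloc⟩
  haveI := hPB.epi
  have hzV : z ∈ p ⁻¹ᵁ V := show p z ∈ V from hz.1 ▸ hwV
  obtain ⟨j, hj⟩ := Groth.L19.ProjBdl.exists_mem_locus p q b hPB.invertible hb hzV
  have hjm : m ≤ (j : ℕ) := not_lt.1 fun h => hz.2 j h hj
  obtain ⟨cj⟩ := nonempty_cData hPB hb hV j
  obtain ⟨y', hy', -, hlin', hloc', hgen'⟩ := exists_pr_Qs hV hwV cj hjm
  exact (hgen y' (hloc' _ (by simpa using hm)) hlin').trans (hgen' z hj hz)

include hV hwV hPB hb in
theorem IsLinPt.mem_locus {m : ℕ} (hm : m ≤ n) {y : P} (hy : IsLinPt p q b w m y) {j : Fin (n + 1)}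
    (hj : m ≤ (j : ℕ)) : y ∈ locus p q b j := by
  obtain ⟨y', h', hloc⟩ := exists_linPt hV hwV hPB hb hm
  rw [hy.unique h']
  exact hloc j hj

include hV hwV in
theorem IsLinPt.pr_eq {m : ℕ} {y : P} (hy : IsLinPt p q b w m y) {l : Fin (n + 1)} (c : CData p q b l)
    (hml : m ≤ (l : ℕ)) (hyl : y ∈ locus p q b l) :
    c.pr y hyl = Qs (basePrime hV hwV) (killed m l) := by
  obtain ⟨y', hy', hR, hlin, -, hgen⟩ := exists_pr_Qs hV hwV c hml
  rw [← hR]
  exact le_antisymm ((c.specializes_iff _ _ hyl hy').1 (hy.2 _ hlin))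
    ((c.specializes_iff _ _ hy' hyl).1 (hgen _ hyl hy.1))

theorem killed_succ {m : ℕ} (hm : m < n) :
    killed (m + 1) (Fin.last n) =
      insert (⟨⟨m, by omega⟩, fun e => by simp [Fin.ext_iff] at e; omega⟩ : {i : Fin (n + 1) // i ≠ Fin.last n})
        (killed m (Fin.last n)) := by
  ext i
  simp only [killed, Set.mem_insert_iff, Set.mem_setOf_eq, Subtype.ext_iff, Fin.ext_iff]
  omega

include hV hwV hPB hb in
/-- Consecutive linear subspaces are immediate specializations. -/
theorem linPt_immediate [IsLocallyNoetherian X] {m : ℕ} (hm : m < n) {y y' : P} (hy : IsLinPt p q b w m y)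
    (hy' : IsLinPt p q b w (m + 1) y') :
    y ⤳ y' ∧ y ≠ y' ∧ ∀ z, y ⤳ z → z ⤳ y' → z = y ∨ z = y' := by
  have hspec : y ⤳ y' := hy.2 _ (hy'.1.mono (Nat.le_succ m))
  refine ⟨hspec, fun e => ?_, fun z h1 h2 => ?_⟩
  · exact hy'.1.2 ⟨m, by omega⟩ (Nat.lt_succ_self m) (e ▸ hy.mem_locus hV hwV hPB hb hm.le le_rfl)
  · obtain ⟨c⟩ := nonempty_cData hPB hb hV (Fin.last n)
    have hl' : y' ∈ locus p q b (Fin.last n) := hy'.mem_locus hV hwV hPB hb hm (by simp; omega)
    have hlz : z ∈ locus p q b (Fin.last n) := h2.mem_open (locus p q b (Fin.last n)).2 hl'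
    have hly : y ∈ locus p q b (Fin.last n) := h1.mem_open (locus p q b (Fin.last n)).2 hlz
    have a1 := (c.specializes_iff _ _ hly hlz).1 h1
    have a2 := (c.specializes_iff _ _ hlz hl').1 h2
    haveI : IsNoetherianRing Γ(X, V) := IsLocallyNoetherian.component_noetherian ⟨V, hV⟩
    have e1 := hy.pr_eq hV hwV c (by simp; omega) hly
    have e2 := hy'.pr_eq hV hwV c (by simp; omega) hl'
    rw [killed_succ hm] at e2
    have hsup : c.pr y' hl' = c.pr y hly ⊔ Ideal.span {MvPolynomial.X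
        (⟨⟨m, by omega⟩, fun e => by simp [Fin.ext_iff] at e; omega⟩ : {i : Fin (n + 1) // i ≠ Fin.last n})} := by
      rw [e1, e2, Qs_insert]
    rcases eq_or_eq_of_sup_span hsup a1 a2 with e | e
    · exact Or.inl (((c.specializes_iff _ _ hlz hly).2 e.le).antisymm h1).eq
    · exact Or.inr (h2.antisymm ((c.specializes_iff _ _ hl' hlz).2 e.ge)).eq

theorem bijective_residueFieldMap_of_section {S : Scheme.{u}} (σ : S ⟶ P) [IsOpenImmersion (σ ≫ p)] (t : S) :
    Function.Bijective (p.residueFieldMap (σ t)).hom := by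
  have h : (σ ≫ p).residueFieldMap t = p.residueFieldMap (σ t) ≫ σ.residueFieldMap t :=
    Scheme.residueFieldMap_comp σ p t
  have hb : Function.Bijective ((σ ≫ p).residueFieldMap t).hom :=
    ConcreteCategory.bijective_of_isIso ((σ ≫ p).residueFieldMap t)
  rw [h] at hb
  refine ⟨(p.residueFieldMap (σ t)).hom.injective, fun a => ?_⟩
  obtain ⟨c, hc⟩ := hb.2 ((σ.residueFieldMap t).hom a)
  exact ⟨c, (σ.residueFieldMap t).hom.injective hc⟩

include hV hwV hPB hb in
/-- The last linear subspace is a rational point of the fibre. -/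
theorem linPt_last_rational {y : P} (hy : IsLinPt p q b w n y) :
    Function.Bijective (p.residueFieldMap y).hom := by
  obtain ⟨c⟩ := nonempty_cData hPB hb hV (Fin.last n)
  let ψ : Γ(P, locus p q b (Fin.last n)) ⟶ Γ(X, V) :=
    CommRingCat.ofHom ((MvPolynomial.eval (0 : {i : Fin (n + 1) // i ≠ Fin.last n} → Γ(X, V))).comp
      c.θ.symm.toRingHom)
  let σ : Spec Γ(X, V) ⟶ P := Spec.map ψ ≫ c.aff.fromSpec
  have hle := Groth.L19.ProjBdl.locus_le p q b (Fin.last n)
  have hσ : σ ≫ p = hV.fromSpec := by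
    have h1 : p.appLE V (locus p q b (Fin.last n)) hle ≫ ψ = 𝟙 _ := by
      refine CommRingCat.hom_ext (RingHom.ext fun a => ?_)
      show MvPolynomial.eval 0 (c.θ.symm (p.appLE V (locus p q b (Fin.last n)) hle a)) = a
      rw [← c.θ_C, RingEquiv.symm_apply_apply, MvPolynomial.eval_C]
    rw [Category.assoc, ← IsAffineOpen.SpecMap_appLE_fromSpec p hV c.aff hle, ← Spec.map_comp_assoc, h1,
      Spec.map_id, Category.id_comp]
  haveI : IsOpenImmersion (σ ≫ p) := by rw [hσ]; infer_instance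
  let t := hV.primeIdealOf ⟨w, hwV⟩
  have hmem : σ t ∈ locus p q b (Fin.last n) := c.aff.range_fromSpec.le ⟨Spec.map ψ t, rfl⟩
  have hprime : c.aff.primeIdealOf ⟨σ t, hmem⟩ = Spec.map ψ t :=
    c.aff.fromSpec.isOpenEmbedding.injective (c.aff.fromSpec_primeIdealOf _)
  have hpr : c.pr (σ t) hmem = Qs (basePrime hV hwV) (killed n (Fin.last n)) := by
    have hu : killed n (Fin.last n) = Set.univ := Set.eq_univ_of_forall fun i => by
      have := i.2
      simp [Fin.ext_iff] at this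
      show (i.1 : ℕ) < n
      omega
    rw [c.pr_eq, hprime, hu, Qs_univ]
    refine Ideal.ext fun f => ?_
    show MvPolynomial.eval 0 (c.θ.symm (c.θ f)) ∈ t.asIdeal ↔ MvPolynomial.eval 0 f ∈ t.asIdeal
    rw [RingEquiv.symm_apply_apply]
  have hyl : y ∈ locus p q b (Fin.last n) := hy.mem_locus hV hwV hPB hb le_rfl (by simp)
  have e : y = σ t := by
    have h1 := hy.pr_eq hV hwV c (by simp) hyl
    exact (((c.specializes_iff _ _ hyl hmem).2 (h1.trans hpr.symm).le).antisymm
      ((c.specializes_iff _ _ hmem hyl).2 (hpr.trans h1.symm).le)).eq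
  subst e
  exact bijective_residueFieldMap_of_section σ t

include hV hwV hPB hb in
/-- The dimensions of the linear subspaces. -/
theorem delta_linPt [IsLocallyNoetherian X] {δ : X → ℤ} {δP : P → ℤ} (hdP : Cyc.IsDimFun P δP)
    (hδ : Cyc.DeltaCompat p δP δ) {m : ℕ} (hm : m ≤ n) {y : P} (hy : IsLinPt p q b w m y) :
    δP y + (m : ℤ) = δ w + (n : ℤ) := by
  induction hk : n - m generalizing m y with
  | zero =>
    obtain rfl : m = n := by omega
    obtain ⟨d, hd, hdy⟩ := hδ y
    letI := (p.residueFieldMap y).hom.toAlgebra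
    have hz : Algebra.trdeg (X.residueField (p y)) (P.residueField y) = 0 := by
      haveI : Algebra.IsAlgebraic (X.residueField (p y)) (P.residueField y) := ⟨fun z => by
        obtain ⟨a, rfl⟩ := (linPt_last_rational hV hwV hPB hb hy).2 z
        exact isAlgebraic_algebraMap a⟩
      exact trdeg_eq_zero
    rw [hz] at hd
    have : d = 0 := by exact_mod_cast hd.symm
    rw [hdy, this, hy.1.1]
    simp
  | succ k ih =>
    obtain ⟨y', hy', -⟩ := exists_linPt hV hwV hPB hb (m := m + 1) (by omega)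
    obtain ⟨h1, h2, h3⟩ := linPt_immediate hV hwV hPB hb (by omega) hy hy'
    have := ih (m := m + 1) (by omega) hy' (by omega)
    rw [(hdP y y' h1 h2).2 h3]
    push_cast at this
    linarith

end Groth.L22.Bundle
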