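import Groth.Agent.L22.Bundle.Fibre
import Groth.Agent.L22.Bundle.Indep

/-!
The classes `c₁(O(1))^i ∩ π^* α` span the Chow groups of a projective bundle.
-/

set_option autoImplicit false
set_option linter.style.haveILetI false
set_option backward.isDefEq.respectTransparency.types false
set_option backward.isDefEq.respectTransparency false

universe u

open CategoryTheory CategoryTheory.Limits AlgebraicGeometry TopologicalSpace Opposite

noncomputable section

namespace Groth.L22.C1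

theorem c1PowFun_const_mul {X : Scheme.{u}} {δ : X → ℤ} {L : X.Modules}
    (t : ℕ → (ξ : X) → Cyc.secFibre L ξ) (a : ℤ) (G : X → ℤ) :
    ∀ (m : ℕ) (x : X), Cyc.c1PowFun δ L t m (fun z => a * G z) x = a * Cyc.c1PowFun δ L t m G x := by
  intro m
  induction m with
  | zero => exact fun x => rfl
  | succ m ih =>
    intro x
    show Cyc.c1CapFun δ L (Cyc.c1PowFun δ L t m fun z => a * G z) (t m) x = _
    rw [show (Cyc.c1PowFun δ L t m fun z => a * G z) = fun z => a * Cyc.c1PowFun δ L t m G z from funext ih,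
      c1CapFun_const_mul]
    rfl

/-- Rationally trivial cycles are cycles of that dimension. -/
theorem ratEquivZero_mem_Zk {X : Scheme.{u}} {δ : X → ℤ} {k : ℤ} {R : AlgebraicCycle X ℤ}
    (h : Cyc.RatEquivZero δ k R) : R ∈ Cyc.Zk X δ k := by
  obtain ⟨ι, ξ, f, h1, -, -, h4⟩ := h
  intro x hx
  by_contra hne
  rw [h4 x] at hne
  obtain ⟨i, hi⟩ := exists_ne_zero_of_finsum hne
  obtain ⟨-, hd⟩ := divFun_ne_zero hi
  have := h1 i
  omega

end Groth.L22.C1

namespace Groth.L22.Bundle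

open Groth.L19.ProjBdl (IsBasisOn locus)
open Groth.L22.C1 (c1PowFun_ne_zero RatOn)

variable {X P : Scheme.{u}} {p : P ⟶ X} {F : X.Modules} {O1 : P.Modules}
  {q : (Scheme.Modules.pullback p).obj F ⟶ O1} {n : ℕ}

theorem fibRat_of_ratOn {δ : P → ℤ} [QuasiCompact p] {k : ℤ} {S : Set P} {G : P → ℤ} {w : X}
    (hS : ∀ ξ ∈ S, ∀ x, ξ ⤳ x → p x = w → p ξ = w) (h : RatOn δ k S G) : FibRat p δ w k G := by
  classical
  obtain ⟨ι, ξ, f, h1, h2, h3, h4, h5⟩ := h
  choose U hU hxU hfin using h4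
  obtain ⟨T, hT⟩ := (p.isCompact_preimage_singleton w).elim_finite_subcover U hU
    (fun x _ => Set.mem_iUnion.2 ⟨x, hxU x⟩)
  have hI : {i | ∃ x, p x = w ∧ ξ i ⤳ x}.Finite := by
    refine (T.finite_toSet.biUnion fun x _ => hfin x).subset fun i hi => ?_
    obtain ⟨x, hx, hsp⟩ := hi
    obtain ⟨x₀, hx₀, hxU₀⟩ := Set.mem_iUnion₂.1 (hT hx)
    exact Set.mem_biUnion hx₀ ⟨x, specializes_iff_mem_closure.1 hsp, hxU₀⟩
  haveI : Fintype {i | ∃ x, p x = w ∧ ξ i ⤳ x} := hI.fintype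
  refine ⟨{i | ∃ x, p x = w ∧ ξ i ⤳ x}, inferInstance, fun i => ξ i.1, fun i => f i.1,
    fun i => ⟨h1 _, h2 _, ?_⟩, fun x hx => ?_⟩
  · obtain ⟨x, hx, hsp⟩ := i.2
    exact hS _ (h3 _) x hsp hx
  · rw [h5 x, finsum_eq_sum_of_support_subset (s := hI.toFinset) _ fun i hi =>
      Finset.mem_coe.2 (hI.mem_toFinset.2 ⟨x, hx, (Groth.L22.C1.divFun_ne_zero hi).1⟩)]
    exact Finset.sum_subtype _ (fun i => hI.mem_toFinset) _

variable (hPB : KRR.IsProjBundle p F O1 q) (hF : FlatMod.IsFinLocFreeOfRank (n + 1) F)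
  [IsLocallyNoetherian X] [IsLocallyNoetherian P] {δ : X → ℤ} (hdX : Cyc.IsDimFun X δ)
  {δP : P → ℤ} (hdP : Cyc.IsDimFun P δP) (hδ : Cyc.DeltaCompat p δP δ) (hL : PicF.IsInvertible O1)

include hdX in
theorem eq_of_specializes_of_delta {x w : X} (h : x ⤳ w) (hd : δ x ≤ δ w) : x = w := by
  by_contra e
  have := (hdX x w h e).1
  omega

omit [IsLocallyNoetherian X] in
theorem exists_cycle_pt (w : X) : ∃ A : AlgebraicCycle X ℤ, ⇑A = pt w :=
  Groth.L22.C1.exists_cycle _ fun x => ⟨⊤, trivial, (Set.finite_singleton w).subset fun z hz => by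
    by_contra e
    exact hz.1 (pt_ne e)⟩

include hPB hF hdX hdP hδ hL in
/-- The cap of the pullback of a point, compared with a linear subspace. -/
theorem fibRat_cap_sub [QuasiCompact p] {V : X.Opens} {b : Fin (n + 1) → Γ(F, V)} (hV : IsAffineOpen V)
    (hb : IsBasisOn F V b) {w : X} (hwV : w ∈ V) (t : ℕ → (ξ : P) → Cyc.secFibre O1 ξ)
    (ht : ∀ m ξ, t m ξ ≠ 0) {c : ℕ} (hc : c ≤ n) {y : P} (hy : IsLinPt p q b w c y) :
    FibRat p δP w (δ w + n - c)
      (fun x => Cyc.c1PowFun δP O1 t c (Cyc.pullFun p δP δ (n : ℤ) (pt w)) x - pt y x) := by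
  obtain ⟨A, hA⟩ := exists_cycle_pt w
  obtain ⟨A', hA'⟩ := exists_cycle_pullFun hPB hF hdP hδ A
  rw [hA] at hA'
  have hw : ∀ x, pt w x ≠ 0 → x = w := fun x hx => by
    by_contra e
    exact hx (pt_ne e)
  let S : Set P := {x | p x ∈ closure ({w} : Set X)}
  have hS : ∀ z z', z ∈ S → z ⤳ z' → z' ∈ S := fun z z' hz hsp =>
    (hsp.map p.continuous).mem_closed isClosed_closure hz
  have hA'S : ∀ z, A' z ≠ 0 → z ∈ S := fun z hz => by
    rw [hA'] at hz
    show p z ∈ closure ({w} : Set X)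
    rw [hw _ (pullFun_ne_zero hz).1]
    exact subset_closure rfl
  have hA'k : A' ∈ Cyc.Zk P δP (δ w + (n : ℤ)) := fun z hz => by
    by_contra h
    rw [hA'] at h
    obtain ⟨h1, h2⟩ := pullFun_ne_zero h
    exact hz (by rw [h2, hw _ h1])
  have h := Groth.L22.C1.ratOn_c1Pow_change hdP hL hS _ A' hA'k hA'S t (coordSec b q t) ht
    (coordSec_ne_zero hL b t ht) c
  refine (fibRat_of_ratOn (fun ξ hξ x hsp hx => ?_) h).congr fun x hx => ?_
  · have h1 : p ξ ⤳ w := hx ▸ hsp.map p.continuous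
    exact (h1.antisymm (specializes_iff_mem_closure.2 hξ)).eq
  · have hc1 := c1Pow_coord hPB hdX hdP hδ hL hV hb hwV (f := pt w) (k := δ w)
      (fun z hz => by rw [hw z hz]) rfl t c hc y hy x hx
    rw [hA']
    by_cases e : x = y
    · subst e; rw [hc1.1 rfl, pt_self, pt_self]
    · rw [hc1.2 e, pt_ne e]

include hPB hF hdX hdP hδ hL in
/-- Over a point of top dimension only the coefficient of that point is seen. -/
theorem c1Pow_pull_fibre {d : ℤ} (α : AlgebraicCycle X ℤ) (hα : α ∈ Cyc.Zk X δ d) {w : X} (hw : δ w = d)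
    (t : ℕ → (ξ : P) → Cyc.secFibre O1 ξ) (ht : ∀ m ξ, t m ξ ≠ 0) (c : ℕ) {x : P} (hx : p x = w) :
    Cyc.c1PowFun δP O1 t c (Cyc.pullFun p δP δ (n : ℤ) ⇑α) x =
      α w * Cyc.c1PowFun δP O1 t c (Cyc.pullFun p δP δ (n : ℤ) (pt w)) x := by
  classical
  obtain ⟨A, hA⟩ := Groth.L22.C1.exists_cycle (fun z => α w * pt w z) fun z =>
    ⟨(⊤ : X.Opens), trivial, (Set.finite_singleton w).subset fun v hv => by
      by_contra e
      exact hv.1 (by show α w * pt w v = 0; rw [pt_ne e, mul_zero])⟩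
  obtain ⟨R, hR⟩ : ∃ R : AlgebraicCycle X ℤ, ∀ z, R z = α z - α w * pt w z :=
    ⟨α - A, fun z => by rw [Function.locallyFinsuppWithin.coe_sub, Pi.sub_apply, hA]⟩
  obtain ⟨A', hA'⟩ := exists_cycle_pullFun hPB hF hdP hδ A
  obtain ⟨R', hR'⟩ := exists_cycle_pullFun hPB hF hdP hδ R
  obtain ⟨α', hα'⟩ := exists_cycle_pullFun hPB hF hdP hδ α
  have hsum : ∀ z, α' z = ∑ i : Bool, (if i then A' else R') z := fun z => by
    rw [Fintype.sum_bool, if_pos rfl, if_neg (by decide), hA', hR', hα']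
    simp only [Cyc.pullFun]
    split_ifs
    · rw [hA, hR]; ring
    · ring
  have h := Groth.L22.C1.c1PowFun_finset_sum hdP hL Finset.univ _ α' hsum t ht c x
  rw [Fintype.sum_bool, if_pos rfl, if_neg (by decide), hA', hR', hα'] at h
  rw [h]
  have hR0 : Cyc.c1PowFun δP O1 t c (Cyc.pullFun p δP δ (n : ℤ) ⇑R) x = 0 := by
    by_contra hne
    have hRd : ∀ z, R z ≠ 0 → δ z = d ∧ z ≠ w := fun z hz => by
      rw [hR] at hz
      refine ⟨not_not.1 fun e => ?_, fun e => hz (by rw [e, pt_self]; ring)⟩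
      rw [hα z e, pt_ne (fun e' => e (by rw [e', hw]))] at hz
      exact hz (by ring)
    obtain ⟨-, -, v, hv, hvd, hsp⟩ := below hdX (fun z hz => (hRd z hz).1) t hne
    rw [hx] at hsp
    exact (hRd v hv).2 (eq_of_specializes_of_delta hdX hsp (by rw [hvd, hw]))
  rw [hR0, add_zero]
  have e : Cyc.pullFun p δP δ (n : ℤ) ⇑A = fun z => α w * Cyc.pullFun p δP δ (n : ℤ) (pt w) z := funext fun z => by
    simp only [Cyc.pullFun]
    split_ifs
    · rw [hA]; ring
    · ring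
  rw [e, Groth.L22.C1.c1PowFun_const_mul]

include hPB hF hdX hdP hδ in
theorem delta_le_fibre (z : P) : δP z ≤ δ (p z) + (n : ℤ) := by
  obtain ⟨V, b, hV, hzV, hb⟩ := exists_triv hF (p z)
  obtain ⟨y, hy, -⟩ := exists_linPt (p := p) (q := q) (b := b) hV hzV hPB hb (Nat.zero_le n)
  have hd := delta_linPt hV hzV hPB hb hdP hδ (Nat.zero_le n) hy
  have hsp : y ⤳ z := hy.2 z ⟨rfl, fun i hi => absurd hi (Nat.not_lt_zero _)⟩
  by_cases e : y = z
  · rw [← e, hy.1.1]; omega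
  · have := (hdP y z hsp e).1; omega

include hPB hF hdX hdP hδ hL in
/-- One step: clear the points over the top dimension. -/
theorem span_step [QuasiCompact p] {k : ℤ} {c : ℕ} (hc : c ≤ n) (β : AlgebraicCycle P ℤ)
    (hβ : β ∈ Cyc.Zk P δP (k + n)) (hsupp : ∀ z, β z ≠ 0 → δ (p z) ≤ k + c)
    (t : ℕ → (ξ : P) → Cyc.secFibre O1 ξ) (ht : ∀ m ξ, t m ξ ≠ 0) :
    ∃ (α : AlgebraicCycle X ℤ) (G R : AlgebraicCycle P ℤ), α ∈ Cyc.Zk X δ (k + c) ∧
      ⇑G = Cyc.c1PowFun δP O1 t c (Cyc.pullFun p δP δ (n : ℤ) ⇑α) ∧ Cyc.RatEquivZero δP (k + n) R ∧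
      ∀ z, (β - G - R) z ≠ 0 → δ (p z) < k + c := by
  classical
  let I := {z : P // β z ≠ 0 ∧ δ (p z) = k + c}
  let Φ : X → P → ℤ := fun w => Cyc.c1PowFun δP O1 t c (Cyc.pullFun p δP δ (n : ℤ) (pt w))
  have hcls : ∀ z : I, ∃ e : ℤ, FibRat p δP (p z.1) (k + n) (fun x => pt z.1 x - e * Φ (p z.1) x) := by
    intro z
    obtain ⟨V, b, hV, hzV, hb⟩ := exists_triv hF (p z.1)
    obtain ⟨y, hy, -⟩ := exists_linPt (p := p) (q := q) (b := b) hV hzV hPB hb hc
    have hdz : δP z.1 = k + n := not_not.1 fun e => z.2.1 (hβ _ e)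
    obtain ⟨e, he⟩ := fibre_class hV hzV hPB hb hdX hdP hδ (Nat.zero_le n) z.1
      ⟨rfl, fun i hi => absurd hi (Nat.not_lt_zero _)⟩ c (by rw [hdz, z.2.2]; ring) y hy
    rw [hdz] at he
    have h2 := fibRat_cap_sub hPB hF hdX hdP hδ hL hV hb hzV t ht hc hy
    rw [z.2.2, show k + (c : ℤ) + n - c = k + n by ring] at h2
    refine ⟨e, (he.add (h2.zsmul hdP (-e))).congr fun x _ => ?_⟩
    ring
  choose e he using hcls
  choose ι hι ξ f h1 h2 using he
  have hVfin : ∀ x : X, ∃ V : Set X, IsOpen V ∧ x ∈ V ∧ {z : I | p z.1 ∈ V}.Finite := fun x => by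
    obtain ⟨V, hV, hxV, -⟩ := exists_isAffineOpen_mem_and_subset (x := x) (U := ⊤) trivial
    exact ⟨V, V.2, hxV, ((β.locallyFiniteSupport.finite_inter_support_of_isCompact
      (p.isCompact_preimage hV.isCompact)).preimage Subtype.val_injective.injOn).subset
        fun z hz => ⟨hz, z.2.1⟩⟩
  choose V hVo hxV hVf using hVfin
  -- the cycle on the base
  let αF : X → ℤ := fun w => ∑ᶠ z : I, if p z.1 = w then β z.1 * e z else 0
  have hαF : ∀ w, αF w ≠ 0 → ∃ z : I, p z.1 = w := fun w hw => by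
    obtain ⟨z, hz⟩ := Groth.L22.C1.exists_ne_zero_of_finsum hw
    exact ⟨z, by_contra fun h => hz (if_neg h)⟩
  obtain ⟨α, hα⟩ := Groth.L22.C1.exists_cycle αF fun x => ⟨⟨V x, hVo x⟩, hxV x,
    ((hVf x).image fun z : I => p z.1).subset fun w hw => by
      obtain ⟨z, hz⟩ := hαF w hw.1
      exact ⟨z, show p z.1 ∈ V x from hz ▸ hw.2, hz⟩⟩
  have hαk : α ∈ Cyc.Zk X δ (k + c) := fun w hw => by
    by_contra h
    rw [hα] at h
    obtain ⟨z, hz⟩ := hαF w h
    exact hw (hz ▸ z.2.2)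
  obtain ⟨α', hα'⟩ := exists_cycle_pullFun hPB hF hdP hδ α
  obtain ⟨G, hG⟩ := Groth.L22.C1.exists_cycle_c1Pow hdP hL t ht α' c
  rw [hα'] at hG
  -- the rational equivalence
  let RF : P → ℤ := fun x => ∑ᶠ a : Σ z : I, ι z, Cyc.divFun δP (ξ a.1 a.2) (f a.1 a.2 ^ β a.1.1) x
  have hloc : ∀ x : P, ∃ U : Set P, IsOpen U ∧ x ∈ U ∧
      {a : Σ z : I, ι z | (closure {ξ a.1 a.2} ∩ U).Nonempty}.Finite := fun x => by
    refine ⟨p ⁻¹' V (p x), (hVo _).preimage p.continuous, hxV _,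
      ((hVf (p x)).biUnion fun z _ => ((haveI := hι z; Set.finite_univ (α := ι z))).image (Sigma.mk z)).subset
        fun a ha => ?_⟩
    obtain ⟨v, hv, hvV⟩ := ha
    have : ξ a.1 a.2 ∈ p ⁻¹' V (p x) :=
      (specializes_iff_mem_closure.2 hv).mem_open ((hVo _).preimage p.continuous) hvV
    rw [Set.mem_preimage, (h1 a.1 a.2).2.2] at this
    exact Set.mem_biUnion (x := a.1) this ⟨a.2, trivial, rfl⟩
  obtain ⟨R, hR⟩ := Groth.L22.C1.exists_cycle RF fun x => by
    obtain ⟨U, hU, hxU, hfin⟩ := hloc x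
    obtain ⟨W, hW, hxW, hWU⟩ := exists_isAffineOpen_mem_and_subset (x := x) (U := ⟨U, hU⟩) hxU
    refine ⟨W, hxW, (hfin.biUnion fun a _ => Groth.L22.Cyc.finite_support_divFun_inter_compact hdP (ξ a.1 a.2)
      (f a.1 a.2 ^ β a.1.1) (zpow_ne_zero _ (h1 a.1 a.2).2.1) hW.isCompact).subset fun v hv => ?_⟩
    obtain ⟨a, ha⟩ := Groth.L22.C1.exists_ne_zero_of_finsum hv.1
    exact Set.mem_biUnion (x := a)
      ⟨v, specializes_iff_mem_closure.1 (Groth.L22.C1.divFun_ne_zero ha).1, hWU hv.2⟩ ⟨ha, hv.2⟩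
  have hR0 : Cyc.RatEquivZero δP (k + n) R :=
    ⟨Σ z : I, ι z, fun a => ξ a.1 a.2, fun a => f a.1 a.2 ^ β a.1.1, fun a => (h1 a.1 a.2).1,
      fun a => zpow_ne_zero _ (h1 a.1 a.2).2.1, hloc, fun x => by rw [hR]⟩
  refine ⟨α, G, R, hαk, hG, hR0, fun z hz => ?_⟩
  by_contra hge
  rw [not_lt] at hge
  refine hz ?_
  rw [Function.locallyFinsuppWithin.coe_sub, Pi.sub_apply, Function.locallyFinsuppWithin.coe_sub, Pi.sub_apply]
  rcases lt_or_eq_of_le hge with hlt | heq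
  · rw [show β z = 0 from by_contra fun h => absurd (hsupp z h) (by omega), hG, hR]
    have hG0 : Cyc.c1PowFun δP O1 t c (Cyc.pullFun p δP δ (n : ℤ) ⇑α) z = 0 := by
      by_contra h
      have := (below hdX (fun x hx => not_not.1 fun e' => hx (hαk x e')) t h).2.1
      omega
    have hRz : RF z = 0 := finsum_eq_zero_of_forall_eq_zero fun a => by
      by_contra h
      have hsp := (Groth.L22.C1.divFun_ne_zero h).1.map p.continuous
      rw [(h1 a.1 a.2).2.2] at hsp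
      by_cases e' : p a.1.1 = p z
      · have := a.1.2.2; rw [e'] at this; omega
      · have h3 := (hdX _ _ hsp e').1
        have := a.1.2.2
        omega
    rw [hG0, hRz]
    ring
  · let w := p z
    let J : Finset I := (hVf w).toFinset.filter fun a => p a.1 = w
    have hJ : ∀ a : I, p a.1 = w → a ∈ J := fun a ha =>
      Finset.mem_filter.2 ⟨(hVf w).mem_toFinset.2 (show p a.1 ∈ V w from ha ▸ hxV w), ha⟩
    have hJw : ∀ a ∈ J, p a.1 = w := fun a ha => (Finset.mem_filter.1 ha).2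
    have hαw : α w = ∑ a ∈ J, β a.1 * e a := by
      rw [hα]
      refine (finsum_eq_sum_of_support_subset _ fun a ha => ?_).trans
        (Finset.sum_congr rfl fun a ha => if_pos (hJw a ha))
      exact Finset.mem_coe.2 (hJ a (by_contra fun h => ha (if_neg h)))
    have hGz : G z = α w * Φ w z := by
      rw [hG]
      exact c1Pow_pull_fibre hPB hF hdX hdP hδ hL α hαk heq.symm t ht c rfl
    have hsum : ∀ a ∈ J, ∑ i : ι a, Cyc.divFun δP (ξ a i) (f a i ^ β a.1) z =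
        β a.1 * (pt a.1 z - e a * Φ w z) := fun a ha => by
      have h3 : pt a.1 z - e a * Φ (p a.1) z = ∑ i : ι a, Cyc.divFun δP (ξ a i) (f a i) z :=
        h2 a z (hJw a ha).symm
      rw [show Φ w = Φ (p a.1) by rw [hJw a ha], h3, Finset.mul_sum]
      exact Finset.sum_congr rfl fun i _ => Groth.L22.C1.divFun_zpow hdP _ (h1 a i).2.1 z _
    have hRz : R z = ∑ a ∈ J, β a.1 * (pt a.1 z - e a * Φ w z) := by
      rw [hR, ← Finset.sum_congr rfl hsum, Finset.sum_sigma' J (fun _ => Finset.univ)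
        fun a i => Cyc.divFun δP (ξ a i) (f a i ^ β a.1) z]
      refine finsum_eq_sum_of_support_subset _ fun a ha => Finset.mem_coe.2 ?_
      rw [Finset.mem_sigma]
      refine ⟨hJ _ ?_, Finset.mem_univ _⟩
      have hsp := (Groth.L22.C1.divFun_ne_zero ha).1.map p.continuous
      rw [(h1 a.1 a.2).2.2] at hsp
      exact eq_of_specializes_of_delta hdX hsp (by rw [a.1.2.2]; omega)
    have hβz : β z = ∑ a ∈ J, β a.1 * pt a.1 z := by
      by_cases h0 : β z = 0
      · rw [h0, Finset.sum_eq_zero fun a _ => ?_]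
        by_cases e' : z = a.1
        · rw [← e', h0, zero_mul]
        · rw [pt_ne e', mul_zero]
      · rw [Finset.sum_eq_single ⟨z, h0, heq.symm⟩ (fun a _ ha => by
            rw [pt_ne fun e' => ha (Subtype.ext e'.symm), mul_zero]) (fun h => absurd (hJ _ rfl) h), pt_self,
          mul_one]
    rw [hGz, hRz, hαw, hβz]
    simp only [mul_sub, Finset.sum_sub_distrib, Finset.sum_mul, mul_assoc]
    ring

include hPB hF hdX hdP hδ hL in
/-- Every class is a combination of the `c₁^i ∩ π^* αᵢ`. -/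
theorem span [QuasiCompact p] (k : ℤ) (t : Fin (n + 1) → ℕ → (ξ : P) → Cyc.secFibre O1 ξ)
    (ht : ∀ i m ξ, t i m ξ ≠ 0) (β : AlgebraicCycle P ℤ) (hβ : β ∈ Cyc.Zk P δP (k + n)) :
    ∃ (α : Fin (n + 1) → AlgebraicCycle X ℤ) (β' : AlgebraicCycle P ℤ),
      (∀ i : Fin (n + 1), α i ∈ Cyc.Zk X δ (k + ((i : ℕ) : ℤ))) ∧
      (∀ z, β' z = ∑ i, Cyc.c1PowFun δP O1 (t i) (i : ℕ) (Cyc.pullFun p δP δ (n : ℤ) ⇑(α i)) z) ∧
      Cyc.RatEquiv δP (k + n) β β' := by
  classical
  suffices ∀ m : ℕ, m ≤ n + 1 → ∀ B : AlgebraicCycle P ℤ, B ∈ Cyc.Zk P δP (k + n) →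
      (∀ z, B z ≠ 0 → δ (p z) < k + m) → ∃ (α : Fin (n + 1) → AlgebraicCycle X ℤ) (β' : AlgebraicCycle P ℤ),
        (∀ i : Fin (n + 1), α i ∈ Cyc.Zk X δ (k + ((i : ℕ) : ℤ))) ∧
        (∀ i : Fin (n + 1), m ≤ (i : ℕ) → α i = 0) ∧
        (∀ z, β' z = ∑ i, Cyc.c1PowFun δP O1 (t i) (i : ℕ) (Cyc.pullFun p δP δ (n : ℤ) ⇑(α i)) z) ∧
        Cyc.RatEquiv δP (k + n) B β' by
    obtain ⟨α, β', a1, -, a3, a4⟩ := this (n + 1) le_rfl β hβ fun z hz => by
      obtain ⟨d, -, hd⟩ := hδ z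
      have : δP z = k + n := not_not.1 fun e => hz (hβ z e)
      push_cast
      omega
    exact ⟨α, β', a1, a3, a4⟩
  have hz0 : ∀ (t' : ℕ → (ξ : P) → Cyc.secFibre O1 ξ) (m : ℕ) (z : P),
      Cyc.c1PowFun δP O1 t' m (Cyc.pullFun p δP δ (n : ℤ) ⇑(0 : AlgebraicCycle X ℤ)) z = 0 := fun t' m z => by
    by_contra h
    obtain ⟨η, hη, -⟩ := c1PowFun_ne_zero t' m _ z h
    exact (pullFun_ne_zero hη).1 rfl
  intro m
  induction m with
  | zero =>
    intro _ B hB hs
    refine ⟨fun _ => 0, 0, fun i x _ => rfl, fun i _ => rfl,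
      fun z => by rw [Finset.sum_eq_zero fun i _ => hz0 _ _ z]; rfl, ?_⟩
    have hB0 : B = 0 := Function.locallyFinsuppWithin.ext fun z => by
      by_contra h
      have := delta_le_fibre hPB hF hdX hdP hδ z
      have := hs z h
      have : δP z = k + n := not_not.1 fun e => h (hB z e)
      push_cast at *
      omega
    rw [hB0, Cyc.RatEquiv, sub_zero]
    exact (Groth.L22.C1.ratOn_zero (S := Set.univ) fun _ => rfl).ratEquivZero _ rfl
  | succ c ih =>
    intro hc B hB hs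
    let ic : Fin (n + 1) := ⟨c, by omega⟩
    obtain ⟨α₀, G, R, hα₀, hG, hR, hlow⟩ := span_step hPB hF hdX hdP hδ hL (k := k) (c := c) (by omega) B hB
      (fun z hz => by have := hs z hz; push_cast at this; omega) (t ic) (ht ic)
    have hGk : G ∈ Cyc.Zk P δP (k + n) := fun z hz => by
      by_contra h
      rw [hG] at h
      have := (below hdX (fun x hx => not_not.1 fun e => hx (hα₀ x e)) (t ic) h).1
      omega
    have hB' : B - G - R ∈ Cyc.Zk P δP (k + n) := fun z hz => by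
      rw [Function.locallyFinsuppWithin.coe_sub, Pi.sub_apply, Function.locallyFinsuppWithin.coe_sub,
        Pi.sub_apply, hB z hz, hGk z hz, Groth.L22.C1.ratEquivZero_mem_Zk hR z hz]
      ring
    obtain ⟨α, β', a1, a2, a3, a4⟩ := ih (by omega) (B - G - R) hB' hlow
    refine ⟨Function.update α ic α₀, β' + G, fun i => ?_, fun i hi => ?_, fun z => ?_, ?_⟩
    · by_cases e : i = ic
      · subst e; rw [Function.update_self]; exact hα₀
      · rw [Function.update_of_ne e]; exact a1 i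
    · have hne : i ≠ ic := fun e => absurd hi (by rw [e]; show ¬ c + 1 ≤ c; omega)
      rw [Function.update_of_ne hne]
      exact a2 i (by omega)
    · rw [Function.locallyFinsuppWithin.coe_add, Pi.add_apply, a3 z, hG,
        ← Finset.add_sum_erase _ _ (Finset.mem_univ ic), ← Finset.add_sum_erase _ _ (Finset.mem_univ ic),
        Function.update_self, a2 ic le_rfl, hz0,
        Finset.sum_congr (g := fun i : Fin (n + 1) =>
          Cyc.c1PowFun δP O1 (t i) (i : ℕ) (Cyc.pullFun p δP δ (n : ℤ) ⇑(Function.update α ic α₀ i)) z)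
          rfl fun i hi => by rw [Function.update_of_ne (Finset.ne_of_mem_erase hi)]]
      ring
    · show Cyc.RatEquivZero δP (k + n) (B - (β' + G))
      rw [show B - (β' + G) = B - G - R - β' + R by abel]
      exact Groth.L22.C1.ratEquivZero_add _ a4 hR

end Groth.L22.Bundle
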