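import Groth.Agent.L22.Bundle.Lin
import Groth.Agent.L22.C1.Basic

/-!
Capping coordinate linear subspaces with coordinate sections.
-/

set_option autoImplicit false
set_option linter.style.haveILetI false
set_option backward.isDefEq.respectTransparency.types false
set_option backward.isDefEq.respectTransparency false

universe u

open CategoryTheory CategoryTheory.Limits AlgebraicGeometry TopologicalSpace Opposite

noncomputable section

namespace Groth.L22.Bundle

open Groth.L19.ProjBdl (IsBasisOn locus crd sec ratio Acrd)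
open Groth.L18.Frame (rs)
open Groth.L22.C1 (IsGen mk isGen_germ mk_gen_ne_zero secOrdAt_gen)

variable {X P : Scheme.{u}} {p : P ⟶ X} {F : X.Modules} {O1 : P.Modules}
  {q : (Scheme.Modules.pullback p).obj F ⟶ O1} {V : X.Opens} {n : ℕ} {b : Fin (n + 1) → Γ(F, V)} {w : X}

theorem length_quot_maximal (R : Type u) [CommRing R] (M : Ideal R) [M.IsMaximal] :
    Module.length R (R ⧸ M) = 1 := by
  haveI : IsSimpleModule R (R ⧸ M) := isSimpleModule_iff_isCoatom.2 (Ideal.isMaximal_def.1 ‹_›)
  exact Module.length_eq_one R _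

variable (hV : IsAffineOpen V) (hwV : w ∈ V) (hPB : KRR.IsProjBundle p F O1 q) (hb : IsBasisOn F V b)

include hV hwV hPB hb in
/-- The fibre is reduced at its generic point. -/
theorem linPt_zero_maximal {y : P} (hy : IsLinPt p q b w 0 y) :
    (IsLocalRing.maximalIdeal (X.presheaf.stalk (p y))).map (p.stalkMap y).hom =
      IsLocalRing.maximalIdeal (P.presheaf.stalk y) := by
  refine le_antisymm (Ideal.map_le_iff_le_comap.2 fun a ha => ?_) ?_
  · show p.stalkMap y a ∈ IsLocalRing.maximalIdeal _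
    rw [IsLocalRing.mem_maximalIdeal, mem_nonunits_iff] at ha ⊢
    exact fun hu => ha ((isUnit_map_iff (p.stalkMap y).hom a).1 hu)
  · obtain ⟨c⟩ := nonempty_cData hPB hb hV (Fin.last n)
    have hyl : y ∈ locus p q b (Fin.last n) := hy.mem_locus hV hwV hPB hb (Nat.zero_le n) (Nat.zero_le _)
    rw [c.maximalIdeal_eq y hyl, hy.pr_eq hV hwV c (Nat.zero_le _) hyl,
      show killed 0 (Fin.last n) = (∅ : Set _) from Set.eq_empty_of_forall_notMem fun i h => Nat.not_lt_zero _ h,
      Qs_empty, Ideal.map_map, Ideal.map_le_iff_le_comap]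
    intro a ha
    show c.g y hyl (MvPolynomial.C a) ∈
      (IsLocalRing.maximalIdeal (X.presheaf.stalk (p y))).map (p.stalkMap y).hom
    rw [c.g_C]
    refine Ideal.mem_map_of_mem _ ?_
    have hpy := hy.1.1
    subst hpy
    letI := X.presheaf.algebra_section_stalk (⟨p y, hwV⟩ : V)
    haveI : IsLocalization.AtPrime (X.presheaf.stalk (p y)) (hV.primeIdealOf ⟨p y, hwV⟩).asIdeal :=
      hV.isLocalization_stalk ⟨p y, hwV⟩
    have e := IsLocalization.AtPrime.map_eq_maximalIdeal (hV.primeIdealOf ⟨p y, hwV⟩).asIdeal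
      (X.presheaf.stalk (p y))
    exact e.le (Ideal.mem_map_of_mem _ ha)

include hV hwV hPB hb in
/-- The flat pullback of the base point. -/
theorem pullFun_point [IsLocallyNoetherian X] {δ : X → ℤ} {δP : P → ℤ} (hdP : Cyc.IsDimFun P δP)
    (hδ : Cyc.DeltaCompat p δP δ) (f : X → ℤ) {y₀ : P} (hy : IsLinPt p q b w 0 y₀) (z : P) (hz : p z = w) :
    (z = y₀ → Cyc.pullFun p δP δ (n : ℤ) f z = f w) ∧ (z ≠ y₀ → Cyc.pullFun p δP δ (n : ℤ) f z = 0) := by
  have h0 : δP y₀ = δ w + (n : ℤ) := by
    have := delta_linPt hV hwV hPB hb hdP hδ (Nat.zero_le n) hy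
    simpa using this
  refine ⟨fun e => ?_, fun hne => ?_⟩
  · subst e
    rw [Cyc.pullFun, if_pos (by rw [hz]; exact h0), linPt_zero_maximal hV hwV hPB hb hy,
      length_quot_maximal, hz]
    simp
  · rw [Cyc.pullFun, if_neg]
    intro hd
    have hspec : y₀ ⤳ z := hy.2 z ⟨hz, fun i hi => absurd hi (Nat.not_lt_zero _)⟩
    have := (hdP y₀ z hspec (Ne.symm hne)).1
    rw [hz] at hd
    omega

theorem germ_sec_rs {l : Fin (n + 1)} {z : P} (hz : z ∈ locus p q b l)
    (h : z ∈ p ⁻¹ᵁ V) :
    O1.presheaf.germ (locus p q b l) z hz (rs O1 (Groth.L19.ProjBdl.locus_le p q b l) (sec p q b l)) =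
      O1.presheaf.germ (p ⁻¹ᵁ V) z h (sec p q b l) :=
  TopCat.Presheaf.germ_res_apply O1.presheaf _ _ _ _

theorem germ_sec_crd {l : Fin (n + 1)} {z : P} (hz : z ∈ locus p q b l) (h : z ∈ p ⁻¹ᵁ V) (i : Fin (n + 1)) :
    O1.presheaf.germ (p ⁻¹ᵁ V) z h (sec p q b i) =
      P.presheaf.germ (locus p q b l) z hz (crd p q b l i) • O1.presheaf.germ (p ⁻¹ᵁ V) z h (sec p q b l) := by
  rw [← germ_sec_rs hz h, ← Groth.L20.ModStalk.germ_smul, Groth.L19.ProjBdl.crd_smul]
  exact (TopCat.Presheaf.germ_res_apply O1.presheaf _ _ _ _).symm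

theorem isGen_sec {l : Fin (n + 1)} {z : P} (hz : z ∈ locus p q b l) (h : z ∈ p ⁻¹ᵁ V) :
    IsGen O1 (O1.presheaf.germ (p ⁻¹ᵁ V) z h (sec p q b l)) := by
  rw [← germ_sec_rs hz h]
  exact isGen_germ (Groth.L19.ProjBdl.isFrame_locus p q b l) hz

include hV hwV hPB hb in
/-- The coordinate section has multiplicity one along the next linear subspace. -/
theorem secDivFun_linPt [IsLocallyNoetherian X] [IsLocallyNoetherian P] {δ : X → ℤ} {δP : P → ℤ}
    (hdP : Cyc.IsDimFun P δP) (hδ : Cyc.DeltaCompat p δP δ) (hL : PicF.IsInvertible O1) {m : ℕ} (hm : m < n)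
    {y y' : P} (hy : IsLinPt p q b w m y) (hy' : IsLinPt p q b w (m + 1) y') (hyV : y ∈ p ⁻¹ᵁ V) (z : P)
    (hz : p z = w) :
    (z = y' → Cyc.secDivFun δP O1 y
        (mk O1 (O1.presheaf.germ (p ⁻¹ᵁ V) y hyV (sec p q b (⟨m, by omega⟩ : Fin (n + 1))))) z = 1) ∧
      (z ≠ y' → Cyc.secDivFun δP O1 y
        (mk O1 (O1.presheaf.germ (p ⁻¹ᵁ V) y hyV (sec p q b (⟨m, by omega⟩ : Fin (n + 1))))) z = 0) := by
  let im : Fin (n + 1) := ⟨m, by omega⟩
  obtain ⟨hspec, hne, -⟩ := linPt_immediate hV hwV hPB hb hm hy hy'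
  have hd : δP y' + 1 = δP y := by
    have a := delta_linPt hV hwV hPB hb hdP hδ hm hy'
    have b' := delta_linPt hV hwV hPB hb hdP hδ hm.le hy
    push_cast at a
    linarith
  have hzV : z ∈ p ⁻¹ᵁ V := show p z ∈ V from hz ▸ hwV
  refine ⟨fun e => ?_, fun hne' => ?_⟩
  · subst e
    obtain ⟨c⟩ := nonempty_cData hPB hb hV (Fin.last n)
    have hzl : z ∈ locus p q b (Fin.last n) := hy'.mem_locus hV hwV hPB hb hm (by simp; omega)
    have hyl : y ∈ locus p q b (Fin.last n) := hy.mem_locus hV hwV hPB hb hm.le (by simp; omega)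
    let t := P.presheaf.germ (locus p q b (Fin.last n)) z hzl (crd p q b (Fin.last n) im)
    have hgen := isGen_sec hzl hzV
    have hs : mk O1 (O1.presheaf.germ (p ⁻¹ᵁ V) y hyV (sec p q b im)) =
        P.presheaf.stalkSpecializes hspec t • mk O1 (O1.presheaf.stalkSpecializes hspec
          (O1.presheaf.germ (p ⁻¹ᵁ V) z hzV (sec p q b (Fin.last n)))) := by
      rw [← Submodule.Quotient.mk_smul, ← Groth.L15.SecOrd.stalkSpecializes_smul,
        ← germ_sec_crd hzl hzV im, TopCat.Presheaf.germ_stalkSpecializes_apply]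
    rw [Cyc.secDivFun, dif_pos ⟨hspec, hd⟩, hs, secOrdAt_gen hdP hL hspec hd hgen,
      ← Groth.L22.Cyc.specMap_eq_residue]
    let K := RingHom.ker (Cyc.specMap z y hspec)
    have hker : (c.pr y hyl).map (c.g z hzl) ≤ K := by
      refine Ideal.map_le_iff_le_comap.2 fun f hf => ?_
      show Cyc.specMap z y hspec (c.g z hzl f) = 0
      rw [Groth.L22.Cyc.specMap_eq_residue]
      refine (IsLocalRing.residue_eq_zero_iff _).2 ?_
      show P.presheaf.stalkSpecializes hspec (P.presheaf.germ _ z hzl (c.θ f)) ∈ _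
      rw [TopCat.Presheaf.germ_stalkSpecializes_apply]
      exact hf
    have hy1 := hy.pr_eq hV hwV c (by simp; omega) hyl
    have hy2 := hy'.pr_eq hV hwV c (by simp; omega) hzl
    have hmax : IsLocalRing.maximalIdeal (P.presheaf.stalk z) ≤ K ⊔ Ideal.span {t} := by
      rw [c.maximalIdeal_eq z hzl, hy2, killed_succ hm, Qs_insert, ← hy1, Ideal.map_sup, Ideal.map_span,
        Set.image_singleton]
      refine sup_le (hker.trans le_sup_left) (le_sup_of_le_right (le_of_eq ?_))
      congr 2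
      rw [← Groth.L19.ProjBdl.ratio_ne V]
      exact congrArg (P.presheaf.germ _ z hzl) (c.θ_ratio im)
    have hlt : t ∈ IsLocalRing.maximalIdeal (P.presheaf.stalk z) := by
      have h1 : ratio V (Fin.last n) im ∈ c.pr z hzl := by
        by_contra h
        exact hy'.1.2 im (Nat.lt_succ_self m) ((c.mem_locus_iff z hzl im).2 h)
      have h2 : P.presheaf.germ _ z hzl (c.θ (ratio V (Fin.last n) im)) ∈
          IsLocalRing.maximalIdeal (P.presheaf.stalk z) := h1
      rwa [c.θ_ratio] at h2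
    have hK : K ≤ IsLocalRing.maximalIdeal (P.presheaf.stalk z) :=
      IsLocalRing.le_maximalIdeal (RingHom.ker_ne_top _)
    have heq : K ⊔ Ideal.span {t} = IsLocalRing.maximalIdeal (P.presheaf.stalk z) :=
      le_antisymm (sup_le hK ((Ideal.span_singleton_le_iff_mem _).2 hlt)) hmax
    have hnz : Cyc.specMap z y hspec t ≠ 0 := fun h0 => by
      rw [Groth.L22.Cyc.specMap_eq_residue] at h0
      replace h0 : P.presheaf.stalkSpecializes hspec (P.presheaf.germ _ z hzl (crd p q b (Fin.last n) im)) ∈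
          IsLocalRing.maximalIdeal (P.presheaf.stalk y) := (IsLocalRing.residue_eq_zero_iff _).1 h0
      rw [TopCat.Presheaf.germ_stalkSpecializes_apply] at h0
      have hym : y ∈ locus p q b im := hy.mem_locus hV hwV hPB hb hm.le le_rfl
      have h2 := (c.mem_locus_iff y hyl im).1 hym
      exact h2 (show P.presheaf.germ _ y hyl (c.θ (ratio V (Fin.last n) im)) ∈ _ by rw [c.θ_ratio]; exact h0)
    have hord := Groth.L22.Cyc.ordAt_div_gen hdP z y hspec hd (a := t) (b := 1) hnz
      (by rw [map_one]; exact one_ne_zero)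
    rw [map_one, div_one] at hord
    rw [hord, map_one, Ring.ord_one]
    have hone : Ring.ord (Cyc.LocQuot z y hspec) (Ideal.Quotient.mk K t) = 1 := by
      haveI : (Ideal.span {Ideal.Quotient.mk K t}).IsMaximal := by
        rw [show Ideal.span {Ideal.Quotient.mk K t} = (IsLocalRing.maximalIdeal (P.presheaf.stalk z)).map
          (Ideal.Quotient.mk K) from by
            rw [← heq, Ideal.map_sup, Ideal.map_quotient_self, bot_sup_eq, Ideal.map_span, Set.image_singleton]]
        refine (Ideal.map_eq_top_or_isMaximal_of_surjective (Ideal.Quotient.mk K) Ideal.Quotient.mk_surjective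
          (IsLocalRing.maximalIdeal.isMaximal _)).resolve_left fun h => ?_
        have h1 : (1 : P.presheaf.stalk z ⧸ K) ∈ (IsLocalRing.maximalIdeal (P.presheaf.stalk z)).map
            (Ideal.Quotient.mk K) := by rw [h]; trivial
        obtain ⟨a, ha, ha1⟩ := (Ideal.mem_map_iff_of_surjective (Ideal.Quotient.mk K)
          Ideal.Quotient.mk_surjective).1 h1
        replace ha1 : a - 1 ∈ K := Ideal.Quotient.eq.1 (ha1.trans (map_one (Ideal.Quotient.mk K)).symm)
        exact (IsLocalRing.maximalIdeal.isMaximal (P.presheaf.stalk z)).ne_top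
          ((Ideal.eq_top_iff_one _).2 (by simpa using sub_mem ha (hK ha1)))
      exact length_quot_maximal _ _
    rw [hone]
    simp
  · by_contra h
    obtain ⟨h1, h2⟩ := Groth.L22.C1.secDivFun_ne_zero (δ := δP) h
    by_cases hzm : z ∈ locus p q b im
    · refine h ?_
      have := secOrdAt_gen hdP hL h1 h2 (isGen_sec hzm hzV) 1
      rw [one_smul, TopCat.Presheaf.germ_stalkSpecializes_apply, map_one] at this
      rw [Cyc.secDivFun, dif_pos ⟨h1, h2⟩]
      refine this.trans ?_
      have h3 := Groth.L22.Cyc.ordAt_of_isUnit hdP z y h1 h2 (a := 1) isUnit_one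
      rwa [map_one] at h3
    · have hz' : InLin p q b w (m + 1) z := ⟨hz, fun i hi hmem => by
        rcases Nat.lt_succ_iff_lt_or_eq.1 hi with hlt | heq'
        · exact hy.1.2 i hlt (h1.mem_open (locus p q b i).2 hmem)
        · exact hzm (by rwa [show im = i from Fin.ext heq'.symm])⟩
      have h4 := (hdP y' z (hy'.2 z hz') (Ne.symm hne')).1
      omega

end Groth.L22.Bundle
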