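import Groth.Agent.L22.C1.Basic
import Groth.Agent.L22.IntMult.Stalk
import Groth.Agent.L18.Frame

/-!
A closed subscheme with the universal property of the vanishing locus of a section of an invertible
module is the zero scheme of that section.
-/

set_option autoImplicit false
set_option linter.style.haveILetI false
set_option backward.isDefEq.respectTransparency.types false
set_option backward.isDefEq.respectTransparency false

universe u

open CategoryTheory CategoryTheory.Limits AlgebraicGeometry TopologicalSpace Opposite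
open Groth.L18.Frame (rs ro rs_rs rs_smul rs_self IsFrame pull pull_rs pull_smul)

noncomputable section

namespace Groth.L22.Bundle

variable {X D : Scheme.{u}} (i : D ⟶ X) [IsClosedImmersion i] {L : X.Modules} (hL : PicF.IsInvertible L)
  (s : L.presheaf.obj (Opposite.op ⊤))
  (hUP : ∀ {T : Scheme.{u}} (g : T ⟶ X), (∃ w, w ≫ i = g) ↔ pull g L ⊤ s = 0)

include hUP in
theorem ker_app_of_UP {W : X.Opens} (hW : IsAffineOpen W) {e : Γ(L, W)} (he : IsFrame L W e) {f : Γ(X, W)}
    (hf : rs L le_top s = f • e) : RingHom.ker (i.app W).hom = Ideal.span {f} := by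
  refine le_antisymm (fun a ha => ?_) ((Ideal.span_singleton_le_iff_mem _).2 ?_)
  · let B := CommRingCat.of (Γ(X, W) ⧸ Ideal.span {f})
    let g : Spec B ⟶ X := Spec.map (CommRingCat.ofHom (Ideal.Quotient.mk (Ideal.span {f}))) ≫ hW.fromSpec
    have hg : ⊤ ≤ g ⁻¹ᵁ W := fun x _ => hW.range_fromSpec.le ⟨_, rfl⟩
    have happ : g.appLE W ⊤ hg =
        CommRingCat.ofHom (Ideal.Quotient.mk (Ideal.span {f})) ≫ (Scheme.ΓSpecIso B).inv := by
      have h4 : hW.fromSpec.appLE W ⊤ hW.fromSpec_preimage_self.ge = (Scheme.ΓSpecIso Γ(X, W)).inv := by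
        rw [Scheme.Hom.appLE, hW.fromSpec_app_self, Category.assoc, ← Functor.map_comp]
        exact (congrArg ((Scheme.ΓSpecIso Γ(X, W)).inv ≫ ·) ((Spec Γ(X, W)).presheaf.map_id _)).trans
          (Category.comp_id _)
      rw [← Scheme.Hom.appLE_comp_appLE _ hW.fromSpec W ⊤ ⊤ hW.fromSpec_preimage_self.ge le_top, h4,
        show (Spec.map (CommRingCat.ofHom (Ideal.Quotient.mk (Ideal.span {f})))).appLE ⊤ ⊤ le_top =
          (Spec.map (CommRingCat.ofHom (Ideal.Quotient.mk (Ideal.span {f})))).appTop from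
          (Scheme.Hom.app_eq_appLE _).symm, Scheme.ΓSpecIso_inv_naturality]
      rfl
    have h0 : g.appLE W ⊤ hg f = 0 := by
      rw [happ, CommRingCat.comp_apply]
      show (Scheme.ΓSpecIso B).inv (Ideal.Quotient.mk _ f) = 0
      rw [Ideal.Quotient.eq_zero_iff_mem.2 (Ideal.mem_span_singleton_self f), map_zero]
    obtain ⟨w, hw⟩ := (hUP g).2 (by
      have h1 : rs _ hg (pull g L W (rs L le_top s)) = 0 := by
        rw [hf, pull_smul, rs_smul, show ro hg (g.app W f) = g.appLE W ⊤ hg f from rfl, h0]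
        exact zero_smul _ _
      rw [← pull_rs, rs_rs] at h1
      have h2 := congrArg (rs _ (le_top : g ⁻¹ᵁ (⊤ : X.Opens) ≤ ⊤)) h1
      rw [rs_rs, rs_self] at h2
      exact h2.trans (map_zero _))
    have hwW : ⊤ ≤ w ⁻¹ᵁ (i ⁻¹ᵁ W) := fun x _ => by
      show (w ≫ i) x ∈ W
      rw [hw]; exact hg trivial
    have h5 : g.appLE W ⊤ hg a = 0 := by
      have e1 : (w ≫ i).appLE W ⊤ hwW = i.app W ≫ w.appLE (i ⁻¹ᵁ W) ⊤ hwW := Scheme.Hom.comp_appLE w i W ⊤ hwW
      simp only [hw] at e1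
      rw [e1, CommRingCat.comp_apply, show i.app W a = 0 from ha, map_zero]
    rw [happ, CommRingCat.comp_apply] at h5
    have h6 := congrArg (Scheme.ΓSpecIso B).hom h5
    rw [map_zero, ← CommRingCat.comp_apply, Iso.inv_hom_id] at h6
    exact Ideal.Quotient.eq_zero_iff_mem.1 h6
  · have h1 : pull i L W (rs L le_top s) = 0 := by
      rw [← pull_rs, (hUP i).1 ⟨𝟙 _, Category.id_comp _⟩]
      exact map_zero _
    rw [hf, pull_smul] at h1
    refine (he.pullback i L).inj le_rfl ?_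
    rw [rs_self, zero_smul]
    exact h1

include hL hUP in
theorem isZeroSchemeOf_of_UP : Cyc.IsZeroSchemeOf i L s := by
  have hloc : ∀ (x : X) (O : X.Opens), x ∈ O → ∃ (W : X.Opens) (e : Γ(L, W)) (f : Γ(X, W)),
      IsAffineOpen W ∧ x ∈ W ∧ W ≤ O ∧ IsFrame L W e ∧ rs L le_top s = f • e := fun x O hxO => by
    obtain ⟨W₀, e₀, hx₀, he₀⟩ := Groth.L18.Frame.exists_frame hL x
    obtain ⟨W, hW, hxW, hWO⟩ := exists_isAffineOpen_mem_and_subset (x := x) (U := W₀ ⊓ O) ⟨hx₀, hxO⟩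
    have h1 : W ≤ W₀ := fun y hy => (hWO hy).1
    obtain ⟨f, hf⟩ := (he₀.mono h1).exists_coeff le_rfl (rs L le_top s)
    rw [rs_self] at hf
    exact ⟨W, rs L h1 e₀, f, hW, hxW, fun y hy => (hWO hy).2, he₀.mono h1, hf.symm⟩
  have hgerm : ∀ {x : X} {W : X.Opens} (hx : x ∈ W) {e : Γ(L, W)} {f : Γ(X, W)}, rs L le_top s = f • e →
      L.presheaf.germ ⊤ x trivial s = X.presheaf.germ W x hx f • L.presheaf.germ W x hx e := by
    intro x W hx e f hf
    rw [← Groth.L20.ModStalk.germ_smul, ← hf]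
    exact (TopCat.Presheaf.germ_res_apply L.presheaf (homOfLE le_top) x hx s).symm
  refine ⟨Set.ext fun x => ⟨?_, fun hx => by_contra fun hx' => ?_⟩, fun d => ?_⟩
  · rintro ⟨d, rfl⟩
    obtain ⟨W, e, f, hW, hdW, -, he, hf⟩ := hloc (i d) ⊤ trivial
    show Groth.L22.C1.mk L _ = 0
    rw [hgerm hdW hf, Groth.L22.C1.mk_smul_eq_zero_iff hL (Groth.L22.C1.isGen_germ he hdW)]
    refine (IsLocalRing.residue_eq_zero_iff _).2 ((IsLocalRing.le_maximalIdeal (RingHom.ker_ne_top (i.stalkMap d).hom))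
      ?_)
    rw [Groth.L20.Infinitesimal.ker_stalkMap, Groth.L20.SeeNormal.sI_eq i.ker ⟨W, hW⟩ hdW,
      Scheme.Hom.ker_apply, ker_app_of_UP i s hUP hW he hf]
    exact Ideal.mem_map_of_mem _ (Ideal.mem_span_singleton_self f)
  · let O : X.Opens := ⟨(Set.range ⇑i)ᶜ, i.isClosedEmbedding.isClosed_range.isOpen_compl⟩
    obtain ⟨W, e, f, hW, hxW, hWO, he, hf⟩ := hloc x O hx'
    have hker : RingHom.ker (i.app W).hom = ⊤ := by
      refine eq_top_iff.2 fun a _ => ?_
      have : Subsingleton Γ(D, i ⁻¹ᵁ W) := by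
        have he : i ⁻¹ᵁ W = ⊥ := le_bot_iff.1 fun d hd => (hWO hd ⟨d, rfl⟩).elim
        rw [he]
        infer_instance
      exact Subsingleton.elim _ _
    rw [ker_app_of_UP i s hUP hW he hf, Ideal.span_singleton_eq_top] at hker
    have hx2 : Groth.L22.C1.mk L (L.presheaf.germ ⊤ x trivial s) = 0 := hx
    rw [hgerm hxW hf, Groth.L22.C1.mk_smul_eq_zero_iff hL (Groth.L22.C1.isGen_germ he hxW)] at hx2
    exact ((hker.map (X.presheaf.germ W x hxW).hom).map (X.residue x).hom).ne_zero hx2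
  · obtain ⟨W, e, f, hW, hdW, -, he, hf⟩ := hloc (i d) ⊤ trivial
    refine ⟨_, _, Groth.L22.C1.isGen_germ he hdW, hgerm hdW hf, ?_⟩
    rw [Groth.L20.Infinitesimal.ker_stalkMap, Groth.L20.SeeNormal.sI_eq i.ker ⟨W, hW⟩ hdW,
      Scheme.Hom.ker_apply, ker_app_of_UP i s hUP hW he hf, Ideal.map_span, Set.image_singleton]

end Groth.L22.Bundle
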